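import Cfsg.Agent.H3L.Mod

/-! Project H3L: finite checks. -/

set_option autoImplicit false
set_option maxRecDepth 100000
set_option synthInstance.maxSize 4096
set_option Elab.async false

namespace Cfsg.Agent.H3L

open H24 H24.SL5 H76 S3702

theorem X_uniq : ∀ c d : V4, let m : Mx := (b0, (1, 1, 1, 1), c, d)
    ap m (ap m (ap m b1)) = b1 → ap m (ap m (ap m b2)) = b2 → ap m (ap YM (ap m (ap YM b0))) = -b0 →
      ap m (ap YM (ap m (ap YM b1))) = -b1 → m = XM := by decide +kernel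

theorem exists_w5 (l : SL5) : ∃ w ∈ LW, l = w5 w := by
  have := MC3.sl_all (P := fun c => (LW.map c5).any (· == c)) (by decide +kernel) l
  simp only [List.any_eq_true, List.mem_map, beq_iff_eq] at this
  obtain ⟨_, ⟨w, hw, rfl⟩, e⟩ := this
  exact ⟨w, hw, enc_injective (by rw [enc_w5, e])⟩

theorem LW_ok : ∀ w ∈ LW, ∀ i ∈ w, i = 0 ∨ i = 1 := by decide +kernel

theorem lam_stab : ∀ w ∈ LW, ∀ v, ap XM v = v → v ≠ 0 → lam w v = v → w ∈ [[], [0], [0, 0]] := by decide +kernel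

theorem lam_norm : ∀ w ∈ LW, ap XM (lam w b0) = lam w b0 → ∃ i : F3, ∃ k < 4,
    c5 w = mu (c5 (List.replicate i.val 0)) (c5 ((List.replicate k [1, 1, 1, 0, 1, 1, 1, 0, 0, 1]).flatten)) := by
  decide +kernel

theorem lam_orb : ∀ v, ∃ w ∈ LW, ap XM (lam w v) = lam w v := by decide +kernel

theorem lam_g : ∀ v, lam [1, 1, 1, 0, 1, 1, 1, 0, 0, 1] v = ap GM v := by decide +kernel

theorem w5_g : w5 [1, 1, 1, 0, 1, 1, 1, 0, 0, 1] = MC3.g5 := enc_injective (by rw [enc_w5]; decide +kernel)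

theorem sl_comm (a b : SL5) (ha : a ^ 3 = 1) (hb : b ^ 3 = 1) (h1 : a * b * a⁻¹ * b⁻¹ * a = a * (a * b * a⁻¹ * b⁻¹)) :
    a * b * a⁻¹ * b⁻¹ = 1 := by
  have key : (allc.filter fun a => mu a (mu a a) == one4).all (fun a => (allc.filter fun a => mu a (mu a a) == one4).all
      fun b => mu (mu (mu (mu a b) (iv a)) (iv b)) a != mu a (mu (mu (mu a b) (iv a)) (iv b)) ||
        mu (mu (mu a b) (iv a)) (iv b) == one4) = true := by decide +kernel
  have m : ∀ a : SL5, a ^ 3 = 1 → enc a ∈ allc.filter fun a => mu a (mu a a) == one4 := fun a ha =>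
    List.mem_filter.2 ⟨enc_mem a, by rw [← enc_mul, ← enc_mul, ← pow_three, ha, enc_one]; simp⟩
  have := List.all_eq_true.1 (List.all_eq_true.1 key _ (m a ha)) _ (m b hb)
  simp only [← enc_inv, ← enc_mul, ← enc_one, Bool.or_eq_true, bne_iff_ne, beq_iff_eq, ne_eq, enc_inj] at this
  exact this.resolve_left fun e => e h1

theorem pin : ∀ p, p ≠ 0 → (∀ d, fm p d b0 = 0 → fm p (ap XM d - d) d = 0) → p = p0' ∨ p = -p0' := by decide +kernel

theorem pin2 : ¬ ∀ d, fm p0' d v2 = 0 → fm p0' (ap XM d - d) d = 0 := by decide +kernel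

end Cfsg.Agent.H3L
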