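import Cfsg.Agent.H3L.Mod

/-! Project H3L: finite checks. -/

set_option autoImplicit false
set_option maxRecDepth 100000
set_option synthInstance.maxSize 4096
set_option Elab.async false

namespace Cfsg.Agent.H3L

open H24 H24.SL5 H76 S3702

theorem lam_fc : ∀ α β : V4, ap XM α = α → ap XM β = β →
    let U : Mx := (-b0, b1 + α + α, b2 + β + β, -v2 - (b2 + β + β))
    ∀ w ∈ LW, ap U (ap YM (ap U b0)) = lam w b0 → ap U (ap YM (ap U b1)) = lam w b1 →
      ap U (ap YM (ap U b2)) = lam w b2 → ∃ w' ∈ LW, lam w' (b1 + α + (b2 + β)) = v2 := by decide +kernel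

theorem cent_card : ∀ p, p ≠ 0 → ∀ d, ap XM d ≠ d → (Finset.univ.filter fun u =>
    sm p (d, 0, 0) (j0 u) = sm p (j0 u) (d, 0, 0)).card ≤ 9 := by decide +kernel

end Cfsg.Agent.H3L
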