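import Cfsg.Agent.H3L.Mod

/-! Project H3L: finite checks. -/

set_option autoImplicit false
set_option maxRecDepth 100000
set_option synthInstance.maxSize 4096
set_option Elab.async false

namespace Cfsg.Agent.H3L

open H24 H24.SL5 H76 S3702 OR.A9

theorem fm_nd : ∀ p, p ≠ 0 → ∀ w, w ≠ 0 → ∀ k, ∃ d ∈ [0, b0, -b0, b1, -b1, b2, -b2, b3, -b3], fm p d w = k := by
  decide +kernel

theorem fm_perp : ∀ p, p ≠ 0 → ∀ v, ap XM v = v → v ≠ 0 →
    ∃ d ∈ [((1, 0, 0, 0) : V4), (0, 0, 1, 1), (0, 2, 2, 0), (2, 1, 1, 1), (1, 1, 2, 0), (1, 0, 2, 0)],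
    ∃ e ∈ [((1, 0, 0, 0) : V4), (0, 0, 1, 1), (0, 2, 2, 0), (2, 1, 1, 1), (1, 1, 2, 0), (1, 0, 2, 0)],
      fm p d v = 0 ∧ fm p e v = 0 ∧ fm p d e ≠ 0 := by decide +kernel

theorem fm_card : ∀ p, p ≠ 0 → ∀ v, ap XM v = v → v ≠ 0 → (Finset.univ.filter fun w => fm p w v = 0).card ≤ 27 := by
  decide +kernel

theorem X_sub : ∀ i d, ap XM (d + ap (XP i) (-d)) = d + ap (XP i) (-d) := by decide +kernel

theorem XP_fix : ∀ v, ap XM v = v → ∀ i, ap (XP i) v = v := by decide +kernel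

theorem XP_zero : ∀ v, ap (XP 0) v = v := by decide +kernel

theorem XP_two : ∀ v, ap (XP 2) v = ap XM (ap XM v) := by decide +kernel

theorem fm_anti (p : F3 × F3) (u w : V4) : fm p u w = -fm p w u := by simp only [fm]; ring

theorem lam_ne : ∀ v, v ≠ 0 → ap XM v ≠ 0 ∧ ap YM v ≠ 0 := by decide +kernel

theorem d1_act : ∀ u, sm p0' (b1, 0, 0) (j0 u) = sm p0' (j0 (ap D1 u)) (b1, 0, 0) := by decide +kernel

theorem d2_act : ∀ u, sm p0' (b2, 0, 0) (j0 u) = sm p0' (j0 (ap D2 u)) (b2, 0, 0) := by decide +kernel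

theorem g_act : ∀ u, j0 (ap GJ u) = (ap GM (j0 u).1, u.1, -u.2.2.2) := by decide +kernel

theorem wu_act : ∀ u, apw gs [3, 1, 3, 1] u = -u := by decide +kernel

theorem ni_act : ∀ u, ap NI u = -u := by decide +kernel

theorem im_act : ∀ u, ap IM u = u := by decide +kernel

theorem cl_lt : ∀ u, cl u = 0 ∨ cl u = 1 ∨ cl u = 2 ∨ cl u = 3 ∨ cl u = 4 ∨ cl u = 5 := by decide +kernel

theorem tj_add (v w : V3) (k l : F3) : tj (v + w) (k + l) = tj v k + tj w l := ap_add TM (_, _, _, _) (_, _, _, _)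

theorem ti_tj : ∀ v k, ap TI (tj v k) = (v.1, v.2.1, v.2.2, k) := by decide +kernel

theorem tj_ti : ∀ u, tj ((ap TI u).1, (ap TI u).2.1, (ap TI u).2.2.1) (ap TI u).2.2.2 = u := by decide +kernel

theorem mi_tj (i : Fin 24) (v : V3) (k : F3) : mi i (tj v k) = tj (act i v) k := by rw [mi, ti_tj]

theorem act_ml (i j : Fin 24) (v : V3) : act (ml i j) v = act i (act j v) := by
  have := tv_cj (lv i * lv j) v
  rw [← conj_conj', tv_cj, tv_cj] at this
  exact congrArg M.v this.symm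
where conj_conj' {a b c : M} : a * (b * c * b⁻¹) * a⁻¹ = a * b * c * (a * b)⁻¹ := by group

theorem mi_ml (i j : Fin 24) (u : V4) : mi (ml i j) u = mi i (mi j u) := by
  rw [← tj_ti u, mi_tj, mi_tj, mi_tj, act_ml]

theorem act_zero' : ∀ v : V3, S3702.act 0 v = v := by decide +kernel

theorem act_two : ∀ v : V3, S3702.act 2 v = (-v.1, -v.2.1, v.2.2) := by decide +kernel

theorem act_ext : ∀ i j, act i (1, 0, 0) = act j (1, 0, 0) → act i (0, 1, 0) = act j (0, 1, 0) →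
    act i (0, 0, 1) = act j (0, 0, 1) → i = j := by decide +kernel

theorem no_q8 : ∀ i j, ml i i = ml j j → ml i i = ml (ml i j) (ml i j) → ml i i = 0 := by decide +kernel

theorem ws_act : let f := apw gs [2, 1, 2, 3]
    (∀ u, f (f u) = u) ∧ (∀ u, f (mi 2 u) = mi 2 (f u)) ∧ f b2 = tj (0, 0, 1) 0 ∧ f (tj (1, 0, 0) 0) = tj (1, 0, 0) 0 := by
  decide +kernel

theorem wg_act : let f := apw gs [2, 2, 1, 3, 2, 3]
    (∀ u, f (mi 2 u) = mi 2 (f u)) ∧ f b2 = tj (0, 0, 1) 0 + b2 ∧ f (tj (0, 0, 1) 0) = tj (0, 0, 1) 0 + -b2 ∧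
      f (tj (1, 0, 0) 0) = tj (1, 1, 0) 0 := by
  decide +kernel

theorem q8_act : let i := apw gs [3, 1]; let j := apw gs [1, 3]; let d := apw gs [0, 1]
    (∀ u, i (i u) = -u) ∧ (∀ u, j (j u) = -u) ∧ (∀ u, i (j (i (j u))) = -u) ∧ (∀ u, i (d u) = d (i u)) ∧
      ∀ u, j (d u) = d (j u) := by
  decide +kernel

theorem act_0 : ∀ i, S3702.act i 0 = 0 := by decide +kernel

theorem tj_0 : ∀ k, tj 0 k = k • b2 := by decide +kernel

theorem tj_neg : ∀ v, -tj v 0 = tj (-v) 0 := by decide +kernel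

theorem ins_fus : ins true false (tj (1, 1, 0) 0 + b2) = true := by decide +kernel

theorem ins_Y : ∀ k l : F3, ((k, l, 0, 0) : V4) ≠ 0 → ins true false (k, l, 0, 0) = true := by decide +kernel

theorem tj_inj {v w : V3} {k l : F3} (e : tj v k = tj w l) : v = w ∧ k = l := by
  have := congrArg (ap TI) e
  simp only [ti_tj, Prod.mk.injEq] at this
  exact ⟨Prod.ext this.1 (Prod.ext this.2.1 this.2.2.1), this.2.2.2⟩

theorem mi_inj {i j : Fin 24} (e : ∀ u, mi i u = mi j u) : i = j := by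
  have : ∀ v, S3702.act i v = S3702.act j v := fun v => (tj_inj (k := 0) (l := 0) (by rw [← mi_tj, ← mi_tj, e])).1
  exact act_ext i j (this _) (this _) (this _)

theorem mi_zero (u : V4) : mi 0 u = u := by rw [← tj_ti u, mi_tj, act_zero']

theorem apw_ind {P : (V4 → V4) → Prop} (h1 : P fun u => u) (hc : ∀ f g, P f → P g → P fun u => f (g u)) {L : List Mx}
    (hL : ∀ m ∈ L, P (ap m)) : ∀ w, P (apw L w)
  | [] => h1
  | i :: w => hc (ap (L.getD i IM)) (apw L w) (by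
      rcases lt_or_ge i L.length with hi | hi
      · rw [List.getD_eq_getElem _ _ hi]; exact hL _ (List.getElem_mem hi)
      · rw [List.getD_eq_default _ _ hi, show ap IM = fun u => u from funext im_act]; exact h1) (apw_ind h1 hc hL w)

theorem w5_append (w' : List ℕ) : ∀ w, w5 (w ++ w') = w5 w * w5 w'
  | [] => (one_mul _).symm
  | i :: w => by rw [List.cons_append, w5, w5, w5_append w' w, mul_assoc]

theorem w5_rep : ∀ n, w5 (List.replicate n 0) = A ^ n
  | 0 => rfl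
  | n + 1 => by rw [List.replicate_succ, w5, w5_rep n, if_pos rfl, pow_succ']

theorem w5_flat (w : List ℕ) : ∀ n, w5 (List.replicate n w).flatten = w5 w ^ n
  | 0 => rfl
  | n + 1 => by rw [List.replicate_succ, List.flatten_cons, w5_append, w5_flat w n, pow_succ']

end Cfsg.Agent.H3L
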