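import Cfsg.Agent.H3L.Mod

/-! Project H3L: finite checks. -/

set_option autoImplicit false
set_option maxRecDepth 100000
set_option synthInstance.maxSize 4096
set_option Elab.async false

namespace Cfsg.Agent.H3L

open H24 H24.SL5 H76 S3702

theorem cl_orb : ∀ u, ∃ w ∈ W72, apw [D1, D2, GJ, NI] w (rp (cl u)) = u := by decide +kernel

theorem sig : ∀ c d : V4, let m : Mx := (b0 + b1, b1, c, d)
    ap m (ap m (ap m b2)) = b2 → ap m (ap m (ap m b3)) = b3 → ∀ b b', (∀ u, ins b b' (ap m u) = ins b b' u) →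
      b = true ∧ b' = false ∧ ∃ w ∈ W9, ∀ u, ap m (apw [D1, D2] w u) = ap R0 u := by decide +kernel

theorem sig_trans : ∀ u, ins true false u = true → ∃ w ∈ W32, apw gs w b0 = u := by decide +kernel

theorem q_act : ∀ d, ∃ w ∈ W9, ∀ u, sm p0' (d, 0, 0) (j0 u) = sm p0' (j0 (apw gs w u)) (d, 0, 0) := by decide +kernel

theorem mi_word : ∀ i : Fin 24, ∀ u, mi i u = apw gs (W24.getD i.val []) u := by decide +kernel

theorem stab_a : ∀ w ∈ W32, ∀ w' ∈ W9, ∀ k < 4, let f := apw gs (w ++ w' ++ List.replicate k 2)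
    f b2 = b2 → ∃ i : Fin 24, f b0 = mi i b0 ∧ f b1 = mi i b1 ∧ f b2 = mi i b2 ∧ f b3 = mi i b3 := by decide +kernel

end Cfsg.Agent.H3L
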