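import Cfsg.Agent.H3L.Ca
import Cfsg.Agent.H1.AltAut

/-! `N(⟨a⟩) = ⟨a⟩ ⋊ S₉`. -/

set_option autoImplicit false
set_option maxRecDepth 100000
set_option synthInstance.maxSize 4096

namespace Cfsg.Agent.H3L

open Subgroup Equiv Function H49 OR.A9 S3702 MC3
open Cfsg.Agent.H76 (V3)
open scoped IsMulCommutative

variable {G : Type*} [Group G] [Finite G]

theorem f_c9 : ∀ v, c9 * p0 v * (c9 * p0 v) = 1 → ∃ w, p0 w * (c9 * p0 v) * (p0 w)⁻¹ = c9 := by decide +kernel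

theorem f_inv : ∀ v : V3, ∃ u w, tv v = tv u * tv w ∧ (∃ i, act i u = -u) ∧ ∃ i, act i w = -w := fun v =>
  ⟨(v.1, 0, 0), (0, v.2), by revert v; decide +kernel⟩

theorem cent_p0' {x t : S9} (h : ∀ v, x * p0 v * x⁻¹ = t * p0 v * t⁻¹) : ∃ v, x = t * p0 v := by
  have h1 : ∀ v, Commute (t⁻¹ * x) (p0 v) := fun v => by
    show _ * _ = _ * _
    calc t⁻¹ * x * p0 v = t⁻¹ * (x * p0 v * x⁻¹) * x := by group
      _ = _ := by rw [h]; group
  obtain ⟨v, hv⟩ := cent_p0 (h1 _) (h1 _) (h1 _)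
  exact ⟨v, by rw [← hv, mul_inv_cancel_left]⟩

namespace Loc

variable {ψ : M →* G} {J : Subgroup G} {a u c s g : G} (h : Loc ψ J a u c s g)
include h

theorem mC (m : M) : ψ m ∈ 𝒞[a] := mem_cent1.2 (h.comm m).symm

theorem quot' : ∃ F : G → S9, PH 𝒞[a] F ∧ (∀ x ∈ 𝒞[a], Perm.sign (F x) = 1) ∧
    (∀ σ, Perm.sign σ = 1 → ∃ x ∈ 𝒞[a], F x = σ) ∧ (∀ x ∈ 𝒞[a], F x = 1 ↔ x ∈ zpowers a) ∧
    (∀ v, F (ψ (tv v)) = p0 v) ∧ F c = c9 := by
  obtain ⟨f, fs, fk⟩ := h.quot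
  obtain ⟨F, hF, e⟩ := exists_PH ((alternatingGroup (Fin 9)).subtype.comp f)
  have ev : ∀ x ∈ 𝒞[a], Perm.sign (F x) = 1 := fun x hx => by rw [e ⟨x, hx⟩]; exact (f _).2
  have fk' : ∀ x ∈ 𝒞[a], F x = 1 ↔ x ∈ zpowers a := fun x hx => by
    rw [e ⟨x, hx⟩, ← fk ⟨x, hx⟩]; exact OneMemClass.coe_eq_one
  obtain ⟨π, hπ⟩ := norm9 (f := hF.hom.comp (ψ.codRestrict _ h.mC)) ((injective_iff_map_eq_one _).2 fun m e =>
    h.disj m ((fk' _ (h.mC m)).1 e)) fun m => ev _ (h.mC m)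
  replace hπ : ∀ v, π * F (ψ (tv v)) * π⁻¹ = p0 v := hπ
  have cC : c ∈ 𝒞[a] := mem_cent1.2 h.ca
  obtain ⟨v, hv⟩ := cent_p0' (x := π * F c * π⁻¹) (t := c9) fun v => by
    rw [← (by decide +kernel : ∀ v : V3, p0 (-v.1, -v.2.1, v.2.2) = c9 * p0 v * c9⁻¹) v, ← hπ, ← hπ, ← h.cv,
      hF.conj cC (h.mC _)]
    group
  obtain ⟨w, hw⟩ := f_c9 v (by
    rw [← hv, conj_mul, ← hF.mul _ cC _ cC, h.cc, hF.one, mul_one, mul_inv_cancel])
  refine ⟨fun x => MulAut.conj (p0 w * π) (F x), hF.comp (MulAut.conj (p0 w * π)).toMonoidHom, fun x hx => ?_,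
    fun σ hσ => ?_, fun x hx => (map_eq_one_iff _ (MulEquiv.injective _)).trans (fk' x hx), fun v => ?_, ?_⟩
  · simp [ev x hx]
  · obtain ⟨x, hx⟩ := fs ⟨_, (alternatingGroup.normal).conj_mem' σ hσ (p0 w * π)⟩
    refine ⟨x, x.2, ?_⟩
    beta_reduce
    rw [e, MonoidHom.comp_apply, hx, MulAut.conj_apply, coe_subtype]
    group
  · beta_reduce
    rw [map_mul, MulAut.mul_apply, MulAut.conj_apply π, hπ, MulAut.conj_apply, ← p0_add, add_comm, p0_add,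
      mul_inv_cancel_right]
  · beta_reduce
    rw [map_mul, MulAut.mul_apply, MulAut.conj_apply π, hv, MulAut.conj_apply, hw]

/-- the transfer to `⟨a⟩` -/
theorem tau (hc : Nat.card 𝒞[a] = 3 * 181440) : ∃ τ : 𝒞[a] →* zpowers a, ∀ x : 𝒞[a], ∀ hx : (x : G) ∈ zpowers a,
    τ x = ⟨x, hx⟩ := by
  have ZC : zpowers a ≤ 𝒞[a] := zpowers_le.2 (mem_cent1.2 rfl)
  let θ : M × zpowers a →* 𝒞[a] := (ψ.codRestrict _ h.mC).noncommCoprod (inclusion ZC) (by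
    rintro m ⟨_, k, rfl⟩
    exact Subtype.ext (Commute.zpow_right (h.comm m).symm k))
  have inj : Injective θ := (injective_iff_map_eq_one _).2 fun ⟨m, k⟩ e => by
    have e1 : ψ m * k = 1 := congrArg Subtype.val e
    obtain rfl := h.disj m (eq_inv_of_mul_eq_one_left e1 ▸ inv_mem k.2)
    rw [map_one, one_mul] at e1
    exact Prod.ext rfl (Subtype.ext e1)
  have ix : θ.range.index = 280 := by
    have h1 := θ.range.card_mul_index
    rw [← Nat.card_congr (MonoidHom.ofInjective inj).toEquiv, Nat.card_prod, card_M, Nat.card_zpowers, h.a3, hc] at h1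
    omega
  let φ : θ.range →* zpowers a := (MonoidHom.snd _ _).comp (MonoidHom.ofInjective inj).symm.toMonoidHom
  have hφ : ∀ k : zpowers a, ∀ x : θ.range, ((x : 𝒞[a]) : G) = k → φ x = k := fun k x e => by
    rw [show x = MonoidHom.ofInjective inj (1, k) from Subtype.ext (Subtype.ext (e.trans (by
      show _ = ψ 1 * k
      rw [map_one, one_mul])))]
    exact congrArg Prod.snd ((MonoidHom.ofInjective inj).symm_apply_apply _)
  refine ⟨MonoidHom.transfer φ, fun x hx => ?_⟩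
  rw [MonoidHom.transfer_eq_pow φ x fun k y _ => Subtype.ext (by
    obtain ⟨j, hj⟩ := hx
    have : Commute (y : G) x := hj ▸ Commute.zpow_right (mem_cent1.1 y.2) j
    rw [coe_mul, coe_mul, coe_inv, coe_pow, mul_assoc, ← (this.pow_right k).eq, inv_mul_cancel_left])]
  refine hφ _ _ ?_
  have h3 : (x : G) ^ 3 = 1 := by
    have := pow_card_eq_one' (x := (⟨x, hx⟩ : zpowers a))
    rw [Nat.card_zpowers, h.a3] at this
    exact congrArg Subtype.val this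
  show (x : G) ^ θ.range.index = x
  rw [ix, show 280 = 3 * 93 + 1 by rfl, pow_succ, pow_mul, h3, one_pow, one_mul]

theorem ch : ∃ χ : S9 →* G, Ch χ a s g := by
  obtain ⟨F, hF, ev, fs, fk, Fv, Fc⟩ := h.quot'
  have ZC : zpowers a ≤ 𝒞[a] := zpowers_le.2 (mem_cent1.2 rfl)
  obtain ⟨τ, hτ⟩ := h.tau (by
    rw [hF.card fk, inf_eq_left.2 ZC, Nat.card_zpowers, h.a3,
      show hF.im = alternatingGroup (Fin 9) from Subgroup.ext fun σ => hF.mem_im.trans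
        ⟨fun ⟨x, hx, e⟩ => e ▸ ev x hx, fs σ⟩]
    have := two_mul_nat_card_alternatingGroup (α := Fin 9)
    rw [Nat.card_perm, Nat.card_eq_fintype_card (α := Fin 9), Fintype.card_fin] at this
    rw [show Nat.factorial 9 = 2 * 181440 by decide] at this
    rw [Nat.eq_of_mul_eq_mul_left two_pos this])
  have τ3 : ∀ x, τ x ^ 2 = 1 → τ x = 1 := fun x e => H43.eq_one_of_pow_coprime (by decide : Nat.Coprime 2 3) e (by
    rw [← h.a3, ← Nat.card_zpowers, pow_card_eq_one'])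
  let A := alternatingGroup (Fin 9)
  let β : τ.ker ≃* A := MulEquiv.ofBijective ((hF.hom.comp τ.ker.subtype).codRestrict A fun x => ev _ x.1.2)
    ⟨(injective_iff_map_eq_one _).2 fun x e => Subtype.ext (Subtype.ext (congrArg
      (fun y : zpowers a => (y : G)) ((hτ x ((fk _ x.1.2).1 (congrArg Subtype.val e))).symm.trans x.2))), fun σ => by
      obtain ⟨x, hx, e⟩ := fs σ σ.2
      refine ⟨⟨⟨x, hx⟩ * (inclusion ZC (τ ⟨x, hx⟩))⁻¹, ?_⟩, Subtype.ext ?_⟩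
      · rw [MonoidHom.mem_ker, map_mul, map_inv, hτ (inclusion ZC _) (τ _).2]
        exact mul_inv_cancel _
      · show F (x * (τ ⟨x, hx⟩ : G)⁻¹) = σ
        rw [hF.div hx (ZC (τ _).2), (fk _ (ZC (τ _).2)).2 (τ _).2, e, inv_one, mul_one]⟩
  obtain ⟨α, hα, eα⟩ := exists_PH ((𝒞[a].subtype.comp τ.ker.subtype).comp β.symm.toMonoidHom)
  have αC : ∀ σ ∈ A, α σ ∈ 𝒞[a] := fun σ hσ => by rw [eα ⟨σ, hσ⟩]; exact (β.symm _).1.2
  have Fα : ∀ σ ∈ A, F (α σ) = σ := fun σ hσ => by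
    rw [eα ⟨σ, hσ⟩]; exact congrArg Subtype.val (β.apply_symm_apply ⟨σ, hσ⟩)
  have αF : ∀ x : 𝒞[a], τ x = 1 → α (F x) = x := fun x hx => (eα (β ⟨x, hx⟩)).trans
    (congrArg (fun y : τ.ker => ((y : 𝒞[a]) : G)) (β.symm_apply_apply ⟨x, hx⟩))
  have αv : ∀ v, α (p0 v) = ψ (tv v) := fun v => by
    obtain ⟨τ', hτ'⟩ : ∃ τ' : M →* zpowers a, τ' = τ.comp (ψ.codRestrict _ h.mC) := ⟨_, rfl⟩
    have h1 : ∀ u, (∃ i, act i u = -u) → τ' (tv u) = 1 := fun u ⟨i, hi⟩ => by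
      have h2 := congrArg τ' (tv_cj (lv i) u)
      rw [map_mul, map_mul, map_inv, mul_inv_cancel_comm, show act (lv i).i u = -u from hi] at h2
      rw [hτ'] at h2 ⊢
      refine τ3 _ ?_
      show τ.comp (ψ.codRestrict _ h.mC) (tv u) ^ 2 = 1
      rw [sq]
      nth_rewrite 1 [h2]
      rw [← map_mul, ← tv_add, neg_add_cancel]
      exact map_one _
    obtain ⟨u, w, e, h2, h3⟩ := f_inv v
    rw [← Fv]
    refine αF ⟨_, h.mC _⟩ ?_
    show τ.comp (ψ.codRestrict _ h.mC) (tv v) = 1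
    rw [← hτ', e, map_mul, h1 u h2, h1 w h3, mul_one]
  have αc : α c9 = c := Fc ▸ αF ⟨c, mem_cent1.2 h.ca⟩ (τ3 _ (by
    rw [← map_pow, show (⟨c, mem_cent1.2 h.ca⟩ : 𝒞[a]) ^ 2 = 1 from Subtype.ext ((sq c).trans h.cc), map_one]))
  have uC : ∀ x ∈ 𝒞[a], u * x * u⁻¹ ∈ 𝒞[a] := fun x hx => by
    have e : Commute x (u * a * u⁻¹) := h.ua ▸ Commute.inv_right (mem_cent1.1 hx)
    have e1 : a = u * (u * a * u⁻¹) * u⁻¹ := by
      rw [show u * (u * a * u⁻¹) * u⁻¹ = u * u * a * (u * u)⁻¹ by group, h.uu]; group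
    rw [mem_cent1, e1, conj_mul, conj_mul, e.eq]
  let κ : A →* 𝒞[a] := ((MulAut.conj u).toMonoidHom.comp hα.hom).codRestrict _ fun σ => uC _ (αC _ σ.2)
  have τκ : ∀ σ, τ (κ σ) = 1 := fun σ => by
    have h1 : commutator A ≤ (τ.comp κ).ker := Abelianization.commutator_subset_ker _
    rw [commutator_alternatingGroup_eq_top (by simp)] at h1
    exact h1 (mem_top σ)
  let lam : A →* A := (hF.hom.comp κ).codRestrict A fun σ => ev _ (κ σ).2
  obtain ⟨ω, hω⟩ := (H1.AltAut.bijective (α := Fin 9) (by simp) (by simp)).2 (MulEquiv.ofBijective lam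
    (Finite.injective_iff_bijective.1 ((injective_iff_map_eq_one _).2 fun σ e => by
      have h1 := αF _ (τκ σ)
      rw [show F (κ σ) = 1 from congrArg Subtype.val e, hα.one] at h1
      have h2 : α σ = 1 := conj_eq_one_iff.1 h1.symm
      exact Subtype.ext (by rw [← Fα σ σ.2, h2, hF.one]; rfl))))
  have key : ∀ σ ∈ A, u * α σ * u⁻¹ = α (ω * σ * ω⁻¹) := fun σ hσ => by
    have h1 : ω * σ * ω⁻¹ = F (κ ⟨σ, hσ⟩) := (MulAut.conjNormal_apply ω (⟨σ, hσ⟩ : A)).symm.trans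
      (congrArg Subtype.val (DFunLike.congr_fun hω (⟨σ, hσ⟩ : A)))
    rw [h1, αF _ (τκ _)]
    rfl
  have cjA : ∀ σ ∈ A, ∀ ρ, ρ * σ * ρ⁻¹ ∈ A := fun σ hσ ρ => (alternatingGroup.normal).conj_mem σ hσ ρ
  have αi : ∀ σ ∈ A, ∀ ρ ∈ A, α σ = α ρ → σ = ρ := fun σ hσ ρ hρ e => by rw [← Fα σ hσ, e, Fα ρ hρ]
  have ωω : ω * ω = 1 := (H1.AltAut.bijective (α := Fin 9) (by simp) (by simp)).1 (by
    rw [map_one]
    refine MulEquiv.ext fun σ => Subtype.ext ((MulAut.conjNormal_apply _ σ).trans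
      (αi _ (cjA _ σ.2 (ω * ω)) _ σ.2 ?_))
    rw [show ω * ω * σ * (ω * ω)⁻¹ = ω * (ω * σ * ω⁻¹) * ω⁻¹ by group, ← key _ (cjA _ σ.2 ω), ← key _ σ.2,
      show u * (u * α σ * u⁻¹) * u⁻¹ = u * u * α σ * (u * u)⁻¹ by group, h.uu, one_mul, inv_one, mul_one]
    rfl)
  have pA : ∀ v, p0 v ∈ A := (by decide +kernel : ∀ v, Perm.sign (p0 v) = 1)
  have ωo : Perm.sign ω = -1 := by
    obtain ⟨v, rfl⟩ := cent_p0' (x := ω) (t := swap 0 1 * swap 3 4 * swap 6 7) fun v => by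
      rw [← (by decide +kernel : ∀ v : V3, p0 (-v) = swap 0 1 * swap 3 4 * swap 6 7 * p0 v *
        (swap 0 1 * swap 3 4 * swap 6 7)⁻¹) v]
      refine αi _ (cjA _ (pA v) ω) _ (pA _) ?_
      rw [← key _ (pA v), αv, αv, h.uv, ← map_inv, eq_comm, ← mul_inv_eq_one, ← map_inv, ← map_mul, inv_inv, ← tv_add,
        neg_add_cancel]
      exact map_one _
    rw [map_mul, pA v, mul_one]
    decide +kernel
  have key' : ∀ σ ∈ A, u * α σ = α (ω * σ * ω) * u := fun σ hσ => by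
    rw [← mul_inv_eq_iff_eq_mul, key σ hσ, inv_eq_of_mul_eq_one_right ωω]
  have sg : ∀ σ : S9, Perm.sign σ ≠ 1 → Perm.sign σ = -1 := fun σ => (Int.units_eq_one_or _).resolve_left
  have oA : ∀ σ : S9, Perm.sign σ ≠ 1 → σ * ω ∈ A := fun σ e => by
    simp [A, Perm.mem_alternatingGroup, sg _ e, ωo]
  have cjA' : ∀ σ ∈ A, ω * σ * ω ∈ A := fun σ hσ => by
    simpa only [inv_eq_of_mul_eq_one_right ωω] using cjA σ hσ ω
  let χ : S9 →* G := MonoidHom.mk' (fun σ => if Perm.sign σ = 1 then α σ else α (σ * ω) * u) fun σ ρ => by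
    by_cases h1 : Perm.sign σ = 1 <;> by_cases h2 : Perm.sign ρ = 1
    · rw [if_pos h1, if_pos h2, if_pos (by simp [h1, h2]), hα.mul _ h1 _ h2]
    · rw [if_pos h1, if_neg h2, if_neg (by simp [h1, h2]), ← mul_assoc,
        ← hα.mul _ h1 _ (oA _ h2), mul_assoc σ]
    · rw [if_neg h1, if_pos h2, if_neg (by simp [h1, h2]), mul_assoc _ u, key' _ h2, ← mul_assoc,
        ← hα.mul _ (oA _ h1) _ (cjA' _ h2)]
      congr 2
      calc _ = σ * (ω * ω) * ρ * ω := by rw [ωω, mul_one]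
        _ = _ := by group
    · have h3 := oA _ h2
      rw [if_neg h1, if_neg h2, if_pos (by simp [sg _ h1, sg _ h2]), mul_assoc _ u, ← mul_assoc u, key' _ h3,
        mul_assoc _ u, h.uu, mul_one, ← hα.mul _ (oA _ h1) _ (cjA' _ h3)]
      congr 1
      calc _ = σ * (ω * ω) * ρ * (ω * ω) := by rw [ωω, mul_one, mul_one]
        _ = _ := by group
  have χe : ∀ σ, Perm.sign σ = 1 → χ σ = α σ := fun σ e => if_pos e
  have χo : ∀ σ, Perm.sign σ = -1 → σ * ω ∈ A ∧ χ σ = α (σ * ω) * u := fun σ e =>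
    ⟨oA _ (by rw [e]; decide), if_neg (by rw [e]; decide)⟩
  have χv : ∀ v, χ (p0 v) = ψ (tv v) := fun v => (χe _ (pA v)).trans (αv v)
  have χc : χ c9 = c := (χe _ (by decide +kernel)).trans αc
  have od : ∀ σ, Perm.sign σ = -1 → χ σ * a * (χ σ)⁻¹ = a⁻¹ := fun σ e => by
    obtain ⟨h1, h2⟩ := χo σ e
    rw [h2, show α (σ * ω) * u * a * (α (σ * ω) * u)⁻¹ = α (σ * ω) * (u * a * u⁻¹) * (α (σ * ω))⁻¹ by group, h.ua,
      (Commute.inv_right (mem_cent1.1 (αC _ h1))).eq, mul_inv_cancel_right]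
  have disj : ∀ σ, χ σ ∈ zpowers a → σ = 1 := fun σ hσ => by
    rcases Int.units_eq_one_or (Perm.sign σ) with e | e
    · rw [χe σ e] at hσ
      rw [← Fα σ e, (fk _ (αC σ e)).2 hσ]
    · have h1 := od σ e
      rw [mem_cent1.1 (ZC hσ), mul_inv_cancel_right] at h1
      have h2 := orderOf_dvd_of_pow_eq_one (x := a) (n := 2) (by rw [sq]; nth_rewrite 1 [h1]; exact inv_mul_cancel a)
      rw [h.a3] at h2
      exact absurd h2 (by decide)
  have cen : ∀ n ∈ 𝒞[a], ∃ σ, ∃ k ∈ zpowers a, n = k * χ σ := fun n hn =>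
    ⟨F n, n * (α (F n))⁻¹, (fk _ (mul_mem hn (inv_mem (αC _ (ev n hn))))).1 (by
      rw [hF.div hn (αC _ (ev n hn)), Fα _ (ev n hn), mul_inv_cancel]), by
      rw [χe _ (ev n hn), inv_mul_cancel_right]⟩
  refine ⟨χ, (injective_iff_map_eq_one _).2 fun σ e => disj σ (e ▸ one_mem _), h.a3, fun σ e => ?_, od, disj,
    fun n hn => ?_, χv _ ▸ h.fus, h.ss, χc ▸ h.sc, χv _ ▸ h.sa, χv _ ▸ h.s1, χc ▸ h.gc, χv _ ▸ h.ga, χv _ ▸ h.g3,
    by rw [χv, χv]; exact h.g1⟩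
  · rw [χe σ e, mem_cent1.1 (αC σ e), mul_inv_cancel_right]
  · rcases (H43.Alt8.norm_zp3 h.a3).1 hn with e | e
    · exact cen n (mem_cent1.2 e)
    · obtain ⟨σ, k, hk, e1⟩ := cen (n * χ ω) (mem_cent1.2 (by
        rw [mul_assoc, mul_inv_eq_iff_eq_mul.1 (od ω ωo), ← mul_assoc, ← mul_assoc]
        congr 1
        rw [mul_inv_eq_iff_eq_mul, mul_assoc, e, mul_inv_cancel_left]))
      exact ⟨σ * ω⁻¹, k, hk, by rw [map_mul, map_inv, ← mul_assoc, ← e1, mul_inv_cancel_right]⟩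

end Loc

end Cfsg.Agent.H3L
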