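import Cfsg.Agent.H3L.Defs
import Cfsg.Agent.H22.Core

/-! `C(a)/⟨a⟩ ≅ A₉`, normalised on `J`. -/

set_option autoImplicit false
set_option maxRecDepth 100000
set_option synthInstance.maxSize 4096

namespace Cfsg.Agent.H3L

open Subgroup Equiv Function H49 OR.A9 S3702 MC3
open Cfsg.Agent.H76 (V3)
open Cfsg.Agent.H76.T648 (cls)

variable {G : Type*} [Group G] [Finite G]

theorem p0_neg (u : V3) : p0 (-u) = (p0 u)⁻¹ :=
  eq_inv_of_mul_eq_one_left (by rw [← p0_add, neg_add_cancel, p0_zero])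

theorem tv_gen : ∀ v : V3, tv v = tv (1, 0, 0) ^ v.1.val * tv (0, 1, 0) ^ v.2.1.val * tv (0, 0, 1) ^ v.2.2.val := by
  decide +kernel

theorem f_w1 : ∀ u, cls u = 1 → u ≠ 0 ∧ ∃ i, lv i * tv u = tv u * lv i ∧ lv i ^ 4 = 1 ∧ lv i ^ 2 ≠ 1 := by
  decide +kernel

theorem f_w2 : ∀ (n : M) w, act n.i w = w → n ^ 4 = 1 → n ^ 2 ≠ 1 → w ≠ 0 → cls w = 1 := by decide +kernel

theorem f_w3 : ∀ w1 w2 w3 : V3, cls w1 = 1 → cls w2 = 1 → cls w3 = 1 →
    w1 + w2 ≠ 0 ∧ w1 ≠ w2 → w1 + w3 ≠ 0 ∧ w1 ≠ w3 → w2 + w3 ≠ 0 ∧ w2 ≠ w3 → ∃ i, ∃ t ∈ [1, (swap 6 7 : S9)],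
      t * L i * p0 w1 = p0 (1, 0, 0) * (t * L i) ∧ t * L i * p0 w2 = p0 (0, 1, 0) * (t * L i) ∧
      t * L i * p0 w3 = p0 (0, 0, 1) * (t * L i) := by decide +kernel

/-- an even copy of the model in `S₉` is conjugate to the standard one on the translations -/
theorem norm9 {f : M →* S9} (inj : Injective f) (ev : ∀ m, Perm.sign (f m) = 1) :
    ∃ π : S9, ∀ v, π * f (tv v) * π⁻¹ = p0 v := by
  have mB : ∀ (f : M →* S9) g, g ∈ Md.hyp f 0 ↔ ∃ v, f (tv v) = g := fun f g =>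
    exists_congr fun v => and_iff_right rfl
  have e3 : ∀ (f : M →* S9), ∀ g ∈ Md.hyp f 0, g ^ 3 = 1 := fun f g hg => by
    obtain ⟨v, rfl⟩ := (mB f g).1 hg
    rw [← map_pow, (by decide +kernel : ∀ v, tv v ^ 3 = 1), map_one]
  obtain ⟨q, hq⟩ := IsPGroup.nonempty_fixed_point_of_prime_not_dvd_card (hp := ⟨Nat.prime_three⟩)
    (show IsPGroup 3 (Md.hyp f 0) from fun y => ⟨1, Subtype.ext (e3 f y y.2)⟩) (S9 ⧸ FH.range) (by
      have h1 := FH.range.card_mul_index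
      rw [← Nat.card_congr (MonoidHom.ofInjective (f := FH) FM_inj).toEquiv, card_M, Nat.card_perm,
        Nat.card_eq_fintype_card (α := Fin 9), Fintype.card_fin] at h1
      rw [← index_eq_card, show FH.range.index = 560 by simp only [Nat.factorial] at h1; omega]
      decide)
  obtain ⟨π, rfl⟩ := QuotientGroup.mk_surjective q
  let f' : M →* S9 := (MulAut.conj π⁻¹).toMonoidHom.comp f
  have inj' : Injective f' := (MulAut.conj π⁻¹).injective.comp inj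
  have hJ := uniq (ψ := FH) FM_inj (B := Md.hyp f' 0) (fun g hg => by
      obtain ⟨v, rfl⟩ := (mB _ g).1 hg
      have h1 := QuotientGroup.eq.1 (hq ⟨f (tv v), (mB _ _).2 ⟨v, rfl⟩⟩).symm
      simpa [f', mul_assoc] using h1)
    ⟨⟨⟨fun x y => Subtype.ext (by
      obtain ⟨u, hu⟩ := (mB _ _).1 x.2
      obtain ⟨v, hv⟩ := (mB _ _).1 y.2
      rw [coe_mul, coe_mul, ← hu, ← hv, ← map_mul, ← map_mul, ← tv_add, ← tv_add, add_comm])⟩⟩, e3 f'⟩ (by
      have := Nat.card_le_card_of_injective (fun v : V3 => (⟨f' (tv v), (mB _ _).2 ⟨v, rfl⟩⟩ : Md.hyp f' 0))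
        fun u v e => congrArg M.v (inj' (congrArg Subtype.val e))
      simpa using this)
  replace hJ : ∀ g, g ∈ Md.hyp f' 0 ↔ ∃ v, p0 v = g := fun g => (hJ g).trans
    (exists_congr fun v => by rw [show FH (tv v) = p0 v from FM_tv v])
  have rg : ∀ m, ∃ n, FH n = f' m := fun m => (range_FH hJ).ge (mem_inf.2 ⟨by
      simp [f', Perm.mem_alternatingGroup, ev], mem_normalizer_fintype fun y hy => by
      obtain ⟨v, rfl⟩ := (mB _ y).1 hy
      exact (mB _ _).2 ⟨_, (Md.cj m v).symm⟩⟩)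
  have key : ∀ u, cls u = 1 → ∃ w, cls w = 1 ∧ f' (tv u) = p0 w := fun u hu => by
    obtain ⟨w, hw⟩ := (hJ _).1 ((mB _ _).2 ⟨u, rfl⟩)
    obtain ⟨u0, i, h1, h2, h3⟩ := f_w1 u hu
    obtain ⟨n, hn⟩ := rg (lv i)
    have h0 : FH (tv w) = f' (tv u) := (FM_tv w).trans hw
    refine ⟨w, f_w2 n w ?_ (FM_inj ?_) (fun e => h3 (inj' ?_)) ?_, hw.symm⟩
    · have := tv_cj n w
      rw [show n * tv w = tv w * n from FM_inj (show FH _ = FH _ by
        rw [map_mul, map_mul, hn, h0, ← map_mul, ← map_mul, h1]), mul_inv_cancel_right] at this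
      exact (congrArg M.v this).symm
    · show FH _ = FH _
      rw [map_pow, hn, ← map_pow, h2, map_one, map_one]
    · rw [map_pow, ← hn, ← map_pow, e, map_one, map_one]
    · rintro rfl
      rw [p0_zero, eq_comm, map_eq_one_iff _ inj'] at hw
      exact u0 (congrArg M.v hw)
  have ne : ∀ u v w w', f' (tv u) = p0 w → f' (tv v) = p0 w' → u + v ≠ 0 → u ≠ v → w + w' ≠ 0 ∧ w ≠ w' :=
    fun u v w w' h1 h2 h3 h4 => ⟨fun e => h3 (congrArg M.v (inj' (a₁ := tv (u + v)) (a₂ := 1) (by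
      rw [tv_add, map_mul, h1, h2, ← p0_add, e, p0_zero, map_one]))), fun e => h4 (congrArg M.v
      (inj' (a₁ := tv u) (a₂ := tv v) (by rw [h1, h2, e])))⟩
  obtain ⟨w1, c1, e1⟩ := key (1, 0, 0) (by decide +kernel)
  obtain ⟨w2, c2, e2⟩ := key (0, 1, 0) (by decide +kernel)
  obtain ⟨w3, c3, e3⟩ := key (0, 0, 1) (by decide +kernel)
  obtain ⟨i, t, ht, k1, k2, k3⟩ := f_w3 w1 w2 w3 c1 c2 c3
    (ne _ _ _ _ e1 e2 (by decide) (by decide)) (ne _ _ _ _ e1 e3 (by decide) (by decide))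
    (ne _ _ _ _ e2 e3 (by decide) (by decide))
  refine ⟨t * L i * π⁻¹, fun v => ?_⟩
  have : ∀ m, t * L i * π⁻¹ * f m * (t * L i * π⁻¹)⁻¹ = MulAut.conj (t * L i) (f' m) := fun m => by
    simp [f', mul_assoc]
  rw [this, tv_gen v, p0_gen v]
  simp only [map_mul f', map_pow f', e1, e2, e3, map_mul (MulAut.conj (t * L i)), map_pow (MulAut.conj (t * L i))]
  simp only [MulAut.conj_apply, k1, k2, k3, mul_inv_cancel_right]

theorem Loc.quot {ψ : M →* G} {J : Subgroup G} {a u c s g : G} (h : Loc ψ J a u c s g) :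
    ∃ f : 𝒞[a] →* alternatingGroup (Fin 9), Surjective f ∧ ∀ x, f x = 1 ↔ (x : G) ∈ zpowers a := by
  have := Fact.mk Nat.prime_three
  have cZ : ∀ x ∈ 𝒞[a], ∀ k ∈ zpowers a, x * k = k * x := by
    rintro x hx _ ⟨k, rfl⟩
    exact Commute.zpow_right (mem_cent1.1 hx) k
  have ZC : zpowers a ≤ 𝒞[a] := zpowers_le.2 (mem_cent1.2 rfl)
  have k3 : ∀ k ∈ zpowers a, k ^ 3 = 1 := by
    rintro _ ⟨k, rfl⟩
    rw [← zpow_natCast, ← zpow_mul, mul_comm, zpow_mul, zpow_natCast, ← h.a3, pow_orderOf_eq_one, one_zpow]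
  obtain ⟨Z, hZ⟩ : ∃ Z, Z = (zpowers a).subgroupOf 𝒞[a] := ⟨_, rfl⟩
  have mZ : ∀ x, x ∈ Z ↔ (x : G) ∈ zpowers a := fun x => by rw [hZ, mem_subgroupOf]
  have nZ : Z.Normal := ⟨fun x hx y => (mZ _).2 (by
    rw [coe_mul, coe_mul, coe_inv, cZ _ y.2 _ ((mZ _).1 hx), mul_inv_cancel_right]; exact (mZ _).1 hx)⟩
  obtain ⟨π, hπ⟩ : ∃ π, π = QuotientGroup.mk' Z := ⟨_, rfl⟩
  have πs : Surjective π := hπ ▸ QuotientGroup.mk'_surjective Z
  have πk : π.ker = Z := hπ ▸ QuotientGroup.ker_mk' Z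
  have π1 : ∀ x, π x = 1 ↔ (x : G) ∈ zpowers a := fun x =>
    (Subgroup.ext_iff.1 πk x).trans (mZ x)
  let ψ' : M →* 𝒞[a] := ψ.codRestrict _ fun m => mem_cent1.2 (h.comm m).symm
  have mB : ∀ x, x ∈ Md.hyp (π.comp ψ') 0 ↔ ∃ v, π (ψ' (tv v)) = x := fun g =>
    exists_congr fun v => and_iff_right rfl
  have JC : ∀ y ∈ J, ∃ y' : 𝒞[a], (y' : G) = y ∧ π y' ∈ Md.hyp (π.comp ψ') 0 := fun y hy => by
    obtain ⟨v, k, hk, rfl⟩ := (h.memJ y).1 hy
    exact ⟨ψ' (tv v) * ⟨k, ZC hk⟩, rfl, (mB _).2 ⟨v, by rw [map_mul, (π1 ⟨k, ZC hk⟩).2 hk, mul_one]⟩⟩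
  have up : ∀ n : 𝒞[a], π n ∈ 𝒩(Md.hyp (π.comp ψ') 0) → (n : G) ∈ 𝒩(J) := fun n hn =>
    mem_normalizer_fintype fun y hy => by
      obtain ⟨y', rfl, h1⟩ := JC y hy
      obtain ⟨w, hw⟩ := (mB _).1 ((mem_normalizer_iff.1 hn _).1 h1)
      exact (h.memJ _).2 ⟨w, _, (π1 ((ψ' (tv w))⁻¹ * (n * y' * n⁻¹))).1 (by
        rw [map_mul, map_inv, hw, map_mul, map_mul, map_inv, inv_mul_cancel]),
        (mul_inv_cancel_left (ψ (tv w)) _).symm⟩
  have md : Md (π.comp ψ') (Md.hyp (π.comp ψ') 0) := ⟨(injective_iff_map_eq_one _).2 fun m e =>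
    h.disj m ((π1 _).1 e), mB, le_antisymm (fun x hx => by
      obtain ⟨n, rfl⟩ := πs x
      obtain ⟨m, k, hk, e⟩ := h.nrm n (up n hx) (mem_cent1.1 n.2)
      exact ⟨m, by
        rw [show n = ψ' m * ⟨k, ZC hk⟩ from Subtype.ext e, map_mul, (π1 ⟨k, ZC hk⟩).2 hk, mul_one]; rfl⟩) (by
      rintro _ ⟨m, rfl⟩
      exact mem_normalizer_fintype fun y hy => by
        obtain ⟨v, rfl⟩ := (mB y).1 hy
        exact (mB _).2 ⟨_, (Md.cj (ψ := π.comp ψ') m v).symm⟩)⟩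
  have core : ∀ v, pPrimeCore 3 (centralizer ({π.comp ψ' (tv v)} : Set (𝒞[a] ⧸ Z))) = ⊥ := fun v => by
    obtain ⟨E, hE⟩ : ∃ E, E = centralizer ({π.comp ψ' (tv v)} : Set (𝒞[a] ⧸ Z)) := ⟨_, rfl⟩
    have JE := md.le_cent v
    rw [← hE] at JE ⊢
    obtain ⟨n, hn⟩ : ∃ n, n = Nat.card (pPrimeCore 3 E) := ⟨_, rfl⟩
    have n3 : n.Coprime 3 := hn ▸ H22.coprime_card_pPrimeCore
    obtain ⟨R, hR⟩ : ∃ R, R = ((pPrimeCore 3 E).map E.subtype).comap π := ⟨_, rfl⟩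
    have mR : ∀ r, r ∈ R ↔ ∃ e ∈ pPrimeCore 3 E, (e : 𝒞[a] ⧸ Z) = π r := fun r => by rw [hR]; rfl
    obtain ⟨d, hd⟩ : (center R).index ∣ n := by
      have h1 := relIndex_ker R π
      rw [πk] at h1
      nth_rewrite 2 [hR] at h1
      rw [map_comap_eq_self_of_surjective πs, card_map_of_injective E.subtype_injective, ← hn] at h1
      rw [← h1]
      exact index_dvd_of_le fun z hz => mem_center_iff.2 fun y => Subtype.ext (Subtype.ext
        (cZ _ y.1.2 _ ((mZ _).1 hz)))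
    let T : R →* R := MonoidHom.mk' (fun r => r ^ n) fun x y => by
      simp only [hd, pow_mul, ← MonoidHom.transferCenterPow_apply, map_mul, coe_mul]
      exact Commute.mul_pow (mem_center_iff.1 (MonoidHom.transferCenterPow R y).2 _) d
    have h0 := h.core (T.ker.map (𝒞[a].subtype.comp R.subtype)) (fun y hy => mem_normalizer_fintype (by
      rintro _ ⟨r, hr, rfl⟩
      obtain ⟨y', rfl, h1⟩ := JC y hy
      obtain ⟨e, he, e1⟩ := (mR _).1 r.2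
      refine ⟨⟨y' * r * y'⁻¹, (mR _).2 ⟨_, (inferInstance : (pPrimeCore 3 E).Normal).conj_mem e he ⟨_, JE h1⟩, by
        rw [map_mul, map_mul, map_inv, ← e1]; rfl⟩⟩, Subtype.ext ?_, rfl⟩
      show (y' * r * y'⁻¹) ^ n = 1
      rw [conj_pow, show (r : 𝒞[a]) ^ n = 1 from congrArg Subtype.val hr, mul_one, mul_inv_cancel])) (by
      refine ((Nat.Prime.coprime_iff_not_dvd Nat.prime_three).2 fun e => ?_).symm
      obtain ⟨⟨_, r, hr, rfl⟩, e⟩ := exists_prime_orderOf_dvd_card' 3 e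
      rw [← orderOf_coe, orderOf_injective (𝒞[a].subtype.comp R.subtype)
        (𝒞[a].subtype_injective.comp R.subtype_injective)] at e
      exact absurd (Nat.Coprime.eq_one_of_dvd n3.symm (e ▸ orderOf_dvd_of_pow_eq_one hr)) (by decide))
    refine (eq_bot_iff_forall _).2 fun e he => ?_
    obtain ⟨r, hr⟩ := πs e
    have h1 : e ^ n = 1 := congrArg Subtype.val (hn ▸ pow_card_eq_one' (x := (⟨e, he⟩ : pPrimeCore 3 E)))
    have h2 : ((r : G) ^ 3) ^ n = 1 := by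
      rw [← pow_mul, mul_comm, pow_mul]
      exact k3 _ ((π1 (r ^ n)).1 (by rw [map_pow, hr]; exact congrArg Subtype.val h1))
    have h3 : (r : G) ^ 3 = 1 := mem_bot.1 (h0.le ⟨(⟨r, (mR r).2 ⟨e, he, hr.symm⟩⟩ : R) ^ 3,
      Subtype.ext (Subtype.ext (by simpa [T] using h2)), rfl⟩)
    exact H43.eq_one_of_pow_coprime n3 h1 (Subtype.ext (by
      rw [coe_pow, ← hr, ← map_pow, show r ^ 3 = 1 from Subtype.ext h3, map_one]; rfl))
  rcases md.main (core _) (core _) with e | ⟨⟨e⟩⟩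
  · exact absurd (fun x hx => up ⟨x, hx⟩ (e ▸ mem_top _)) h.nle
  · exact ⟨e.toMonoidHom.comp π, e.surjective.comp πs, fun x => e.map_eq_one_iff.trans (π1 x)⟩

end Cfsg.Agent.H3L
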