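import Cfsg.Agent.H3L.DA1

/-! Project H3L: basic facts in `(3 × A₉):2`. See `notes/H3L.md`. -/

set_option autoImplicit false

namespace Cfsg.Agent.H3L

open Subgroup Equiv Function H49 OR.A9 S3702 MC3

variable {G : Type*} [Group G] [Finite G]

namespace Ch

variable {χ : S9 →* G} {a s g : G} (h : Ch χ a s g)
include h

theorem cent {n : G} (hn : n * a = a * n) : ∃ σ, Perm.sign σ = 1 ∧ ∃ k ∈ zpowers a, n = k * χ σ := h.cent0 hn

theorem six {n : G} (hc : n * χ c9 = χ c9 * n)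
    (hD : ∀ x, x * a = a * x → x * χ (p0 (0, 0, 1)) = χ (p0 (0, 0, 1)) * x → n * x * n⁻¹ * a = a * (n * x * n⁻¹) ∧
      n * x * n⁻¹ * χ (p0 (0, 0, 1)) = χ (p0 (0, 0, 1)) * (n * x * n⁻¹))
    {σ : S9} (hσ : Perm.sign σ = 1) (h2 : σ * σ = 1) (h3 : σ * p0 (0, 0, 1) = p0 (0, 0, 1) * σ)
    (h4 : σ * c9 = c9 * σ) (n1 : σ ≠ 1) (nc : σ ≠ c9) : ∃ τ, n * χ σ * n⁻¹ = χ τ ∧
      (τ = z9 ∨ τ = z9 * c9 ∨ τ = r9 ∨ τ = r9 * c9) := by
  obtain ⟨a1, a3⟩ := hD (χ σ) (h.evc hσ (mem_zpowers a)).eq.symm (by rw [← map_mul, h3, map_mul])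
  obtain ⟨ρ, r1, r2, e⟩ := h.inv_D a1 a3 (by
    rw [show n * χ σ * n⁻¹ * (n * χ σ * n⁻¹) = n * (χ σ * χ σ) * n⁻¹ by group, ← map_mul, h2]; simp)
  have hcc : n * χ c9 * n⁻¹ = χ c9 := by rw [hc, mul_inv_cancel_right]
  have r3 : io ρ * c9 = c9 * io ρ := h.inj (by
    have : Commute (n * χ σ * n⁻¹) (n * χ c9 * n⁻¹) :=
      (show Commute (χ σ) (χ c9) by rw [Commute, SemiconjBy, ← map_mul, h4, map_mul]).conj n
    rw [hcc, e] at this
    rw [map_mul, map_mul, this.eq])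
  refine ⟨io ρ, e, ?_⟩
  rcases f_six ρ r3 r2 r1 with q | q | q
  · rw [q, map_one, conj_eq_one_iff, ← map_one χ] at e; exact absurd (h.inj e) n1
  · rw [q, ← hcc] at e; exact absurd (h.inj (by simpa using e)) nc
  · exact q

/-- the image of `z c` -/
theorem zc {n : G} (hc : n * χ c9 = χ c9 * n)
    (hD : ∀ x, x * a = a * x → x * χ (p0 (0, 0, 1)) = χ (p0 (0, 0, 1)) * x → n * x * n⁻¹ * a = a * (n * x * n⁻¹) ∧
      n * x * n⁻¹ * χ (p0 (0, 0, 1)) = χ (p0 (0, 0, 1)) * (n * x * n⁻¹)) {p : S9}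
    (h1 : n * χ (p0 (1, 0, 0)) * n⁻¹ = χ p) : ∃ ρ, io ρ * io ρ = 1 ∧
      n * χ (z9 * c9) * n⁻¹ = χ (io ρ * p * (io ρ)⁻¹ * c9 * (io ρ * p * (io ρ)⁻¹)⁻¹) := by
  obtain ⟨a1, a3⟩ := hD (χ (swap 2 3 * swap 4 5)) (h.evc (by decide) (mem_zpowers a)).eq.symm
    (by rw [← map_mul, ← map_mul]; congr 1; decide +kernel)
  obtain ⟨ρ, -, r2, e⟩ := h.inv_D a1 a3 (by
    rw [show ∀ x : G, n * x * n⁻¹ * (n * x * n⁻¹) = n * (x * x) * n⁻¹ from fun x => by group, ← map_mul,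
      show (swap 2 3 * swap 4 5 : S9) * (swap 2 3 * swap 4 5) = 1 from by decide]; simp)
  refine ⟨ρ, r2, ?_⟩
  have hcc : n * χ c9 * n⁻¹ = χ c9 := by rw [hc, mul_inv_cancel_right]
  have : z9 * c9 = (swap 2 3 * swap 4 5) * p0 (1, 0, 0) * (swap 2 3 * swap 4 5)⁻¹ * c9 *
      ((swap 2 3 * swap 4 5) * p0 (1, 0, 0) * (swap 2 3 * swap 4 5)⁻¹)⁻¹ := by decide +kernel
  rw [this]
  generalize (swap 2 3 * swap 4 5 : S9) = w at e ⊢
  simp only [map_mul, map_inv]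
  rw [← e, ← h1]
  nth_rewrite 2 [← hcc]
  group

theorem gzc : g * χ (z9 * c9) * g⁻¹ = χ r9 ∨ g * χ (z9 * c9) * g⁻¹ = χ (r9 * c9) := by
  obtain ⟨τ, e, hτ⟩ := h.six h.gc (fun _ => h.gD) (σ := z9 * c9) (by decide) (by decide) (by decide +kernel)
    (by decide) (by decide) (by decide)
  obtain ⟨ρ, r2, e'⟩ := h.zc h.gc (fun _ => h.gD) h.g1
  obtain ⟨q1, q2⟩ := f_g ρ r2 τ (h.inj (e.symm.trans e'))
  rcases hτ with q | q | q | q
  · exact absurd q q1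
  · exact absurd q q2
  · left; rw [e, q]
  · right; rw [e, q]

theorem szc : s * χ (z9 * c9) * s⁻¹ = χ z9 ∨ s * χ (z9 * c9) * s⁻¹ = χ (z9 * c9) := by
  obtain ⟨τ, e, hτ⟩ := h.six h.sc (fun _ => h.sD) (σ := z9 * c9) (by decide) (by decide) (by decide +kernel)
    (by decide) (by decide) (by decide)
  obtain ⟨ρ, r2, e'⟩ := h.zc h.sc (fun _ => h.sD) h.s1
  obtain ⟨q1, q2⟩ := f_s ρ r2 τ (h.inj (e.symm.trans e'))
  rcases hτ with q | q | q | q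
  · left; rw [e, q]
  · right; rw [e, q]
  · exact absurd q q1
  · exact absurd q q2

theorem cc : χ c9 * χ c9 = 1 := by rw [← map_mul, show c9 * c9 = 1 from by decide, map_one]

omit [Finite G] h in
theorem cjc {n x c : G} (hc : n * c = c * n) : n * (x * c) * n⁻¹ = n * x * n⁻¹ * c := by
  rw [mul_assoc (n * x), ← mul_assoc n, mul_assoc (n * x)]
  congr 1
  rw [mul_inv_eq_iff_eq_mul, mul_assoc, ← hc, inv_mul_cancel_left]

theorem un {n x y : G} (hc : n * χ c9 = χ c9 * n) (e : n * (x * χ c9) * n⁻¹ = y) : n * x * n⁻¹ = y * χ c9 := by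
  rw [← e, cjc hc, mul_assoc _ (χ c9), h.cc, mul_one]

theorem gz : g * χ z9 * g⁻¹ = χ r9 ∨ g * χ z9 * g⁻¹ = χ r9 * χ c9 := by
  rcases h.gzc with e | e <;> rw [map_mul] at e
  · right; exact h.un h.gc e
  · left; rw [h.un h.gc e, map_mul, mul_assoc, h.cc, mul_one]

theorem sz : s * χ z9 * s⁻¹ = χ z9 ∨ s * χ z9 * s⁻¹ = χ z9 * χ c9 := by
  rcases h.szc with e | e <;> rw [map_mul] at e
  · right; exact h.un h.sc e
  · left; rw [h.un h.sc e, mul_assoc, h.cc, mul_one]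

theorem gr : g * χ r9 * g⁻¹ = χ z9 ∨ g * χ r9 * g⁻¹ = χ z9 * χ c9 := by
  obtain ⟨τ, e, hτ⟩ := h.six h.gc (fun _ => h.gD) (σ := r9) (by decide) (by decide) (by decide +kernel)
    (by decide) (by decide) (by decide)
  have n1 : g * χ r9 * g⁻¹ ≠ g * χ z9 * g⁻¹ := fun q => absurd (h.inj (by simpa using q)) (by decide : r9 ≠ z9)
  have n2 : g * χ r9 * g⁻¹ ≠ g * χ (z9 * c9) * g⁻¹ := fun q =>
    absurd (h.inj (mul_left_cancel (mul_right_cancel q))) (by decide : r9 ≠ z9 * c9)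
  rw [map_mul, cjc h.gc] at n2
  rcases hτ with q | q | q | q
  · left; rw [e, q]
  · right; rw [e, q, map_mul]
  · rw [q] at e
    rcases h.gz with e' | e'
    · exact absurd (e.trans e'.symm) n1
    · exact absurd (by rw [e, e', mul_assoc, h.cc, mul_one]) n2
  · rw [q, map_mul] at e
    rcases h.gz with e' | e'
    · exact absurd (by rw [e, e']) n2
    · exact absurd (e.trans e'.symm) n1

theorem sr : s * χ r9 * s⁻¹ = χ r9 ∨ s * χ r9 * s⁻¹ = χ r9 * χ c9 := by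
  obtain ⟨τ, e, hτ⟩ := h.six h.sc (fun _ => h.sD) (σ := r9) (by decide) (by decide) (by decide +kernel)
    (by decide) (by decide) (by decide)
  have n1 : s * χ r9 * s⁻¹ ≠ s * χ z9 * s⁻¹ := fun q => absurd (h.inj (by simpa using q)) (by decide : r9 ≠ z9)
  have n2 : s * χ r9 * s⁻¹ ≠ s * χ (z9 * c9) * s⁻¹ := fun q =>
    absurd (h.inj (mul_left_cancel (mul_right_cancel q))) (by decide : r9 ≠ z9 * c9)
  rw [map_mul, cjc h.sc] at n2
  rcases hτ with q | q | q | q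
  · rw [q] at e
    rcases h.sz with e' | e'
    · exact absurd (e.trans e'.symm) n1
    · exact absurd (by rw [e, e', mul_assoc, h.cc, mul_one]) n2
  · rw [q, map_mul] at e
    rcases h.sz with e' | e'
    · exact absurd (by rw [e, e']) n2
    · exact absurd (e.trans e'.symm) n1
  · left; rw [e, q]
  · right; rw [e, q, map_mul]

theorem exists_s : ∃ t, t * χ c9 = χ c9 * t ∧ t * χ z9 = χ z9 * t ∧ t * a * t⁻¹ = χ (p0 (0, 0, 1)) ∧
    (t * t = 1 ∨ t * t = χ c9) := by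
  rcases h.sz with e | e
  · exact ⟨s, h.sc, mul_inv_eq_iff_eq_mul.mp e, h.sa, Or.inl h.ss⟩
  have rc : χ r9 * χ c9 = χ c9 * χ r9 := by rw [← map_mul, ← map_mul]; congr 1; decide
  have rr : χ r9 * χ r9 = 1 := by rw [← map_mul, show r9 * r9 = 1 from by decide, map_one]
  have rz : χ r9 * χ z9 * (χ r9)⁻¹ = χ z9 * χ c9 := by
    rw [← map_inv, ← map_mul, ← map_mul, ← map_mul]; congr 1; decide
  refine ⟨s * χ r9, by rw [mul_assoc, rc, ← mul_assoc, h.sc, mul_assoc], ?_, ?_, ?_⟩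
  · rw [← mul_inv_eq_iff_eq_mul, show s * χ r9 * χ z9 * (s * χ r9)⁻¹ = s * (χ r9 * χ z9 * (χ r9)⁻¹) * s⁻¹ by group,
      rz, cjc h.sc, e, mul_assoc, h.cc, mul_one]
  · rw [show s * χ r9 * a * (s * χ r9)⁻¹ = s * (χ r9 * a * (χ r9)⁻¹) * s⁻¹ by group, h.ev r9 (by decide), h.sa]
  · have : s * χ r9 * (s * χ r9) = s * χ r9 * s⁻¹ * χ r9 := by rw [h.s_inv, mul_assoc (s * χ r9)]
    rw [this]
    rcases h.sr with e' | e' <;> rw [e']
    · exact Or.inl rr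
    · right; rw [rc, mul_assoc, rr, mul_one]

/-- every non-trivial element of `D` is conjugate to `a` in `C(c)` -/
theorem D_conj {k : G} (hk : k ∈ zpowers a) (j : ZMod 3) (n1 : k * χ (p0 (0, 0, j)) ≠ 1) :
    ∃ y, y * χ c9 = χ c9 * y ∧ y * a * y⁻¹ = k * χ (p0 (0, 0, j)) := by
  have st : ∀ (σ : S9) (x : G), σ * c9 = c9 * σ → (∃ y, y * χ c9 = χ c9 * y ∧ y * a * y⁻¹ = x) →
      ∃ y, y * χ c9 = χ c9 * y ∧ y * a * y⁻¹ = χ σ * x * (χ σ)⁻¹ := by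
    rintro σ x hσ ⟨y, h1, rfl⟩
    refine ⟨χ σ * y, ?_, by group⟩
    rw [mul_assoc, h1, ← mul_assoc, ← map_mul, hσ, map_mul, mul_assoc]
  have cj : ∀ (σ τ υ : S9) (x x' : G), χ σ * x * (χ σ)⁻¹ = x' → σ * τ * σ⁻¹ = υ →
      χ σ * (x * χ τ) * (χ σ)⁻¹ = x' * χ υ := by
    rintro σ τ _ x _ rfl rfl
    simp only [map_mul, map_inv]; group
  have b1 : ∃ y, y * χ c9 = χ c9 * y ∧ y * a * y⁻¹ = 1 * χ (p0 (0, 0, 1)) := ⟨s, h.sc, by rw [h.sa, one_mul]⟩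
  have b2 : ∃ y, y * χ c9 = χ c9 * y ∧ y * a * y⁻¹ = a * χ (p0 (0, 0, 1)) := ⟨g, h.gc, by rw [h.ga, h.ae3.eq]⟩
  have p00 : χ (p0 (0, 0, 0)) = 1 := by rw [show p0 (0, 0, 0) = 1 from p0_zero, map_one]
  rcases h.mem_a hk with rfl | rfl | rfl <;> rcases z3_cases j with rfl | rfl | rfl
  · rw [p00, mul_one] at n1; exact absurd rfl n1
  · exact b1
  · rw [← cj (swap 6 7) (p0 (0, 0, 1)) _ 1 1 (by simp) (by decide +kernel)]; exact st _ _ (by decide) b1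
  · exact ⟨1, by simp, by simp [p00]⟩
  · exact b2
  · rw [← cj (swap 2 5 * swap 6 7) (p0 (0, 0, 1)) _ _ _ (h.ev _ (by decide)) (by decide +kernel)]
    exact st _ _ (by decide) b2
  · exact ⟨χ (swap 2 5), by rw [← map_mul, ← map_mul]; congr 1; decide, by
      rw [h.od _ (by decide), p00, mul_one]⟩
  · rw [← cj (swap 2 5) (p0 (0, 0, 1)) _ _ _ (h.od _ (by decide)) (by decide +kernel)]
    exact st _ _ (by decide) b2
  · rw [← cj (swap 6 7) (p0 (0, 0, 1)) _ _ _ (h.od _ (by decide)) (by decide +kernel)]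
    exact st _ _ (by decide) b2

theorem e3c : χ (p0 (0, 0, 1)) * χ c9 = χ c9 * χ (p0 (0, 0, 1)) := by
  rw [← map_mul, ← map_mul]; congr 1; decide +kernel

theorem D_conj' {d : G} (ha : d * a = a * d) (he : d * χ (p0 (0, 0, 1)) = χ (p0 (0, 0, 1)) * d)
    (hc : d * χ c9 = χ c9 * d) (h3 : d ^ 3 = 1) (n1 : d ≠ 1) : ∃ y, y * χ c9 = χ c9 * y ∧ y * a * y⁻¹ = d := by
  obtain ⟨σ, hσ, k, hk, rfl⟩ := h.cent ha
  have c1 := h.cm (by decide) hk hc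
  have c3 := (h.pw hσ hk h3).1
  obtain ⟨j, ρ, rfl⟩ := comm_p3 (h.cm (by decide +kernel) hk he)
  have : io ρ = 1 := f_three ρ j (by
    apply mul_left_cancel (a := p0 (0, 0, j))
    rw [← mul_assoc, c1, ← mul_assoc, ← mul_assoc, p3_c9]) c3
  rw [this, mul_one] at n1 ⊢
  exact h.D_conj hk j n1

/-- elements of order three in `C(a) ∩ C(c)` -/
theorem conj_a1 {w : G} (ha : w * a = a * w) (hc : w * χ c9 = χ c9 * w) (h3 : w ^ 3 = 1) (n1 : w ≠ 1) :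
    IsConj a w := by
  obtain ⟨σ, hσ, k, hk, rfl⟩ := h.cent ha
  rcases three_conj (h.cm (by decide) hk hc) (h.pw hσ hk h3).1 with rfl | ⟨π, e⟩
  · obtain ⟨y, -, e⟩ := h.D_conj hk 0 (by rwa [show p0 (0, 0, 0) = 1 from p0_zero])
    rw [show p0 (0, 0, 0) = 1 from p0_zero] at e
    exact isConj_iff.mpr ⟨y, e⟩
  · have e' : χ π * (k * χ σ) * (χ π)⁻¹ = χ π * k * (χ π)⁻¹ * χ (p0 (0, 0, 1)) := by
      rw [← e]; simp only [map_mul, map_inv]; group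
    obtain ⟨y, -, e2⟩ := h.D_conj (h.cjk π hk) 1 (by rw [← e', Ne, conj_eq_one_iff]; exact n1)
    exact (isConj_iff.mpr ⟨y, e2⟩).trans (isConj_iff.mpr ⟨χ π, e'⟩).symm

/-- all elements of order three in `C(c)` are conjugate to `a` -/
theorem conj_a {w : G} (hc : w * χ c9 = χ c9 * w) (h3 : w ^ 3 = 1) (n1 : w ≠ 1) : IsConj a w := by
  haveI : Fact (Nat.Prime 3) := ⟨Nat.prime_three⟩
  have pg : ∀ x : 𝒞[χ c9], (x : G) ^ 3 = 1 → IsPGroup 3 (zpowers x) := fun x hx => by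
    rintro ⟨_, n, rfl⟩
    refine ⟨1, Subtype.ext (Subtype.ext ?_)⟩
    simp only [pow_one, SubgroupClass.coe_pow, SubgroupClass.coe_zpow, OneMemClass.coe_one]
    rw [← zpow_natCast, ← zpow_mul, mul_comm, zpow_mul, zpow_natCast, hx, one_zpow]
  obtain ⟨e3, he3⟩ : ∃ e3, e3 = χ (p0 (0, 0, 1)) := ⟨_, rfl⟩
  have ae : Commute a e3 := he3 ▸ h.ae3
  have e33 : e3 ^ 3 = 1 := he3 ▸ h.e3_cube
  let a' : 𝒞[χ c9] := ⟨a, mem_centralizer_singleton_iff.mpr (h.evc (by decide) (mem_zpowers a)).eq⟩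
  let e' : 𝒞[χ c9] := ⟨e3, mem_centralizer_singleton_iff.mpr (he3 ▸ h.e3c)⟩
  let w' : 𝒞[χ c9] := ⟨w, mem_centralizer_singleton_iff.mpr hc⟩
  have ae' : Commute a' e' := Subtype.ext ae.eq
  have hD : IsPGroup 3 (zpowers a' ⊔ zpowers e' : Subgroup 𝒞[χ c9]) := by
    refine IsPGroup.to_sup_of_normal_right' (pg a' h.a_cube) (pg e' e33) ?_
    refine le_trans ?_ (centralizer_le_normalizer _)
    rintro _ ⟨m, rfl⟩ _ ⟨n, rfl⟩
    exact (ae'.symm.zpow_zpow n m).eq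
  obtain ⟨P, hP⟩ := hD.exists_le_sylow
  obtain ⟨Q, hQ⟩ := (pg w' h3).exists_le_sylow
  obtain ⟨y, hy⟩ := MulAction.exists_smul_eq 𝒞[χ c9] Q P
  have aP : a' ∈ P := hP (mem_sup_left (mem_zpowers _))
  have eP : e' ∈ P := hP (mem_sup_right (mem_zpowers _))
  have wP : y * w' * y⁻¹ ∈ P := by
    rw [← hy]; exact Subgroup.smul_mem_pointwise_smul w' (MulAut.conj y) Q (hQ (mem_zpowers _))
  haveI : Nontrivial P := ⟨⟨a', aP⟩, 1, fun e => h.a_ne (congrArg (fun x : P => ((x : 𝒞[χ c9]) : G)) e)⟩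
  haveI := P.isPGroup'.center_nontrivial
  obtain ⟨n, n0, hn⟩ := (P.isPGroup'.to_subgroup (center P)).nontrivial_iff_card.mp inferInstance
  obtain ⟨d, hd⟩ := exists_prime_orderOf_dvd_card' (G := center P) 3 (hn ▸ dvd_pow_self 3 n0.ne')
  have dc : ∀ x (hx : x ∈ P), (d.1.1 : G) * x = x * d.1.1 := fun x hx =>
    congrArg (fun x : P => ((x : 𝒞[χ c9]) : G)) (mem_center_iff.mp d.2 ⟨x, hx⟩).symm
  have d3 : (d.1.1 : G) ^ 3 = 1 :=
    congrArg (fun x : center P => ((x.1 : 𝒞[χ c9]) : G)) (hd ▸ pow_orderOf_eq_one d)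
  have d1 : (d.1.1 : G) ≠ 1 := fun e => by
    have : d = 1 := Subtype.ext (Subtype.ext (Subtype.ext e))
    rw [this, orderOf_one] at hd; omega
  obtain ⟨u, uc, ua⟩ := h.D_conj' (dc a' aP) (he3 ▸ dc e' eP) (mem_centralizer_singleton_iff.mp d.1.1.2) d3 d1
  have c1 : Commute (u⁻¹ * (y * w * (y : G)⁻¹) * u⁻¹⁻¹) (u⁻¹ * d.1.1 * u⁻¹⁻¹) :=
    (show Commute _ _ from (dc _ wP).symm).conj u⁻¹
  rw [← ua, show u⁻¹ * (u * a * u⁻¹) * u⁻¹⁻¹ = a by group] at c1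
  have c2 : Commute (u⁻¹ * (y * w * (y : G)⁻¹) * u⁻¹⁻¹) (χ c9) := by
    have hu : Commute u (χ c9) := uc
    have hy' : Commute (y : G) (χ c9) := mem_centralizer_singleton_iff.mp y.2
    exact (hu.inv_left.mul_left ((hy'.mul_left hc).mul_left hy'.inv_left)).mul_left hu.inv_left.inv_left
  refine (h.conj_a1 c1.eq c2.eq ?_ ?_).trans (isConj_iff.mpr ⟨u⁻¹ * y, by group⟩).symm
  · rw [conj_pow, conj_pow, h3]; simp
  · rw [Ne, conj_eq_one_iff, conj_eq_one_iff]; exact n1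

theorem nAB : ¬ IsConj (χ c9) (χ (z9 * swap 2 5 * swap 6 7)) := by
  intro hc
  obtain ⟨x, hx⟩ := isConj_iff.mp hc.symm
  have ca : Commute a (χ (p0 (1, 1, 0))) := h.evc (by decide +kernel) (mem_zpowers a)
  have cb : Commute (χ (p0 (1, 1, 0)) * a) (χ (z9 * swap 2 5 * swap 6 7)) :=
    Commute.mul_left (by rw [Commute, SemiconjBy, ← map_mul, ← map_mul]; congr 1; decide +kernel)
      (h.evc (by decide) (mem_zpowers a))
  have cw := cb.conj x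
  rw [hx] at cw
  refine h.fus ((h.conj_a cw.eq ?_ ?_).trans (isConj_iff.mpr ⟨x, rfl⟩).symm)
  · rw [conj_pow, ca.symm.mul_pow, h.a_cube, ← map_pow, show p0 (1, 1, 0) ^ 3 = 1 from by decide +kernel]; simp
  · rw [Ne, conj_eq_one_iff]
    intro e
    exact absurd (h.disj _ (by rw [eq_inv_of_mul_eq_one_left e]; exact inv_mem (mem_zpowers a)))
      (by decide +kernel)

end Ch

end Cfsg.Agent.H3L
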