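import Cfsg.Agent.H3L.Defs

/-! Project H3L: permutation facts in `S₉` used in `DA`. -/

set_option autoImplicit false

namespace Cfsg.Agent.H3L

open Subgroup Equiv Function H49 OR.A9 S3702

/-- extension of a function on `{0, …, 5}` by the identity -/
def iof (f : Fin 6 → Fin 6) (x : Fin 9) : Fin 9 :=
  if h : x.val < 6 then ⟨(f ⟨x.val, h⟩).val, by omega⟩ else x

theorem iof_iof (f g : Fin 6 → Fin 6) (x : Fin 9) : iof f (iof g x) = iof (fun y => f (g y)) x := by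
  by_cases h : x.val < 6
  · have : (g ⟨x.val, h⟩).val < 6 := (g _).2
    simp only [iof, h, this, dif_pos]
  · simp only [iof, h, dif_neg, not_false_eq_true]

theorem iof_id (f : Fin 6 → Fin 6) (hf : ∀ y, f y = y) (x : Fin 9) : iof f x = x := by
  by_cases h : x.val < 6
  · simp only [iof, h, dif_pos, hf]
  · simp only [iof, h, dif_neg, not_false_eq_true]

/-- `S₆ → S₉` -/
def io (ρ : Perm (Fin 6)) : S9 :=
  ⟨iof ρ, iof ρ.symm, fun x => by rw [iof_iof]; exact iof_id _ (by simp) x,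
    fun x => by rw [iof_iof]; exact iof_id _ (by simp) x⟩

theorem exists_io {σ : S9} (h6 : σ 6 = 6) (h7 : σ 7 = 7) (h8 : σ 8 = 8) : ∃ ρ, σ = io ρ := by
  have key : ∀ τ : S9, τ 6 = 6 → τ 7 = 7 → τ 8 = 8 → ∀ x : Fin 9, x.val < 6 → (τ x).val < 6 := by
    intro τ h6 h7 h8 x hx
    by_contra hn
    have : τ x = 6 ∨ τ x = 7 ∨ τ x = 8 := by omega
    rcases this with e | e | e
    · have := τ.injective (e.trans h6.symm); omega
    · have := τ.injective (e.trans h7.symm); omega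
    · have := τ.injective (e.trans h8.symm); omega
  have k1 := key σ h6 h7 h8
  have k2 := key σ.symm (σ.symm_apply_eq.mpr h6.symm) (σ.symm_apply_eq.mpr h7.symm) (σ.symm_apply_eq.mpr h8.symm)
  refine ⟨⟨fun y => ⟨(σ ⟨y.val, by omega⟩).val, k1 _ y.2⟩, fun y => ⟨(σ.symm ⟨y.val, by omega⟩).val, k2 _ y.2⟩,
    fun y => by simp, fun y => by simp⟩, Equiv.ext fun x => ?_⟩
  by_cases h : x.val < 6
  · simp [io, iof, h]
  · have : x = 6 ∨ x = 7 ∨ x = 8 := by omega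
    rcases this with rfl | rfl | rfl <;> simp [io, iof, h6, h7, h8]

theorem ap_comm {σ τ : S9} (h : σ * τ = τ * σ) (x : Fin 9) : σ (τ x) = τ (σ x) := congrArg (· x) h

/-- an element commuting with `(6 7 8)` -/
theorem comm_p3 {σ : S9} (h : σ * p0 (0, 0, 1) = p0 (0, 0, 1) * σ) : ∃ j ρ, σ = p0 (0, 0, j) * io ρ := by
  have h6 : σ 7 = p0 (0, 0, 1) (σ 6) := ap_comm h 6
  have h7 : σ 8 = p0 (0, 0, 1) (σ 7) := ap_comm h 7
  have hne : p0 (0, 0, 1) (σ 6) ≠ σ 6 := by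
    rw [← h6]; intro e; exact absurd (σ.injective e) (by decide)
  have : ∀ x : Fin 9, p0 (0, 0, 1) x ≠ x → ∃ j, (p0 (0, 0, j))⁻¹ x = 6 ∧
      (p0 (0, 0, j))⁻¹ (p0 (0, 0, 1) x) = 7 ∧ (p0 (0, 0, j))⁻¹ (p0 (0, 0, 1) (p0 (0, 0, 1) x)) = 8 := by
    decide +kernel
  obtain ⟨j, a6, a7, a8⟩ := this _ hne
  obtain ⟨ρ, e⟩ := exists_io (σ := (p0 (0, 0, j))⁻¹ * σ) a6 (by rw [Perm.mul_apply, h6, a7])
    (by rw [Perm.mul_apply, h7, h6, a8])
  exact ⟨j, ρ, by rw [← e]; group⟩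

theorem inv_io : ∀ j ρ, (p0 (0, 0, j) * io ρ) 6 = p0 (0, 0, j) 6 ∧ (p0 (0, 0, j) * io ρ) 7 = p0 (0, 0, j) 7 ∧
    (p0 (0, 0, j) * io ρ) 8 = p0 (0, 0, j) 8 := fun _ _ => ⟨rfl, rfl, rfl⟩

theorem z3_cases : ∀ j : ZMod 3, j = 0 ∨ j = 1 ∨ j = 2 := by decide

theorem comm_p3_inv {σ : S9} (h : σ * p0 (0, 0, 1) = p0 (0, 0, 1) * σ) (h2 : σ * σ = 1) : ∃ ρ, σ = io ρ := by
  obtain ⟨j, ρ, rfl⟩ := comm_p3 h
  obtain ⟨a, b, c⟩ := inv_io j ρ
  have h3 : (p0 (0, 0, j) * io ρ) ((p0 (0, 0, j) * io ρ) 6) = 6 := congrArg (· 6) h2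
  rcases z3_cases j with rfl | rfl | rfl
  · exact ⟨ρ, by rw [show p0 (0, 0, 0) = 1 from p0_zero, one_mul]⟩
  · rw [a, show p0 (0, 0, 1) 6 = 7 from by decide, b] at h3; exact absurd h3 (by decide)
  · rw [a, show p0 (0, 0, 2) 6 = 8 from by decide, c] at h3; exact absurd h3 (by decide)

theorem f_six : ∀ ρ, io ρ * c9 = c9 * io ρ → io ρ * io ρ = 1 → Perm.sign (io ρ) = 1 →
    io ρ = 1 ∨ io ρ = c9 ∨ io ρ = z9 ∨ io ρ = z9 * c9 ∨ io ρ = r9 ∨ io ρ = r9 * c9 := by decide +kernel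

theorem f_three : ∀ ρ j, io ρ * c9 = c9 * io ρ → (p0 (0, 0, j) * io ρ) ^ 3 = 1 → io ρ = 1 := by decide +kernel

theorem f_s : ∀ ρ, io ρ * io ρ = 1 → ∀ y, y = io ρ * p0 (1, 0, 0) * (io ρ)⁻¹ * c9 * (io ρ * p0 (1, 0, 0) * (io ρ)⁻¹)⁻¹ →
    y ≠ r9 ∧ y ≠ r9 * c9 := by
  intro ρ h y e; subst e; revert ρ; decide +kernel

theorem f_g : ∀ ρ, io ρ * io ρ = 1 → ∀ y, y = io ρ * p0 (1, 1, 0) * (io ρ)⁻¹ * c9 * (io ρ * p0 (1, 1, 0) * (io ρ)⁻¹)⁻¹ →
    y ≠ z9 ∧ y ≠ z9 * c9 := by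
  intro ρ h y e; subst e; revert ρ; decide +kernel

/-- an element of order three commuting with `c9` fixes `0, 1, 3, 4` -/
theorem fix_four {σ : S9} (h : σ * c9 = c9 * σ) (h3 : σ ^ 3 = 1) : σ 0 = 0 ∧ σ 1 = 1 ∧ σ 3 = 3 ∧ σ 4 = 4 := by
  have h0 : σ 1 = c9 (σ 0) := ap_comm h 0
  have h1 : σ 4 = c9 (σ 3) := ap_comm h 3
  have k : ∀ x y, σ x = y → c9 x ≠ x → y = 0 ∨ y = 1 ∨ y = 3 ∨ y = 4 := by
    intro x y e hx
    have : c9 y ≠ y := by
      rw [← e, ← ap_comm h]; intro e'; exact hx (σ.injective e')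
    clear e; revert y; decide
  have t : ∀ x, σ (σ (σ x)) = x := fun x => by
    have := congrArg (· x) h3
    simpa [pow_succ] using this
  have t0 := t 0
  have t3 := t 3
  have c0 : c9 0 = 1 := by decide
  have c1 : c9 1 = 0 := by decide
  have c3 : c9 3 = 4 := by decide
  have c4 : c9 4 = 3 := by decide
  rcases k 0 _ rfl (by decide) with a | a | a | a <;> rcases k 3 _ rfl (by decide) with b | b | b | b <;>
    simp_all

theorem p3_three : (p0 (0, 0, 1)).IsThreeCycle := card_support_eq_three_iff.mp (by decide +kernel)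

theorem p3_c9 : ∀ j, p0 (0, 0, j) * c9 = c9 * p0 (0, 0, j) := by decide +kernel

theorem three_conj {σ : S9} (h : σ * c9 = c9 * σ) (h3 : σ ^ 3 = 1) :
    σ = 1 ∨ ∃ π : S9, π * σ * π⁻¹ = p0 (0, 0, 1) := by
  by_cases h1 : σ = 1
  · exact Or.inl h1
  right
  have ho : orderOf σ = 3 := @orderOf_eq_prime _ _ _ 3 ⟨Nat.prime_three⟩ h3 h1
  obtain ⟨a0, a1, a3, a4⟩ := fix_four h h3
  have hs : σ.support ⊆ {2, 5, 6, 7, 8} := by
    intro x hx
    rw [Perm.mem_support] at hx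
    have : x ≠ 0 ∧ x ≠ 1 ∧ x ≠ 3 ∧ x ≠ 4 := by
      refine ⟨?_, ?_, ?_, ?_⟩ <;> rintro rfl <;> contradiction
    revert this; clear hx; revert x; decide
  have hc : σ.support.card ≤ 5 := (Finset.card_le_card hs).trans (by decide)
  have cyc : σ.IsCycle := Perm.isCycle_of_prime_order (ho ▸ Nat.prime_three) (by omega)
  have t : σ.IsThreeCycle := card_support_eq_three_iff.mp (by rw [← cyc.orderOf, ho])
  exact isConj_iff.mp (Perm.isConj_of_cycleType_eq (t.cycleType.trans p3_three.cycleType.symm))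

end Cfsg.Agent.H3L
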