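import Cfsg.Agent.H3L.DA0

/-! Project H3L: basic facts in `(3 × A₉):2`. See `notes/H3L.md`. -/

set_option autoImplicit false

namespace Cfsg.Agent.H3L

open Subgroup Equiv Function H49 OR.A9 S3702 MC3

variable {G : Type*} [Group G] [Finite G]

namespace Ch

variable {χ : S9 →* G} {a s g : G} (h : Ch χ a s g)
include h

theorem a_cube : a ^ 3 = 1 := by rw [← h.a3]; exact pow_orderOf_eq_one a

theorem a_ne : a ≠ 1 := by
  intro e; have := h.a3; rw [e, orderOf_one] at this; omega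

theorem a_ne_inv : a ≠ a⁻¹ := by
  intro e
  have h2 : a ^ 2 = 1 := by rw [pow_two]; nth_rewrite 2 [e]; exact mul_inv_cancel a
  have := orderOf_dvd_of_pow_eq_one h2
  rw [h.a3] at this; omega

theorem mem_a {k : G} (hk : k ∈ zpowers a) : k = 1 ∨ k = a ∨ k = a⁻¹ := by
  classical
  rw [mem_zpowers_iff_mem_range_orderOf, h.a3] at hk
  obtain ⟨i, hi, rfl⟩ := Finset.mem_image.mp hk
  have hi' := Finset.mem_range.mp hi
  have h3 := h.a_cube
  interval_cases i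
  · simp
  · simp
  · right; right; rw [eq_inv_iff_mul_eq_one, ← pow_succ]; exact h3

theorem k_cube {k : G} (hk : k ∈ zpowers a) : k ^ 3 = 1 := by
  rcases h.mem_a hk with rfl | rfl | rfl
  · simp
  · exact h.a_cube
  · rw [inv_pow, h.a_cube, inv_one]

theorem evc {σ : S9} (hσ : Perm.sign σ = 1) {k : G} (hk : k ∈ zpowers a) : Commute k (χ σ) := by
  have : Commute a (χ σ) := (mul_inv_eq_iff_eq_mul.mp (h.ev σ hσ)).symm
  obtain ⟨n, rfl⟩ := hk
  exact this.zpow_left n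

theorem cjk (σ : S9) {k : G} (hk : k ∈ zpowers a) : χ σ * k * (χ σ)⁻¹ ∈ zpowers a := by
  obtain ⟨n, rfl⟩ := hk
  rw [← conj_zpow]
  rcases Int.units_eq_one_or (Perm.sign σ) with e | e
  · rw [h.ev σ e]; exact zpow_mem (mem_zpowers a) n
  · rw [h.od σ e]; exact zpow_mem (inv_mem (mem_zpowers a)) n

theorem cent0 {n : G} (hn : n * a = a * n) : ∃ σ, Perm.sign σ = 1 ∧ ∃ k ∈ zpowers a, n = k * χ σ := by
  have hN : n ∈ 𝒩(zpowers a) := by
    refine centralizer_le_normalizer _ ?_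
    rintro _ ⟨m, rfl⟩
    exact ((show Commute a n from hn.symm).zpow_left m).eq
  obtain ⟨σ, k, hk, rfl⟩ := h.nrm n hN
  refine ⟨σ, ?_, k, hk, rfl⟩
  rcases Int.units_eq_one_or (Perm.sign σ) with e | e
  · exact e
  · exfalso
    have h1 := h.od σ e
    have hc : k * a = a * k := by
      obtain ⟨m, rfl⟩ := hk; exact ((Commute.refl a).zpow_left m).eq
    have h2 : χ σ * a = a * χ σ := by
      apply mul_left_cancel (a := k); rw [← mul_assoc, hn, ← mul_assoc, ← mul_assoc, hc]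
    rw [h2, mul_inv_cancel_right] at h1
    exact h.a_ne_inv h1

/-- commuting with an even permutation -/
theorem cm {σ τ : S9} (hτ : Perm.sign τ = 1) {k : G} (hk : k ∈ zpowers a)
    (hc : k * χ σ * χ τ = χ τ * (k * χ σ)) : σ * τ = τ * σ := by
  apply h.inj
  rw [map_mul, map_mul]
  apply mul_left_cancel (a := k)
  rw [← mul_assoc, hc, ← mul_assoc, ← mul_assoc, (h.evc hτ hk).eq]

theorem pw {σ : S9} (hσ : Perm.sign σ = 1) {k : G} (hk : k ∈ zpowers a) {n : ℕ} (e : (k * χ σ) ^ n = 1) :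
    σ ^ n = 1 ∧ k ^ n = 1 := by
  rw [(h.evc hσ hk).mul_pow, ← map_pow] at e
  have : σ ^ n = 1 := h.disj _ (by
    rw [eq_inv_of_mul_eq_one_right e]; exact inv_mem (pow_mem hk n))
  refine ⟨this, ?_⟩
  rwa [this, map_one, mul_one] at e

/-- the involutions centralising `a` -/
theorem inv_cent {n : G} (hn : n * a = a * n) (h2 : n * n = 1) :
    ∃ σ, Perm.sign σ = 1 ∧ σ * σ = 1 ∧ n = χ σ := by
  obtain ⟨σ, hσ, k, hk, rfl⟩ := h.cent0 hn
  obtain ⟨e1, e2⟩ := h.pw hσ hk (n := 2) (by rw [pow_two]; exact h2)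
  have k1 : k = 1 := by
    have := h.k_cube hk
    rwa [pow_succ, e2, one_mul] at this
  exact ⟨σ, hσ, by rw [← pow_two, e1], by rw [k1, one_mul]⟩

/-- the involutions centralising `D` -/
theorem inv_D {n : G} (hn : n * a = a * n) (h3 : n * χ (p0 (0, 0, 1)) = χ (p0 (0, 0, 1)) * n) (h2 : n * n = 1) :
    ∃ ρ, Perm.sign (io ρ) = 1 ∧ io ρ * io ρ = 1 ∧ n = χ (io ρ) := by
  obtain ⟨σ, hσ, e, rfl⟩ := h.inv_cent hn h2
  obtain ⟨ρ, rfl⟩ := comm_p3_inv (σ := σ) (h.inj (by rw [map_mul, map_mul, h3])) e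
  exact ⟨ρ, hσ, e, rfl⟩

theorem s_inv : s⁻¹ = s := inv_eq_of_mul_eq_one_right h.ss

theorem s3 : s * χ (p0 (0, 0, 1)) * s⁻¹ = a := by
  rw [← h.sa, h.s_inv]
  calc s * (s * a * s) * s = s * s * a * (s * s) := by group
    _ = a := by rw [h.ss, one_mul, mul_one]

theorem ae3 : Commute a (χ (p0 (0, 0, 1))) := h.evc (by decide +kernel) (mem_zpowers a)

theorem e3_cube : χ (p0 (0, 0, 1)) ^ 3 = 1 := by
  rw [← map_pow, show p0 (0, 0, 1) ^ 3 = 1 from by decide +kernel, map_one]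

/-- `s` normalises `C(D)` -/
theorem sD {x : G} (h1 : x * a = a * x) (h3 : x * χ (p0 (0, 0, 1)) = χ (p0 (0, 0, 1)) * x) :
    s * x * s⁻¹ * a = a * (s * x * s⁻¹) ∧
      s * x * s⁻¹ * χ (p0 (0, 0, 1)) = χ (p0 (0, 0, 1)) * (s * x * s⁻¹) := by
  have c1 : Commute (s * x * s⁻¹) (s * a * s⁻¹) := (show Commute x a from h1).conj s
  have c3 : Commute (s * x * s⁻¹) (s * χ (p0 (0, 0, 1)) * s⁻¹) := (show Commute x _ from h3).conj s
  rw [h.sa] at c1; rw [h.s3] at c3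
  exact ⟨c3, c1⟩

/-- `g` normalises `C(D)` -/
theorem gD {x : G} (h1 : x * a = a * x) (h3 : x * χ (p0 (0, 0, 1)) = χ (p0 (0, 0, 1)) * x) :
    g * x * g⁻¹ * a = a * (g * x * g⁻¹) ∧
      g * x * g⁻¹ * χ (p0 (0, 0, 1)) = χ (p0 (0, 0, 1)) * (g * x * g⁻¹) := by
  have c1 : Commute (g * x * g⁻¹) (g * a * g⁻¹) := (show Commute x a from h1).conj g
  have c3 : Commute (g * x * g⁻¹) (g * χ (p0 (0, 0, 1)) * g⁻¹) := (show Commute x _ from h3).conj g
  rw [h.ga] at c1; rw [h.g3] at c3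
  have e : (χ (p0 (0, 0, 1)) * a)⁻¹ * (χ (p0 (0, 0, 1)) * a⁻¹) = a := by
    have : a⁻¹ * a⁻¹ = a := by
      rw [← mul_inv_rev, inv_eq_iff_mul_eq_one, ← h.a_cube]; simp [pow_succ]
    rw [mul_inv_rev, mul_assoc, inv_mul_cancel_left, this]
  have ca : Commute (g * x * g⁻¹) a := e ▸ c1.inv_right.mul_right c3
  have := c1.mul_right ca.inv_right
  rw [mul_inv_cancel_right] at this
  exact ⟨ca, this⟩

end Ch

end Cfsg.Agent.H3L
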