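import Cfsg.Agent.H3L.DBa
import Cfsg.Agent.H43.S8Gen
import Cfsg.Agent.H1.AltAut

/-! Project H3L: permutation lemmas for `DB`. -/

set_option autoImplicit false

namespace Cfsg.Agent.H3L.DB

open Subgroup Equiv Function H49 MC3 S3702

theorem fix {n : ℕ} {R : Perm (Fin n)} (u : Perm (Fin n)) (hc : Commute R u) (m : ℕ) (hR : R ^ m = 1) (x : Fin n)
    (d : u x ≠ x ∧ (∀ j, u j ≠ j → ∃ k : Fin 5, j = (u ^ k.1) x) ∧
      ∀ k : Fin 5, (u ^ (k.1 * m)) x = x → (u ^ k.1) x = x) : R x = x := by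
  have h1 : ∀ k y, R ((u ^ k) y) = (u ^ k) (R y) := fun k y => congrArg (· y) (hc.pow_right k).eq
  obtain ⟨k, hk⟩ := d.2.1 (R x) fun e => d.1 (R.injective ((h1 1 x).trans e))
  have h2 : ∀ i, (R ^ i) x = (u ^ (k.1 * i)) x := fun i => by
    induction i with
    | zero => rfl
    | succ i ih => rw [pow_succ', Perm.mul_apply, ih, h1, hk, mul_add, mul_one, pow_add, Perm.mul_apply]
  exact hk.trans (d.2.2 k (by rw [← h2, hR]; rfl))

theorem three_of_five {A U : S8} (hA : orderOf A = 3) (hU : orderOf U = 5) (hc : Commute A U) :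
    A.support.card = 3 := by
  have : Fact (Nat.Prime 5) := ⟨Nat.prime_five⟩
  let u : S8 := swap 0 1 * swap 1 2 * swap 2 3 * swap 3 4
  obtain ⟨i, hi, hi'⟩ := H43.Alt8.supp_of_prime Nat.prime_five hU
  obtain ⟨p, hp⟩ := isConj_iff.1 (H43.Alt8.conj_of_prime Nat.prime_five hU (b := u)
    (orderOf_eq_prime (by decide) (by decide)) (by rw [hi, show i = 0 by omega]; decide))
  have hc' : Commute (p * A * p⁻¹) u := by
    rw [← hp]
    exact (hc.map (MulAut.conj p))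
  have h3 : (p * A * p⁻¹) ^ 3 = 1 := by rw [conj_pow, ← hA, pow_orderOf_eq_one]; group
  have : (p * A * p⁻¹).support ⊆ {5, 6, 7} := fun x hx => by
    by_contra hn
    refine Perm.mem_support.1 hx (fix u hc' 3 h3 x ?_)
    clear hx
    revert x
    decide +kernel
  have h4 := (Finset.card_le_card this).trans Finset.card_le_three
  rw [Perm.card_support_conj] at h4
  obtain ⟨k, hk, -⟩ := H43.Alt8.supp_of_prime Nat.prime_three hA
  omega

/-- conjugators -/
def q3 (i j k : Fin 5) : S8 :=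
  swap 2 (i.castLE (by decide)) * swap 3 (j.castLE (by decide)) * swap 4 (k.castLE (by decide))

set_option synthInstance.maxSize 1000 in
theorem q3_spec : ∀ x y w : Fin 8, a8 * (swap x y * swap y w) = swap x y * swap y w * a8 →
    swap x y * swap y w ≠ a8 → swap x y * swap y w ≠ a8⁻¹ → (swap x y * swap y w).support.card = 3 →
    ∃ i j k : Fin 5, q3 i j k * a8 * (q3 i j k)⁻¹ = a8 ∧
      q3 i j k * (swap x y * swap y w) * (q3 i j k)⁻¹ = e8 := by decide +kernel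

theorem std8 {A E R U : S8} (hA : orderOf A = 3) (hU : orderOf U = 5) (hc : Commute A U) (AE : IsConj A E)
    (c : Commute A E) (ne : E ≠ A) (ne' : E ≠ A⁻¹) (RR : R * R = 1) (sR : Perm.sign R = -1) (RA : Commute R A)
    (RE : Commute R E) : ∃ p : S8, p * A * p⁻¹ = a8 ∧ p * E * p⁻¹ = e8 ∧ p * R * p⁻¹ = swap 0 1 := by
  have : Fact (Nat.Prime 3) := ⟨Nat.prime_three⟩
  have h3 := three_of_five hA hU hc
  obtain ⟨p, hp⟩ := isConj_iff.1 (H43.Alt8.conj_of_prime Nat.prime_three hA (b := a8)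
    (orderOf_eq_prime (by decide) (by decide)) (by rw [h3]; decide))
  have hE : (p * E * p⁻¹).IsThreeCycle := by
    obtain ⟨q, rfl⟩ := isConj_iff.1 AE
    rw [← card_support_eq_three_iff, Perm.card_support_conj, Perm.card_support_conj, h3]
  obtain ⟨x, hx⟩ : (p * E * p⁻¹).support.Nonempty := by rw [← Finset.card_pos, hE.card_support]; decide
  have e := hE.eq_swap_mul_swap_iff_mem_support.2 hx
  obtain ⟨q, q1, q2⟩ : ∃ q : S8, q * a8 * q⁻¹ = a8 ∧ q * (p * E * p⁻¹) * q⁻¹ = e8 := by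
    obtain ⟨i, j, k, h⟩ := q3_spec _ _ _ (by rw [← e, ← hp]; exact (c.map (MulAut.conj p)).eq)
      (by rw [← e, ← hp]; exact (MulAut.conj p).injective.ne ne)
      (by rw [← e, ← hp, conj_inv]; exact (MulAut.conj p).injective.ne ne') (by rw [← e]; exact hE.card_support)
    exact ⟨_, by rwa [← e] at h⟩
  have e1 : q * p * A * (q * p)⁻¹ = a8 := by rw [← q1, ← hp]; group
  have e2 : q * p * E * (q * p)⁻¹ = e8 := by rw [← q2]; group
  refine ⟨q * p, e1, e2, ?_⟩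
  have s : Perm.sign (q * p * R * (q * p)⁻¹) = -1 := by
    rw [map_mul, map_mul _ _ R, map_inv, mul_right_comm, mul_inv_cancel, one_mul, sR]
  have r2 : (q * p * R * (q * p)⁻¹) ^ 2 = 1 := by rw [conj_pow, pow_two, RR]; group
  have ca : Commute (q * p * R * (q * p)⁻¹) a8 := e1 ▸ RA.map (MulAut.conj (q * p))
  have ce : Commute (q * p * R * (q * p)⁻¹) e8 := e2 ▸ RE.map (MulAut.conj (q * p))
  generalize q * p * R * (q * p)⁻¹ = T at s r2 ca ce
  have hs : T.support ⊆ {0, 1} := fun x hx => by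
    by_contra hn
    refine Perm.mem_support.1 hx ?_
    by_cases h5 : 5 ≤ x.1
    · refine fix a8 ca 2 r2 x ?_
      clear hx hn
      revert x
      decide +kernel
    · refine fix e8 ce 2 r2 x ?_
      clear hx
      revert x
      decide +kernel
  have T1 : T ≠ 1 := fun e => by rw [e] at s; exact absurd s (by decide)
  have hc2 : T.support.card = 2 :=
    le_antisymm ((Finset.card_le_card hs).trans Finset.card_le_two) (Perm.two_le_card_support_of_ne_one T1)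
  obtain ⟨x, y, xy, rfl⟩ := Perm.card_support_eq_two.1 hc2
  revert xy hs
  clear s r2 ca ce T1 hc2
  revert x y
  decide +kernel

theorem exists_ext {Q : Type*} [Group Q] (N : Subgroup Q) [N.Normal] (e : N ≃* alternatingGroup (Fin 8)) :
    ∃ Φ : Q →* S8, (∀ n : N, Φ n = e n) ∧ ∀ q, Φ q = 1 → ∀ n ∈ N, q * n * q⁻¹ = n := by
  have hb := H1.AltAut.bijective (α := Fin 8) (by simp) (by simp)
  let b := MulEquiv.ofBijective _ hb
  refine ⟨b.symm.toMonoidHom.comp ((MulAut.congr e).toMonoidHom.comp MulAut.conjNormal), fun n => ?_,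
    fun q hq n hn => ?_⟩
  · refine b.symm_apply_eq.2 (MulEquiv.ext fun x => ?_)
    obtain ⟨y, rfl⟩ := e.surjective x
    change e (MulAut.conjNormal (n : Q) (e.symm (e y))) = MulAut.conjNormal (e n : S8) (e y)
    rw [e.symm_apply_apply, MulAut.conjNormal_val, MulAut.conjNormal_val, MulAut.conj_apply, MulAut.conj_apply,
      map_mul, map_mul, map_inv]
  · have : MulAut.conjNormal (H := N) q = 1 :=
      (MulAut.congr e).map_eq_one_iff.1 (b.symm.map_eq_one_iff.1 hq)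
    exact congrArg (fun f : MulAut N => (f ⟨n, hn⟩ : Q)) this

/-- the points `2, 5, 6, 7, 8` -/
def f5 : Fin 5 ≃ {x : Fin 9 // c9 x = x} :=
  ⟨fun i => ⟨![2, 5, 6, 7, 8] i, by revert i; decide⟩, fun x => ![0, 0, 0, 0, 0, 1, 2, 3, 4] x.1,
    by intro i; revert i; decide, by intro x; revert x; decide⟩

/-- `S₅` on the points `2, 5, 6, 7, 8` -/
def ι5 : S5 →* S9 := Perm.extendDomainHom f5

theorem ι5_inj : Injective ι5 := Perm.extendDomainHom_injective f5

theorem sign_ι5 (ρ : S5) : Perm.sign (ι5 ρ) = Perm.sign ρ := Perm.sign_extendDomain ρ f5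

theorem ι5_comm : ∀ ρ : S5, ι5 ρ * c9 = c9 * ι5 ρ ∧ ι5 ρ * z9 = z9 * ι5 ρ ∧
    ι5 ρ * swap 0 1 = swap 0 1 * ι5 ρ := by decide +kernel

theorem ι5_e5 : ι5 e5 = p0 (0, 0, 1) := by decide +kernel

theorem dec9 {σ : S9} (h1 : σ * c9 = c9 * σ) (h2 : σ * z9 = z9 * σ) : ∃ v ρ, InF c9 z9 v ∧ σ = v * ι5 ρ := by
  have key : ∀ τ : S9, τ * c9 = c9 * τ → τ * z9 = z9 * τ → τ 0 = 0 → ∃ ρ, τ = ι5 ρ := fun τ h1 h2 h0 => by
    have a1 : ∀ x, τ (c9 x) = c9 (τ x) := fun x => congrArg (· x) h1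
    have a2 : ∀ x, τ (z9 x) = z9 (τ x) := fun x => congrArg (· x) h2
    have t1 : τ 1 = 1 := by have := a1 0; rwa [h0] at this
    have t3 : τ 3 = 3 := by have := a2 0; rwa [h0] at this
    have t4 : τ 4 = 4 := by have := a2 1; rwa [t1] at this
    have hp : ∀ x, c9 (τ x) = τ x ↔ c9 x = x := fun x => by rw [← a1, τ.injective.eq_iff]
    refine ⟨f5.symm.permCongr (τ.subtypePerm hp), Equiv.ext fun x => ?_⟩
    by_cases hx : c9 x = x
    · simp [ι5, Perm.extendDomain_apply_subtype _ f5 hx]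
    · rw [ι5, Perm.extendDomainHom_apply, Perm.extendDomain_apply_not_subtype _ f5 hx]
      have : ∀ x, c9 x ≠ x → x = 0 ∨ x = 1 ∨ x = 3 ∨ x = 4 := by decide
      rcases this x hx with rfl | rfl | rfl | rfl <;> assumption
  have d : ∀ j : Fin 9, c9 j ≠ j → ∃ v ∈ [1, c9, z9, z9 * c9], v j = 0 ∧ v * c9 = c9 * v ∧ v * z9 = z9 * v ∧
      v * v = 1 := by decide +kernel
  obtain ⟨v, hv, e0, e1, e2, e3⟩ := d (σ 0) fun e =>
    absurd (σ.injective ((congrArg (· 0) h1).trans e)) (by decide)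
  obtain ⟨ρ, e⟩ := key (v * σ) (by rw [mul_assoc, h1, ← mul_assoc, e1, mul_assoc])
    (by rw [mul_assoc, h2, ← mul_assoc, e2, mul_assoc]) e0
  exact ⟨v, ρ, by simpa [InF] using hv, by rw [← e, ← mul_assoc, e3, one_mul]⟩

theorem norm_e9 {σ : S9} (h1 : σ * c9 = c9 * σ) (h2 : σ * r9 = r9 * σ) :
    σ * p0 (0, 0, 1) * σ⁻¹ = p0 (0, 0, 1) ∨ σ * p0 (0, 0, 1) * σ⁻¹ = (p0 (0, 0, 1))⁻¹ := by
  have a : ∀ x, c9 x = x ∧ r9 x = x → c9 (σ x) = σ x ∧ r9 (σ x) = σ x := fun x hx =>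
    ⟨(congrArg (· x) h1).symm.trans (congrArg σ hx.1), (congrArg (· x) h2).symm.trans (congrArg σ hx.2)⟩
  have d : ∀ i j k : Fin 9, c9 i = i ∧ r9 i = i → c9 j = j ∧ r9 j = j → c9 k = k ∧ r9 k = k → i ≠ j → j ≠ k → i ≠ k →
      swap i j * swap j k = p0 (0, 0, 1) ∨ swap i j * swap j k = (p0 (0, 0, 1))⁻¹ := by decide +kernel
  have : σ * p0 (0, 0, 1) * σ⁻¹ = swap (σ 6) (σ 7) * swap (σ 7) (σ 8) := by
    rw [swap_apply_apply, swap_apply_apply, show p0 (0, 0, 1) = swap 6 7 * swap 7 8 by decide]; group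
  rw [this]
  exact d _ _ _ (a 6 (by decide)) (a 7 (by decide)) (a 8 (by decide)) (σ.injective.ne (by decide))
    (σ.injective.ne (by decide)) (σ.injective.ne (by decide))

theorem not_out {σ : S9} (s : Perm.sign σ = 1) (h1 : σ * c9 = c9 * σ) (h2 : σ * z9 * σ⁻¹ = z9 * c9)
    (h3 : σ * ι5 e5 = ι5 e5 * σ) (h4 : σ * ι5 (swap 0 1 * swap 1 2) = ι5 (swap 0 1 * swap 1 2) * σ) : False := by
  obtain ⟨v, ρ, hv, e⟩ := dec9 (σ := swap 0 1 * σ)
    (by rw [mul_assoc, h1, ← mul_assoc, ← mul_assoc]; congr 1; decide)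
    (by rw [mul_assoc, mul_inv_eq_iff_eq_mul.1 h2, ← mul_assoc, ← mul_assoc _ (swap 0 1)]; congr 1; decide)
  have vc : ∀ τ, v * ι5 τ = ι5 τ * v := fun τ => by
    obtain ⟨a, b, -⟩ := ι5_comm τ
    rcases hv with rfl | rfl | rfl | rfl
    · simp
    · exact a.symm
    · exact b.symm
    · rw [mul_assoc, ← a, ← mul_assoc, ← b, mul_assoc]
  have key : ∀ τ, σ * ι5 τ = ι5 τ * σ → ρ * τ = τ * ρ := fun τ h => ι5_inj (by
    rw [map_mul, map_mul]
    refine mul_left_cancel (a := v) ?_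
    rw [← mul_assoc, ← e, ← mul_assoc, vc, mul_assoc _ v, ← e, mul_assoc, h, ← mul_assoc, ← (ι5_comm τ).2.2,
      mul_assoc])
  have d : ∀ ρ : S5, ρ * e5 = e5 * ρ → ρ * (swap 0 1 * swap 1 2) = swap 0 1 * swap 1 2 * ρ → ρ = 1 := by
    decide +kernel
  obtain rfl := d ρ (key _ h3) (key _ h4)
  have := congrArg Perm.sign e
  rw [map_one, mul_one, map_mul, s] at this
  rcases hv with rfl | rfl | rfl | rfl <;> exact absurd this (by decide)

end Cfsg.Agent.H3L.DB
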