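import Cfsg.Agent.H3L.Defs
import Cfsg.Agent.H95.CoxeterA

/-! Project H3L: the group `EE c z` and the Coxeter lift of `S₈` to `C(c)/⟨c⟩`. -/

set_option autoImplicit false
set_option linter.unusedSectionVars false

namespace Cfsg.Agent.H3L.DC

open Subgroup Equiv Function H49 MC3

variable {G : Type*} [Group G]

/-- a four-group -/
structure V4 (c z : G) : Prop where
  cc : c * c = 1
  zz : z * z = 1
  cz : c * z = z * c
  c1 : c ≠ 1
  z1 : z ≠ 1
  zc : z ≠ c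

namespace V4

variable {c z : G} (v : V4 c z)
include v

theorem ci : c⁻¹ = c := inv_eq_of_mul_eq_one_right v.cc

theorem zi : z⁻¹ = z := inv_eq_of_mul_eq_one_right v.zz

theorem zcc : z * c * c = z := by rw [mul_assoc, v.cc, mul_one]

theorem mem_cl {x : G} : x ∈ closure {c, z} ↔ InF c z x := by
  have hc : c ∈ closure {c, z} := subset_closure (by simp)
  have hz : z ∈ closure {c, z} := subset_closure (by simp)
  constructor
  · intro hx
    have e1 : c * (z * c) = z := by rw [← mul_assoc, v.cz, v.zcc]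
    have e2 : z * (z * c) = c := by rw [← mul_assoc, v.zz, one_mul]
    induction hx using closure_induction_left with
    | one => exact .inl rfl
    | mul_left y hy x _ ih =>
      rcases hy with rfl | rfl <;> rcases ih with rfl | rfl | rfl | rfl <;>
        simp [InF, v.cc, v.zz, v.cz, e1, e2]
    | inv_mul_cancel y hy x _ ih =>
      rcases hy with rfl | rfl <;> rcases ih with rfl | rfl | rfl | rfl <;>
        simp [InF, v.cc, v.zz, v.cz, e1, e2, v.ci, v.zi]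
  · rintro (rfl | rfl | rfl | rfl)
    exacts [one_mem _, hc, hz, mul_mem hz hc]

theorem mem_EE [Finite G] {x : G} :
    x ∈ EE c z ↔ x * c = c * x ∧ (x * z * x⁻¹ = z ∨ x * z * x⁻¹ = z * c) := by
  have hc : c ∈ closure {c, z} := subset_closure (by simp)
  have hz : z ∈ closure {c, z} := subset_closure (by simp)
  rw [EE, mem_inf, mem_cent1]
  refine and_congr_right fun h => ⟨fun hn => ?_, fun hn => ?_⟩
  · rcases v.mem_cl.1 ((mem_normalizer_iff.1 hn z).1 hz) with e | e | e | e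
    · exact absurd (by simpa using e) v.z1
    · refine absurd ?_ v.zc
      rw [mul_inv_eq_iff_eq_mul, ← h] at e
      exact mul_left_cancel e
    · exact .inl e
    · exact .inr e
  · refine mem_norm_of_cj_le ?_
    rw [cj_def, MonoidHom.map_closure, closure_le]
    rintro _ ⟨y, rfl | rfl, rfl⟩
    · change x * y * x⁻¹ ∈ _
      rw [h, mul_inv_cancel_right]; exact hc
    · change x * y * x⁻¹ ∈ _
      rcases hn with e | e <;> rw [e]
      exacts [hz, mul_mem hz hc]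

theorem mem_of_comm [Finite G] {x : G} (h1 : x * c = c * x) (h2 : x * z = z * x) : x ∈ EE c z :=
  v.mem_EE.2 ⟨h1, .inl (by rw [h2, mul_inv_cancel_right])⟩

end V4

theorem EE_le {c z : G} : EE c z ≤ 𝒞[c] := inf_le_left

/-- the data of `DB` together with the quotient map -/
structure Dt {X : Type*} [Group X] (c z r : G) (Φ : G → S8) (π : G → X) : Prop where
  v : V4 c z
  Φh : PH (EE c z) Φ
  ker : ∀ x ∈ EE c z, Φ x = 1 ↔ InF c z x
  surj : ∀ σ, ∃ x ∈ EE c z, Φ x = σ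
  sgn : ∀ x ∈ EE c z, Perm.sign (Φ x) = 1 ↔ x * z = z * x
  rm : r ∈ EE c z
  rr : r * r = 1
  Φr : Φ r = swap 0 1
  πh : PH 𝒞[c] π
  πk : ∀ x ∈ 𝒞[c], π x = 1 ↔ x = 1 ∨ x = c

namespace Dt

variable [Finite G] {X : Type*} [Group X] {c z r : G} {Φ : G → S8} {π : G → X} (h : Dt c z r Φ π)
include h

theorem cm : c ∈ EE c z := h.v.mem_of_comm rfl h.v.cz

theorem zm : z ∈ EE c z := h.v.mem_of_comm h.v.cz.symm rfl

theorem πE : PH (EE c z) π := h.πh.mono EE_le

theorem πc : π c = 1 := (h.πk c (EE_le h.cm)).2 (.inr rfl)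

theorem πmc {x : G} (hx : x ∈ 𝒞[c]) : π (x * c) = π x := by
  rw [h.πh.mul _ hx _ (EE_le h.cm), h.πc, mul_one]

theorem πeq {x y : G} (hx : x ∈ 𝒞[c]) (hy : y ∈ 𝒞[c]) (e : π x = π y) : x = y ∨ x = y * c := by
  have : π (y⁻¹ * x) = 1 := by rw [h.πh.mul _ (inv_mem hy) _ hx, h.πh.inv hy, e, inv_mul_cancel]
  rcases (h.πk _ (mul_mem (inv_mem hy) hx)).1 this with e | e
  · exact .inl (inv_mul_eq_one.1 e).symm
  · exact .inr (inv_mul_eq_iff_eq_mul.1 e)

theorem Φeq {x y : G} (hx : x ∈ EE c z) (hy : y ∈ EE c z) (e : Φ x = Φ y) : ∃ k, InF c z k ∧ x = k * y := by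
  refine ⟨x * y⁻¹, (h.ker _ (mul_mem hx (inv_mem hy))).1 ?_, by group⟩
  rw [h.Φh.div hx hy, e, mul_inv_cancel]

theorem πz : π z ≠ 1 := fun e => by
  rcases (h.πk z (EE_le h.zm)).1 e with e | e
  exacts [h.v.z1 e, h.v.zc e]

theorem zcomm {x : G} (hx : x ∈ EE c z) : π z * π x = π x * π z := by
  have : π (x * z * x⁻¹) = π z := by
    rcases (h.v.mem_EE.1 hx).2 with e | e <;> rw [e]
    exact h.πmc (EE_le h.zm)
  rw [h.πE.conj hx h.zm, mul_inv_eq_iff_eq_mul] at this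
  exact this.symm

theorem πΦ {x y : G} (hx : x ∈ EE c z) (hy : y ∈ EE c z) (e : Φ x = Φ y) :
    π x = π y ∨ π x = π z * π y := by
  obtain ⟨k, hk, rfl⟩ := h.Φeq hx hy e
  rcases hk with rfl | rfl | rfl | rfl
  · exact .inl (by rw [one_mul])
  · exact .inl (by rw [h.πE.mul _ h.cm _ hy, h.πc, one_mul])
  · exact .inr (h.πE.mul _ h.zm _ hy)
  · exact .inr (by rw [h.πE.mul _ (mul_mem h.zm h.cm) _ hy, h.πmc (EE_le h.zm)])

theorem sq {x : G} (hx : x ∈ EE c z) (xx : x * x = 1) (s : Perm.sign (Φ x) = -1) : z * x * (z * x) = c := by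
  have xi : x⁻¹ = x := inv_eq_of_mul_eq_one_right xx
  rcases (h.v.mem_EE.1 hx).2 with e | e
  · rw [(h.sgn x hx).2 (mul_inv_eq_iff_eq_mul.1 e)] at s
    exact absurd s (by decide)
  · rw [xi] at e
    calc z * x * (z * x) = z * (x * z * x) := by group
      _ = c := by rw [e, ← mul_assoc, h.v.zz, one_mul]

theorem uniq {x y : G} (hx : x ∈ EE c z) (hy : y ∈ EE c z) (xx : x * x = 1) (yy : y * y = 1)
    (s : Perm.sign (Φ y) = -1) (e : Φ x = Φ y) : π x = π y := by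
  refine (h.πΦ hx hy e).elim id fun e' => ?_
  rw [← h.πE.mul _ h.zm _ hy] at e'
  have q := h.sq hy yy s
  have cy : c * (z * y) = z * y * c := (mem_cent1.1 (EE_le (mul_mem h.zm hy))).symm
  rcases h.πeq (EE_le hx) (EE_le (mul_mem h.zm hy)) e' with e | e <;> rw [e] at xx
  · exact absurd (q.symm.trans xx) h.v.c1
  · refine absurd ?_ h.v.c1
    calc c = z * y * (z * y) * (c * c) := by rw [q, h.v.cc, mul_one]
      _ = z * y * (z * y * c) * c := by group
      _ = z * y * (c * (z * y)) * c := by rw [cy]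
      _ = z * y * c * (z * y * c) := by group
      _ = 1 := xx

theorem lift {i j : Fin 8} (ij : i ≠ j) : ∃ x ∈ EE c z, x * x = 1 ∧ Φ x = swap i j := by
  obtain ⟨p, hp⟩ := isConj_iff.1 (Perm.isConj_swap (show (0 : Fin 8) ≠ 1 by decide) ij)
  obtain ⟨y, hy, rfl⟩ := h.surj p
  refine ⟨y * r * y⁻¹, mul_mem (mul_mem hy h.rm) (inv_mem hy), ?_, ?_⟩
  · calc y * r * y⁻¹ * (y * r * y⁻¹) = y * (r * r) * y⁻¹ := by group
      _ = 1 := by rw [h.rr]; group
  · rw [h.Φh.conj hy h.rm, h.Φr, hp]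

theorem exists_β : ∃ β : S8 →* X, ∀ σ, ∃ x ∈ EE c z, π x = β σ ∧ Φ x = σ ∧ (σ = swap 0 1 → π r = β σ) := by
  have : ∀ i : ℕ, ∃ x ∈ EE c z, x * x = 1 ∧ (i < 7 → Φ x = H95.adjSwap 7 i) := fun i => by
    by_cases hi : i < 7
    · rw [H95.adjSwap_of_lt hi]
      obtain ⟨x, hx, xx, e⟩ := h.lift (i := ⟨i, by omega⟩) (j := ⟨i + 1, by omega⟩) (by simp [Fin.ext_iff])
      exact ⟨x, hx, xx, fun _ => e⟩
    · exact ⟨1, one_mem _, mul_one 1, fun e => absurd e hi⟩
  choose t ht tt tΦ using this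
  have ti : ∀ i, (t i)⁻¹ = t i := fun i => inv_eq_of_mul_eq_one_right (tt i)
  have m3 : ∀ i j, t i * t j * t i ∈ EE c z := fun i j => mul_mem (mul_mem (ht i) (ht j)) (ht i)
  have s3 : ∀ i j, t i * t j * t i * (t i * t j * t i) = 1 := fun i j => by
    calc _ = t i * t j * (t i * t i) * t j * t i := by group
      _ = t i * (t j * t j) * t i := by rw [tt]; group
      _ = 1 := by rw [tt, mul_one, tt]
  have Φ3 : ∀ i < 7, ∀ j < 7, Φ (t i * t j * t i) = H95.adjSwap 7 i * H95.adjSwap 7 j * H95.adjSwap 7 i :=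
    fun i hi j hj => by rw [h.Φh.mul _ (mul_mem (ht i) (ht j)) _ (ht i), h.Φh.mul _ (ht i) _ (ht j), tΦ i hi, tΦ j hj]
  have π3 : ∀ i j, π (t i * t j * t i) = π (t i) * π (t j) * π (t i) :=
    fun i j => by rw [h.πE.mul _ (mul_mem (ht i) (ht j)) _ (ht i), h.πE.mul _ (ht i) _ (ht j)]
  have π2 : ∀ i, π (t i) * π (t i) = 1 := fun i => by rw [← h.πE.mul _ (ht i) _ (ht i), tt, h.πE.one]
  have d : ∀ i < 7, ∀ j < 7, let a := H95.adjSwap 7 i; let b := H95.adjSwap 7 j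
      Perm.sign (a * b * a) = -1 ∧ Perm.sign a = -1 ∧ (j = i + 1 → a * b * a = b * a * b) ∧
        (i + 1 < j → a * b * a = b) := by decide +kernel
  obtain ⟨β, hβ⟩ := H95.exists_hom_perm_of_coxeter 7 (fun i => π (t i)) (fun i _ => π2 i) (fun i hi => by
    rw [← π3, ← π3]
    refine h.uniq (m3 _ _) (m3 _ _) (s3 _ _) (s3 _ _) ?_ ?_
    · rw [Φ3 _ hi _ (by omega)]; exact (d _ hi _ (by omega)).1
    · rw [Φ3 _ hi _ (by omega), Φ3 _ (by omega) _ hi]; exact (d _ (by omega) _ hi).2.2.1 rfl) fun i j ij hj => by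
    have : π (t i * t j * t i) = π (t j) := by
      refine h.uniq (m3 _ _) (ht _) (s3 _ _) (tt _) ?_ ?_
      · rw [tΦ j hj]; exact (d _ hj _ hj).2.1
      · rw [Φ3 _ (by omega) _ hj, tΦ j hj]; exact (d _ (by omega) _ hj).2.2.2 ij
    rw [π3] at this
    change π (t i) * π (t j) = π (t j) * π (t i)
    nth_rw 2 [← this]
    rw [mul_assoc, π2, mul_one]
  have key : ∀ σ, ∃ x ∈ EE c z, π x = β σ ∧ Φ x = σ := fun σ => by
    have hσ : σ ∈ closure (H95.adjSwap 7 '' {i | i < 7}) := by rw [H95.closure_adjSwap]; trivial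
    induction hσ using closure_induction with
    | mem _ hx =>
      obtain ⟨i, hi, rfl⟩ := hx
      exact ⟨t i, ht i, by rw [H95.adjSwap_of_lt hi, hβ i hi], tΦ i hi⟩
    | one => exact ⟨1, one_mem _, by rw [h.πE.one, map_one], h.Φh.one⟩
    | mul _ _ _ _ h1 h2 =>
      obtain ⟨x, hx, e1, rfl⟩ := h1
      obtain ⟨y, hy, e2, rfl⟩ := h2
      exact ⟨x * y, mul_mem hx hy, by rw [h.πE.mul _ hx _ hy, map_mul, e1, e2], h.Φh.mul _ hx _ hy⟩
    | inv _ _ h1 =>
      obtain ⟨x, hx, e1, rfl⟩ := h1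
      exact ⟨x⁻¹, inv_mem hx, by rw [h.πE.inv hx, map_inv, e1], h.Φh.inv hx⟩
  refine ⟨β, fun σ => ?_⟩
  obtain ⟨x, hx, e1, e2⟩ := key σ
  refine ⟨x, hx, e1, e2, ?_⟩
  rintro rfl
  refine Eq.trans ?_ (hβ 0 (by omega)).symm
  refine h.uniq h.rm (ht 0) h.rr (tt 0) ?_ ?_
  · rw [tΦ 0 (by omega)]; decide
  · rw [tΦ 0 (by omega), h.Φr]; decide

end Dt

end Cfsg.Agent.H3L.DC
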