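import Cfsg.Agent.H3L.DA
import Cfsg.Agent.H3L.DBb
import Cfsg.Agent.H3L.DCa

/-! Project H3L: `N(F) ∩ C(c)` maps onto `S₈` with kernel `F`. -/

set_option autoImplicit false
set_option linter.unusedSectionVars false

namespace Cfsg.Agent.H3L

open Subgroup Equiv Function H49 OR.A9 S3702 MC3

variable {G : Type*} [Group G] [Finite G]

namespace DB

open DC

theorem l3 {c z u w : G} (v : V4 c z) (hw : w ∈ 𝒞[c] ⊓ 𝒞[z]) (u3 : u ^ 3 = 1) (w3 : w ^ 3 = 1)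
    (e : InF c z (u * w⁻¹)) : u = w := by
  have h1 : Commute c w := (mem_cent1.1 hw.1).symm
  have h2 : Commute z w := (mem_cent1.1 hw.2).symm
  have : Commute (u * w⁻¹) w ∧ u * w⁻¹ * (u * w⁻¹) = 1 := by
    rcases e with e | e | e | e <;> rw [e]
    exacts [⟨Commute.one_left w, mul_one 1⟩, ⟨h1, v.cc⟩, ⟨h2, v.zz⟩, ⟨h2.mul_left h1, by
      rw [mul_assoc, ← mul_assoc c, v.cz, v.zcc, v.zz]⟩]
  have h3 := this.1.mul_pow 3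
  rw [inv_mul_cancel_right, u3, w3, mul_one, pow_three', this.2, one_mul] at h3
  exact mul_inv_eq_one.1 h3.symm

variable {χ : S9 →* G} {a s g : G} (h : Ch χ a s g)
include h

theorem v4 : V4 (χ c9) (χ z9) := by
  have mm : ∀ {σ τ ρ : S9}, σ * τ = ρ → χ σ * χ τ = χ ρ := fun e => by rw [← map_mul, e]
  have ne : ∀ {σ τ : S9}, σ ≠ τ → χ σ ≠ χ τ := fun e => h.inj.ne e
  exact ⟨by rw [← map_one χ]; exact mm (by decide), by rw [← map_one χ]; exact mm (by decide),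
    by rw [← map_mul, ← map_mul]; congr 1; decide, by rw [← map_one χ]; exact ne (by decide),
    by rw [← map_one χ]; exact ne (by decide), ne (by decide)⟩

theorem memC {σ τ : S9} : χ σ ∈ 𝒞[χ τ] ↔ σ * τ = τ * σ := by
  rw [mem_cent1, ← map_mul, ← map_mul, h.inj.eq_iff]

theorem zC {k : G} (hk : k ∈ zpowers a) {τ : S9} (e : Perm.sign τ = 1) : k ∈ 𝒞[χ τ] :=
  zpowers_le.2 (mem_cent1.2 (mul_inv_eq_iff_eq_mul.1 (h.ev τ e)).symm) hk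

theorem zY {k : G} (hk : k ∈ zpowers a) : k ∈ 𝒞[χ c9] ⊓ 𝒞[χ z9] := ⟨zC h hk (by decide), zC h hk (by decide)⟩

theorem ιY (ρ : S5) : χ (ι5 ρ) ∈ 𝒞[χ c9] ⊓ 𝒞[χ z9] :=
  ⟨(memC h).2 (ι5_comm ρ).1, (memC h).2 (ι5_comm ρ).2.1⟩

theorem a_cube : a ^ 3 = 1 := by rw [← h.a3, pow_orderOf_eq_one]

theorem e_ord : orderOf (χ (p0 (0, 0, 1))) = 3 := by
  rw [orderOf_injective χ h.inj]
  exact orderOf_eq_prime (by decide) (by decide)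

theorem normD {x : G} (hx : x ∈ 𝒞[χ c9] ⊓ 𝒞[χ z9]) (hn : x ∈ 𝒩(zpowers (a * χ (p0 (0, 0, 1))))) :
    x ∈ 𝒩(zpowers a ⊔ zpowers (χ (p0 (0, 0, 1)))) := by
  have ae : a * χ (p0 (0, 0, 1)) = g * a * g⁻¹ := by
    rw [h.ga]; exact mem_cent1.1 (zC h (mem_zpowers a) (by decide))
  have aD := mem_sup_left (T := zpowers (χ (p0 (0, 0, 1)))) (mem_zpowers a)
  have eD := mem_sup_right (S := zpowers a) (mem_zpowers (χ (p0 (0, 0, 1))))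
  have gD : g ∈ 𝒩(zpowers a ⊔ zpowers (χ (p0 (0, 0, 1)))) := by
    refine mem_norm_of_cj_le ?_
    rw [cj_sup, cj_zpowers, cj_zpowers, h.ga, h.g3]
    exact sup_le (zpowers_le.2 (mul_mem eD aD)) (zpowers_le.2 (mul_mem eD (inv_mem aD)))
  rw [ae, ← cj_zpowers, ← cj_normalizer, mem_cj] at hn
  obtain ⟨σ, k, hk, e⟩ := h.nrm _ hn
  have gc : g ∈ 𝒞[χ c9] := mem_cent1.2 h.gc
  have c1 : k * χ σ ∈ 𝒞[χ c9] := e ▸ mul_mem (mul_mem (inv_mem gc) hx.1) gc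
  have c2 : k * χ σ ∈ 𝒞[χ r9] := by
    rw [← e, ← mem_cj, cj_cent1]
    rcases h.gr with e | e <;> rw [e]
    · exact hx.2
    · exact mem_cent1_comm.1 (mul_mem (mem_cent1_comm.1 hx.2) (mem_cent1_comm.1 hx.1))
  have d1 := (memC h).1 ((mul_mem_cancel_left (zC h hk (by decide))).1 c1)
  have d2 := (memC h).1 ((mul_mem_cancel_left (zC h hk (by decide))).1 c2)
  have σn : χ σ ∈ 𝒩(zpowers (χ (p0 (0, 0, 1)))) := (H76.mem_norm_three (e_ord h)).2 (by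
    rw [← map_inv, ← map_inv, ← map_mul, ← map_mul]
    exact (norm_e9 d1 d2).imp (congrArg χ) (congrArg χ))
  have kn : k ∈ 𝒩(zpowers (χ (p0 (0, 0, 1)))) := (H76.mem_norm_three (e_ord h)).2
    (.inl (mul_inv_eq_iff_eq_mul.2 (mem_cent1.1 (zC h hk (by decide)))))
  have := norm_sup (A := zpowers (g⁻¹ * x * g)) (zpowers_le.2 hn) (zpowers_le.2 (e ▸ mul_mem kn σn))
    (mem_zpowers _)
  exact (mul_mem_cancel_left (inv_mem gD)).1 ((mul_mem_cancel_right gD).1 this)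

omit h in
theorem inF {x : G} (e : InF (χ c9) (χ z9) x) : ∃ v, InF c9 z9 v ∧ x = χ v := by
  rcases e with rfl | rfl | rfl | rfl
  exacts [⟨1, .inl rfl, (map_one χ).symm⟩, ⟨_, .inr (.inl rfl), rfl⟩, ⟨_, .inr (.inr (.inl rfl)), rfl⟩,
    ⟨_, .inr (.inr (.inr rfl)), (map_mul χ _ _).symm⟩]

omit h in
theorem inF' {v : S9} (e : InF c9 z9 v) : InF (χ c9) (χ z9) (χ v) := by
  rcases e with rfl | rfl | rfl | rfl
  exacts [.inl (map_one χ), .inr (.inl rfl), .inr (.inr (.inl rfl)), .inr (.inr (.inr (map_mul χ _ _)))]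

theorem alt {X : Type*} [Group X] [Finite X] {P : G → X} (hP : PH (𝒞[χ c9] ⊓ 𝒞[χ z9]) P)
    (hk : ∀ x ∈ 𝒞[χ c9] ⊓ 𝒞[χ z9], P x = 1 ↔ InF (χ c9) (χ z9) x)
    (hs : ∀ x, ∃ y ∈ 𝒞[χ c9] ⊓ 𝒞[χ z9], P y = x) : Nonempty (X ≃* alternatingGroup (Fin 8)) := by
  obtain ⟨t, tc, tz, ta, tt⟩ := h.exists_s
  have tY : t ∈ 𝒞[χ c9] ⊓ 𝒞[χ z9] := ⟨mem_cent1.2 tc, mem_cent1.2 tz⟩
  have aY := zY h (mem_zpowers a)
  have eY : χ (p0 (0, 0, 1)) ∈ 𝒞[χ c9] ⊓ 𝒞[χ z9] := ι5_e5 ▸ ιY h e5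
  have L3 : ∀ u ∈ 𝒞[χ c9] ⊓ 𝒞[χ z9], ∀ w ∈ 𝒞[χ c9] ⊓ 𝒞[χ z9], u ^ 3 = 1 → w ^ 3 = 1 → P u = P w → u = w :=
    fun u hu w hw u3 w3 e => l3 (v4 h) hw u3 w3 ((hk _ (mul_mem hu (inv_mem hw))).1 (by
      rw [hP.div hu hw, e, mul_inv_cancel]))
  have o3 : ∀ d ∈ 𝒞[χ c9] ⊓ 𝒞[χ z9], orderOf d = 3 → orderOf (P d) = 3 := fun d hd ho =>
    orderOf_eq_prime (by rw [← hP.pow hd, ← ho, pow_orderOf_eq_one, hP.one]) fun e =>
      H76.ne_one_of_three ho (L3 d hd 1 (one_mem _) (ho ▸ pow_orderOf_eq_one d) (one_pow 3)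
        (e.trans hP.one.symm))
  have dw : ∀ d ∈ 𝒞[χ c9] ⊓ 𝒞[χ z9], ∀ a ∈ zpowers d, P a ∈ zpowers (P d) := fun d hd a ha => by
    obtain ⟨n, rfl⟩ := mem_powers_iff_mem_zpowers.mpr ha
    exact hP.pow hd n ▸ pow_mem (mem_zpowers _) n
  have nrm : ∀ d ∈ 𝒞[χ c9] ⊓ 𝒞[χ z9], orderOf d = 3 → ∀ n ∈ 𝒞[χ c9] ⊓ 𝒞[χ z9], P n ∈ 𝒩(zpowers (P d)) →
      n ∈ 𝒩(zpowers d) := by
    intro d hd od n hn H
    have d3 : d ^ 3 = 1 := od ▸ pow_orderOf_eq_one d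
    have m := mul_mem (mul_mem hn hd) (inv_mem hn)
    have m3 : (n * d * n⁻¹) ^ 3 = 1 := by rw [conj_pow, d3]; group
    rw [H76.mem_norm_three (o3 d hd od), ← hP.conj hn hd, ← hP.inv hd] at H
    exact (H76.mem_norm_three od).2 (H.imp (L3 _ m _ hd m3 d3) (L3 _ m _ (inv_mem hd) m3 (by rw [inv_pow, d3, inv_one])))
  let j : S5 →* X := MonoidHom.mk' (fun ρ => P (χ (ι5 ρ))) fun ρ τ => by
    rw [map_mul, map_mul, hP.mul _ (ιY h ρ) _ (ιY h τ)]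
  have hj : ∀ ρ, j ρ = P (χ (ι5 ρ)) := fun _ => rfl
  have je : j e5 = P (χ (p0 (0, 0, 1))) := by rw [hj, ι5_e5]
  refine Q5.alt (j := j) (b := P a) (s := P t) ⟨o3 a aY h.a3, fun ρ e => ?_, fun ρ e => ?_, fun ρ e => ?_,
    fun n hn => ?_, ?_, ?_, fun n hn => ?_⟩
  · rw [hj, ← hP.conj (ιY h ρ) aY, h.ev _ ((sign_ι5 ρ).trans e)]
  · rw [hj, ← hP.conj (ιY h ρ) aY, h.od _ ((sign_ι5 ρ).trans e), hP.inv aY]
  · obtain ⟨n, e⟩ := mem_powers_iff_mem_zpowers.mpr e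
    have m := pow_mem aY n
    obtain ⟨v, hv, e⟩ := inF ((hk _ (mul_mem (ιY h ρ) (inv_mem m))).1 (by
      rw [hP.div (ιY h ρ) m, hP.pow aY, ← hj, ← e]; exact mul_inv_cancel _))
    have := h.disj (v⁻¹ * ι5 ρ) (by
      rw [map_mul, map_inv, ← e, show (χ (ι5 ρ) * (a ^ n)⁻¹)⁻¹ * χ (ι5 ρ) = a ^ n by group]
      exact pow_mem (mem_zpowers a) n)
    rw [inv_mul_eq_one] at this
    subst this
    have d : ∀ ρ : S5, ι5 ρ = 1 ∨ ι5 ρ = c9 ∨ ι5 ρ = z9 ∨ ι5 ρ = z9 * c9 → ρ = 1 := by decide +kernel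
    exact d ρ hv
  · obtain ⟨x, hx, rfl⟩ := hs n
    obtain ⟨σ, k, hk', rfl⟩ := h.nrm x (nrm a aY h.a3 x hx hn)
    have σY := (mul_mem_cancel_left (zY h hk')).1 hx
    obtain ⟨v, ρ, hv, rfl⟩ := dec9 ((memC h).1 σY.1) ((memC h).1 σY.2)
    rw [map_mul] at σY
    have vY := (mul_mem_cancel_right (ιY h ρ)).1 σY
    exact ⟨ρ, P k, dw a aY k hk', by
      rw [map_mul, hP.mul _ (zY h hk') _ σY, hP.mul _ vY _ (ιY h ρ), (hk _ vY).2 (inF' hv), one_mul, hj]⟩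
  · rw [← hP.mul _ tY _ tY, hk _ (mul_mem tY tY)]
    exact tt.imp id .inl
  · rw [← hP.conj tY aY, ta, je]
  · obtain ⟨x, hx, rfl⟩ := hs n
    rw [je] at hn ⊢
    rw [← hP.mul _ aY _ eY] at hn
    have ae : a * χ (p0 (0, 0, 1)) = g * a * g⁻¹ := by
      rw [h.ga]; exact mem_cent1.1 (zC h (mem_zpowers a) (by decide))
    have h1 := normD h hx (nrm _ (mul_mem aY eY) (by
      rw [ae, ← h.a3]; exact (MulAut.conj g).orderOf_eq a) x hx hn)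
    have h2 : ∀ u ∈ zpowers a ⊔ zpowers (χ (p0 (0, 0, 1))), u ∈ 𝒞[χ c9] ⊓ 𝒞[χ z9] →
        P x * P u * (P x)⁻¹ ∈ zpowers (P a) ⊔ zpowers (P (χ (p0 (0, 0, 1)))) := fun u hu uY => by
      obtain ⟨p, hp, q, hq, e⟩ := (H76.mem_sup_three (mem_cent1_comm.1 (zC h (mem_zpowers a) (by decide)))).1
        (conj_mem_of_norm le_rfl h1 hu)
      rw [← hP.conj hx uY, e, hP.mul _ (zY h hp) _ (zpowers_le.2 eY hq)]
      exact mul_mem (mem_sup_left (dw a aY p hp)) (mem_sup_right (dw _ eY q hq))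
    refine mem_norm_of_cj_le ?_
    rw [cj_sup, cj_zpowers, cj_zpowers]
    exact sup_le (zpowers_le.2 (h2 _ (mem_sup_left (mem_zpowers _)) aY))
      (zpowers_le.2 (h2 _ (mem_sup_right (mem_zpowers _)) eY))

theorem inner {x : G} (hx : x ∈ EE (χ c9) (χ z9))
    (H : ∀ u ∈ 𝒞[χ c9] ⊓ 𝒞[χ z9], InF (χ c9) (χ z9) (x * u * x⁻¹ * u⁻¹)) : x * χ z9 = χ z9 * x := by
  have key : ∀ u ∈ 𝒞[χ c9] ⊓ 𝒞[χ z9], u ^ 3 = 1 → x ∈ 𝒞[u] := fun u hu u3 =>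
    mem_cent1.2 (mul_inv_eq_iff_eq_mul.1 (l3 (v4 h) hu (by rw [conj_pow, u3]; group) u3 (H u hu)))
  obtain ⟨σ, sσ, k, hk, rfl⟩ := h.cent (mem_cent1.1 (key a (zY h (mem_zpowers a)) (a_cube h)))
  obtain ⟨e1, e2⟩ := (v4 h).mem_EE.1 hx
  refine mul_inv_eq_iff_eq_mul.1 (e2.resolve_right fun e2 => ?_)
  have k3 : ∀ ρ : S5, ρ ^ 3 = 1 → Perm.sign ρ = 1 → σ * ι5 ρ = ι5 ρ * σ := fun ρ r3 sr =>
    (memC h).1 ((mul_mem_cancel_left (zC h hk ((sign_ι5 ρ).trans sr))).1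
      (key _ (ιY h ρ) (by rw [← map_pow, ← map_pow, r3, map_one, map_one])))
  refine not_out sσ ((memC h).1 ((mul_mem_cancel_left (zC h hk (by decide))).1 (mem_cent1.2 e1))) (h.inj ?_)
    (k3 _ (by decide) (by decide)) (k3 _ (by decide) (by decide))
  have kc : k⁻¹ * (χ z9 * χ c9) * k = χ z9 * χ c9 := by
    rw [mul_assoc, ← mem_cent1.1 (mem_cent1_comm.1 (mul_mem (mem_cent1_comm.1 (zY h hk).2)
      (mem_cent1_comm.1 (zY h hk).1))), inv_mul_cancel_left]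
  rw [map_mul, map_mul, map_mul, map_inv, ← kc, ← e2]
  group

end DB

open DB DC in
theorem Ch.exists_Phi {χ : S9 →* G} {a s g : G} (h : Ch χ a s g) : ∃ Φ : G → S8, PH (EE (χ c9) (χ z9)) Φ ∧
    (∀ x ∈ EE (χ c9) (χ z9), Φ x = 1 ↔ InF (χ c9) (χ z9) x) ∧ (∀ σ, ∃ x ∈ EE (χ c9) (χ z9), Φ x = σ) ∧
    (∀ x ∈ EE (χ c9) (χ z9), Perm.sign (Φ x) = 1 ↔ x * χ z9 = χ z9 * x) ∧
    Φ a = a8 ∧ Φ (χ (p0 (0, 0, 1))) = e8 ∧ Φ (χ r9) = swap 0 1 := by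
  have : Fact (Nat.Prime 5) := ⟨Nat.prime_five⟩
  have v := v4 h
  have YE : 𝒞[χ c9] ⊓ 𝒞[χ z9] ≤ EE (χ c9) (χ z9) := fun x hx => v.mem_of_comm (mem_cent1.1 hx.1) (mem_cent1.1 hx.2)
  have nY : ∀ x ∈ EE (χ c9) (χ z9), ∀ u ∈ 𝒞[χ c9] ⊓ 𝒞[χ z9], x * u * x⁻¹ ∈ 𝒞[χ c9] ⊓ 𝒞[χ z9] := fun x hx u hu => by
    refine mem_inf.2 ⟨mul_mem (mul_mem (EE_le hx) hu.1) (inv_mem (EE_le hx)), ?_⟩
    have : u ∈ 𝒞[x⁻¹ * χ z9 * x⁻¹⁻¹] := by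
      rcases (v.mem_EE.1 (inv_mem hx)).2 with e | e <;> rw [e]
      · exact hu.2
      · exact mem_cent1_comm.1 (mul_mem (mem_cent1_comm.1 hu.2) (mem_cent1_comm.1 hu.1))
    rwa [← cj_cent1, mem_cj, inv_inv] at this
  have : ((closure {χ c9, χ z9}).subgroupOf (EE (χ c9) (χ z9))).Normal := normal_subgroupOf inf_le_right
  let f := QuotientGroup.mk' ((closure {χ c9, χ z9}).subgroupOf (EE (χ c9) (χ z9)))
  obtain ⟨R, hR, eR⟩ := exists_PH f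
  have Rk : ∀ x ∈ EE (χ c9) (χ z9), R x = 1 ↔ InF (χ c9) (χ z9) x := fun x hx => by
    rw [show R x = _ from eR ⟨x, hx⟩, ← v.mem_cl]
    exact QuotientGroup.eq_one_iff _
  have Rs : ∀ q, ∃ x ∈ EE (χ c9) (χ z9), R x = q := fun q => by
    obtain ⟨x, rfl⟩ := QuotientGroup.mk'_surjective _ q
    exact ⟨x, x.2, eR x⟩
  let N := (hR.mono YE).im
  have mN : ∀ {q}, q ∈ N ↔ ∃ y ∈ 𝒞[χ c9] ⊓ 𝒞[χ z9], R y = q := (hR.mono YE).mem_im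
  have : N.Normal := ⟨fun n hn q => by
    obtain ⟨y, hy, rfl⟩ := mN.1 hn
    obtain ⟨x, hx, rfl⟩ := Rs q
    exact mN.2 ⟨_, nY x hx y hy, hR.conj hx (YE hy)⟩⟩
  obtain ⟨P, hP, eP⟩ := exists_PH (K := N) (hR.mono YE).hom.rangeRestrict
  have PR : ∀ y ∈ 𝒞[χ c9] ⊓ 𝒞[χ z9], (P y : _ ⧸ _) = R y := fun y hy => congrArg Subtype.val (eP ⟨y, hy⟩)
  obtain ⟨e⟩ := alt h hP (fun x hx => by rw [← Rk x (YE hx), ← PR x hx, OneMemClass.coe_eq_one]) fun n => by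
    obtain ⟨y, hy, e⟩ := mN.1 n.2
    exact ⟨y, hy, Subtype.ext ((PR y hy).trans e)⟩
  obtain ⟨Φ, Φe, Φk⟩ := exists_ext N e
  have FY : ∀ x, InF (χ c9) (χ z9) x → x ∈ 𝒞[χ c9] ⊓ 𝒞[χ z9] := by
    rintro x (rfl | rfl | rfl | rfl)
    exacts [one_mem _, ⟨self_mem_cent1 _, mem_cent1.2 v.cz⟩, ⟨mem_cent1.2 v.cz.symm, self_mem_cent1 _⟩,
      mul_mem ⟨mem_cent1.2 v.cz.symm, self_mem_cent1 _⟩ ⟨self_mem_cent1 _, mem_cent1.2 v.cz⟩]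
  have Φi : Injective Φ := (injective_iff_map_eq_one Φ).2 fun q hq => by
    obtain ⟨x, hx, rfl⟩ := Rs q
    have xY : x ∈ 𝒞[χ c9] ⊓ 𝒞[χ z9] := ⟨EE_le hx, mem_cent1.2 (inner h hx fun u hu => by
      rw [← Rk _ (mul_mem (YE (nY x hx u hu)) (inv_mem (YE hu))), hR.div (YE (nY x hx u hu)) (YE hu),
        hR.conj hx (YE hu), Φk _ hq _ (mN.2 ⟨u, hu, rfl⟩), mul_inv_cancel])⟩
    have := Φe ⟨R x, mN.2 ⟨x, xY, rfl⟩⟩
    rw [hq, eq_comm, OneMemClass.coe_eq_one, e.map_eq_one_iff] at this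
    exact congrArg Subtype.val this
  have ΦP : PH (EE (χ c9) (χ z9)) fun x => Φ (R x) := hR.comp Φ
  have ker : ∀ x ∈ EE (χ c9) (χ z9), Φ (R x) = 1 ↔ InF (χ c9) (χ z9) x := fun x hx => by
    rw [map_eq_one_iff Φ Φi, Rk x hx]
  have ev : ∀ σ : S8, Perm.sign σ = 1 → ∃ y ∈ 𝒞[χ c9] ⊓ 𝒞[χ z9], Φ (R y) = σ := fun σ hσ => by
    obtain ⟨n, hn⟩ := e.surjective ⟨σ, Perm.mem_alternatingGroup.2 hσ⟩
    obtain ⟨y, hy, e'⟩ := mN.1 n.2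
    exact ⟨y, hy, by rw [e', Φe, hn]⟩
  have sgn : ∀ x ∈ EE (χ c9) (χ z9), Perm.sign (Φ (R x)) = 1 ↔ x * χ z9 = χ z9 * x := fun x hx => by
    refine ⟨fun s => ?_, fun s => ?_⟩
    · obtain ⟨y, hy, e'⟩ := ev _ s
      have := FY _ ((ker _ (mul_mem hx (inv_mem (YE hy)))).1 (by rw [ΦP.div hx (YE hy), e', mul_inv_cancel]))
      exact mem_cent1.1 ((mul_mem_cancel_right (inv_mem hy)).1 this).2
    · rw [show Φ (R x) = _ from Φe ⟨R x, mN.2 ⟨x, ⟨EE_le hx, mem_cent1.2 s⟩, rfl⟩⟩]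
      exact Perm.mem_alternatingGroup.1 (Subtype.prop _)
  have rE : χ r9 ∈ EE (χ c9) (χ z9) := v.mem_EE.2 ⟨mem_cent1.1 ((memC h).2 (by decide)), .inr (by
    rw [← map_inv, ← map_mul, ← map_mul, ← map_mul]; congr 1; decide)⟩
  have sr : Perm.sign (Φ (R (χ r9))) = -1 := (Int.units_eq_one_or _).resolve_left fun s =>
    absurd ((memC h).1 (mem_cent1.2 ((sgn _ rE).1 s))) (by decide)
  have aY := zY h (mem_zpowers a)
  have eY : χ (p0 (0, 0, 1)) ∈ 𝒞[χ c9] ⊓ 𝒞[χ z9] := ι5_e5 ▸ ιY h e5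
  have L3 : ∀ u ∈ 𝒞[χ c9] ⊓ 𝒞[χ z9], ∀ w ∈ 𝒞[χ c9] ⊓ 𝒞[χ z9], u ^ 3 = 1 → w ^ 3 = 1 → Φ (R u) = Φ (R w) →
      u = w := fun u hu w hw u3 w3 e => l3 v hw u3 w3 ((ker _ (YE (mul_mem hu (inv_mem hw)))).1 (by
      rw [ΦP.div (YE hu) (YE hw), e, mul_inv_cancel]))
  have cm : ∀ x ∈ EE (χ c9) (χ z9), ∀ y ∈ EE (χ c9) (χ z9), x ∈ 𝒞[y] → Commute (Φ (R x)) (Φ (R y)) :=
    fun x hx y hy e => by
      have h1 := ΦP.mul _ hx _ hy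
      rw [mem_cent1.1 e, ΦP.mul _ hy _ hx] at h1
      exact h1.symm
  have e3 : χ (p0 (0, 0, 1)) ^ 3 = 1 := orderOf_dvd_iff_pow_eq_one.1 (e_ord h).dvd
  have ne : ∀ k ∈ zpowers a, k ^ 3 = 1 → Φ (R (χ (p0 (0, 0, 1)))) ≠ Φ (R k) := fun k hk k3 e =>
    absurd (h.disj _ (L3 _ eY _ (zY h hk) e3 k3 e ▸ hk)) (by decide)
  obtain ⟨t, tc, tz, ta, -⟩ := h.exists_s
  have tE := v.mem_of_comm tc tz
  have uY := ιY h (swap 0 1 * swap 1 2 * swap 2 3 * swap 3 4)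
  obtain ⟨p, p1, p2, p3⟩ := std8 (A := Φ (R a)) (E := Φ (R (χ (p0 (0, 0, 1))))) (R := Φ (R (χ r9)))
    (U := Φ (R (χ (ι5 (swap 0 1 * swap 1 2 * swap 2 3 * swap 3 4)))))
    (orderOf_eq_prime (by rw [← ΦP.pow (YE aY), a_cube h, ΦP.one]) fun e =>
      H76.ne_one_of_three h.a3 (L3 _ aY 1 (one_mem _) (a_cube h) (one_pow 3) (e.trans ΦP.one.symm)))
    (orderOf_eq_prime (by
      rw [← ΦP.pow (YE uY), ← map_pow, ← map_pow, show (swap 0 1 * swap 1 2 * swap 2 3 * swap 3 4 : S5) ^ 5 = 1 by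
        decide, map_one, map_one, ΦP.one]) fun e => by
      obtain ⟨w, hw, e⟩ := inF ((ker _ (YE uY)).1 e)
      rw [← h.inj e] at hw
      revert hw
      unfold InF
      decide +kernel)
    (cm _ (YE aY) _ (YE uY) (zC h (mem_zpowers a) (by rw [sign_ι5]; decide)))
    (isConj_iff.2 ⟨_, by rw [← ΦP.conj tE (YE aY), ta]⟩)
    (cm _ (YE aY) _ (YE eY) (zC h (mem_zpowers a) (by decide))) (ne _ (mem_zpowers a) (a_cube h))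
    (by rw [← ΦP.inv (YE aY)]; exact ne _ (inv_mem (mem_zpowers a)) (by rw [inv_pow, a_cube h, inv_one]))
    (by rw [← ΦP.mul _ rE _ rE, ← map_mul, show r9 * r9 = 1 by decide, map_one, ΦP.one]) sr
    (cm _ (YE aY) _ rE (zC h (mem_zpowers a) (by decide))).symm (cm _ rE _ (YE eY) ((memC h).2 (by decide)))
  refine ⟨fun x => p * Φ (R x) * p⁻¹, ΦP.comp (MulAut.conj p).toMonoidHom, fun x hx => ?_, fun σ => ?_,
    fun x hx => ?_, p1, p2, p3⟩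
  · rw [conj_eq_one_iff, ker x hx]
  · rcases Int.units_eq_one_or (Perm.sign (p⁻¹ * σ * p)) with s | s
    · obtain ⟨y, hy, e'⟩ := ev _ s
      exact ⟨y, YE hy, by simp only [e']; group⟩
    · obtain ⟨y, hy, e'⟩ := ev (p⁻¹ * σ * p * (Φ (R (χ r9)))⁻¹) (by rw [map_mul, map_inv, s, sr]; decide)
      exact ⟨y * χ r9, mul_mem (YE hy) rE, by
        have := ΦP.mul _ (YE hy) _ rE
        simp only [this, e']; group⟩
  · rw [← sgn x hx, map_mul, map_mul, map_inv, mul_right_comm, mul_inv_cancel, one_mul]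

end Cfsg.Agent.H3L
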