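import Cfsg.Agent.H3L.Defs
import Cfsg.Agent.MC3.Down
import Cfsg.Agent.H76.Ord3

/-! Project H3L: a group with `N(⟨b⟩) = (3 × A₅):2` and an interchanging involution is `A₈`. -/

set_option autoImplicit false
set_option linter.unusedSectionVars false

namespace Cfsg.Agent.H3L.DB

open Subgroup Equiv Function H49 MC3

/-- `S₅` -/
abbrev S5 := Perm (Fin 5)

/-- the three-cycle `(2 3 4)` -/
def e5 : S5 := swap 2 3 * swap 3 4

variable {X : Type*} [Group X] [Finite X]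

/-- `N(⟨b⟩) = ⟨b⟩ ⋊ j(S₅)`, `s` interchanges `b` and `j (2 3 4)`. -/
structure Q5 (j : S5 →* X) (b s : X) : Prop where
  b3 : orderOf b = 3
  ev : ∀ ρ, Perm.sign ρ = 1 → j ρ * b * (j ρ)⁻¹ = b
  od : ∀ ρ, Perm.sign ρ = -1 → j ρ * b * (j ρ)⁻¹ = b⁻¹
  disj : ∀ ρ, j ρ ∈ zpowers b → ρ = 1
  nrm : ∀ n ∈ 𝒩(zpowers b), ∃ ρ, ∃ k ∈ zpowers b, n = k * j ρ
  ss : s * s = 1
  sb : s * b * s⁻¹ = j e5
  nY : 𝒩(zpowers (b * j e5)) ≤ 𝒩(zpowers b ⊔ zpowers (j e5))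

/-- the three-cycle of `S₃` -/
def c3 : Perm (Fin 3) := swap 0 1 * swap 1 2

/-- the sign in `S₃` -/
def w3 (ρ : S5) : Perm (Fin 3) := if Perm.sign ρ = 1 then 1 else swap 0 1

theorem w3_mul (ρ τ : S5) : w3 (ρ * τ) = w3 ρ * w3 τ := by
  simp only [w3, map_mul]
  rcases Int.units_eq_one_or (Perm.sign ρ) with e | e <;> rcases Int.units_eq_one_or (Perm.sign τ) with e' | e' <;>
    simp [e, e']

theorem sign_w3 (ρ : S5) : Perm.sign (w3 ρ) = Perm.sign ρ := by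
  simp only [w3]
  rcases Int.units_eq_one_or (Perm.sign ρ) with e | e <;> simp [e]

theorem oc3 : orderOf c3 = 3 :=
  haveI : Fact (Nat.Prime 3) := ⟨Nat.prime_three⟩
  orderOf_eq_prime (by decide) (by decide)

namespace Q5

variable {j : S5 →* X} {b s : X} (h : Q5 j b s)
include h

theorem inj : Injective j := (injective_iff_map_eq_one j).2 fun ρ e => h.disj ρ (e ▸ one_mem _)

theorem uniq {k k' : X} (hk : k ∈ zpowers b) (hk' : k' ∈ zpowers b) {ρ ρ' : S5} (e : k * j ρ = k' * j ρ') :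
    k = k' ∧ ρ = ρ' := by
  have : ρ * ρ'⁻¹ = 1 := h.disj _ (by
    rw [map_mul, map_inv, show j ρ * (j ρ')⁻¹ = k⁻¹ * k' by rw [eq_inv_mul_iff_mul_eq, ← mul_assoc, e]; group]
    exact mul_mem (inv_mem hk) hk')
  obtain rfl := mul_inv_eq_one.1 this
  exact ⟨mul_right_cancel e, rfl⟩

theorem exists_ab : ∃ (α : 𝒩(zpowers b) →* Perm (Fin 3)) (β : 𝒩(zpowers b) →* S5),
    ∀ (n : 𝒩(zpowers b)) (i : ℤ) ρ, (n : X) = b ^ i * j ρ → α n = c3 ^ i * w3 ρ ∧ β n = ρ := by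
  have H : ∀ n : 𝒩(zpowers b), ∃ p : ℤ × S5, (n : X) = b ^ p.1 * j p.2 := fun n => by
    obtain ⟨ρ, _, ⟨i, rfl⟩, e⟩ := h.nrm n n.2
    exact ⟨(i, ρ), e⟩
  choose p hp using H
  have key : ∀ (n : 𝒩(zpowers b)) (i : ℤ) ρ, (n : X) = b ^ i * j ρ →
      c3 ^ (p n).1 * w3 (p n).2 = c3 ^ i * w3 ρ ∧ (p n).2 = ρ := fun n i ρ e => by
    obtain ⟨e1, e2⟩ := h.uniq (zpow_mem (mem_zpowers b) _) (zpow_mem (mem_zpowers b) _) ((hp n).symm.trans e)
    rw [zpow_eq_zpow_iff_modEq, h.b3, ← oc3, ← zpow_eq_zpow_iff_modEq] at e1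
    exact ⟨by rw [e1, e2], e2⟩
  have mul : ∀ m n : 𝒩(zpowers b), ∃ i : ℤ, ((m * n : 𝒩(zpowers b)) : X) = b ^ ((p m).1 + i) * j ((p m).2 * (p n).2) ∧
      c3 ^ i = w3 (p m).2 * c3 ^ (p n).1 * (w3 (p m).2)⁻¹ := fun m n => by
    have e : ((m * n : 𝒩(zpowers b)) : X) =
        b ^ (p m).1 * (j (p m).2 * b * (j (p m).2)⁻¹) ^ (p n).1 * j ((p m).2 * (p n).2) := by
      rw [coe_mul, conj_zpow, map_mul]
      nth_rw 1 [hp m, hp n]
      group
    rcases Int.units_eq_one_or (Perm.sign (p m).2) with s | s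
    · exact ⟨(p n).1, by rw [e, h.ev _ s, zpow_add], by simp [w3, s]⟩
    · refine ⟨-(p n).1, by rw [e, h.od _ s, zpow_add, inv_zpow'], ?_⟩
      rw [← conj_zpow, ← inv_zpow']
      congr 1
      simp only [w3, s]
      decide
  refine ⟨MonoidHom.mk' (fun n => c3 ^ (p n).1 * w3 (p n).2) fun m n => ?_,
    MonoidHom.mk' (fun n => (p n).2) fun m n => ?_, key⟩
  · obtain ⟨i, e1, e2⟩ := mul m n
    rw [(key _ _ _ e1).1, zpow_add, e2, w3_mul]
    group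
  · obtain ⟨i, e1, -⟩ := mul m n
    exact (key _ _ _ e1).2

theorem jn (ρ : S5) : j ρ ∈ 𝒩(zpowers b) :=
  (H76.mem_norm_three h.b3).2 ((Int.units_eq_one_or _).imp (h.ev ρ) (h.od ρ))

theorem kcomm {k : X} (hk : k ∈ zpowers b) {ρ : S5} (e : Perm.sign ρ = 1) : Commute k (j ρ) := by
  obtain ⟨i, rfl⟩ := hk
  exact Commute.zpow_left (mul_inv_eq_iff_eq_mul.1 (h.ev ρ e)).symm i

theorem se : s * j e5 * s⁻¹ = b := by
  rw [← h.sb]
  calc _ = s * s * b * (s * s)⁻¹ := by group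
    _ = b := by rw [h.ss]; group

theorem g'b : s * j (swap 0 1 * swap 2 3) * s⁻¹ * b * (s * j (swap 0 1 * swap 2 3) * s⁻¹)⁻¹ = b⁻¹ := by
  have : j (swap 0 1 * swap 2 3) * j e5 * (j (swap 0 1 * swap 2 3))⁻¹ = (j e5)⁻¹ := by
    rw [← map_inv, ← map_inv, ← map_mul, ← map_mul]; congr 1; decide
  rw [← h.se]
  calc _ = s * (j (swap 0 1 * swap 2 3) * j e5 * (j (swap 0 1 * swap 2 3))⁻¹) * s⁻¹ := by group
    _ = _ := by rw [this]; group

theorem g'e : s * j (swap 0 1 * swap 2 3) * s⁻¹ * j e5 * (s * j (swap 0 1 * swap 2 3) * s⁻¹)⁻¹ = j e5 := by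
  rw [← h.sb]
  calc _ = s * (j (swap 0 1 * swap 2 3) * b * (j (swap 0 1 * swap 2 3))⁻¹) * s⁻¹ := by group
    _ = _ := by rw [h.ev _ (by decide)]

theorem g' : ∃ k ∈ zpowers b, s * j (swap 0 1 * swap 2 3) * s⁻¹ = k * j (swap 0 1) := by
  obtain ⟨ρ, k, hk, e⟩ := h.nrm _ ((H76.mem_norm_three h.b3).2 (.inr h.g'b))
  have kb : Commute k b := by obtain ⟨i, rfl⟩ := hk; exact (Commute.refl b).zpow_left i
  have s1 : Perm.sign ρ = -1 := (Int.units_eq_one_or _).resolve_left fun s1 => by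
    have := h.g'b
    rw [e, show k * j ρ * b * (k * j ρ)⁻¹ = k * (j ρ * b * (j ρ)⁻¹) * k⁻¹ by group, h.ev ρ s1, kb.eq,
      mul_inv_cancel_right] at this
    exact H76.ne_inv_of_three h.b3 this
  have s2 : ρ * e5 * ρ⁻¹ = e5 := h.inj (by
    have := h.g'e
    rw [e, show k * j ρ * j e5 * (k * j ρ)⁻¹ = k * (j ρ * j e5 * (j ρ)⁻¹) * k⁻¹ by group, ← map_inv, ← map_mul,
      ← map_mul, (h.kcomm hk (by simp [e5])).eq, mul_inv_cancel_right] at this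
    exact this)
  have s3 : ρ * ρ = 1 := h.disj _ (by
    have e1 : k * j ρ * (k * j ρ) = 1 := by
      rw [← e]
      calc _ = s * (j (swap 0 1 * swap 2 3) * j (swap 0 1 * swap 2 3)) * s⁻¹ := by group
        _ = 1 := by rw [← map_mul, show swap 0 1 * swap 2 3 * (swap 0 1 * swap 2 3 : S5) = 1 by decide]; simp
    have e2 : j (ρ * ρ) = (k * (j ρ * k * (j ρ)⁻¹))⁻¹ := by
      rw [map_mul, eq_inv_iff_mul_eq_one, mul_eq_one_comm, ← e1]; group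
    rw [e2]
    exact inv_mem (mul_mem hk (conj_mem_of_norm le_rfl (h.jn ρ) hk)))
  have : ∀ ρ : S5, Perm.sign ρ = -1 → ρ * e5 * ρ⁻¹ = e5 → ρ * ρ = 1 → ρ = swap 0 1 := by decide +kernel
  exact ⟨k, hk, this ρ s1 s2 s3 ▸ e⟩

theorem be : Commute b (j e5) := h.kcomm (mem_zpowers b) (by decide)

theorem e3 : orderOf (j e5) = 3 := by
  rw [orderOf_injective j h.inj]
  have : Fact (Nat.Prime 3) := ⟨Nat.prime_three⟩
  exact orderOf_eq_prime (by decide) (by decide)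

theorem nD (n : X) (hn : n ∈ 𝒩(zpowers b ⊔ zpowers (j e5))) :
    n * b * n⁻¹ ∈ zpowers b ∨ n * b * n⁻¹ ∈ zpowers (j e5) := by
  have hc : j e5 ∈ 𝒞[b] := mem_cent1.2 h.be.eq.symm
  have nm : ∀ x : X, (x * b * x⁻¹ = b ∨ x * b * x⁻¹ = b⁻¹) → (x * j e5 * x⁻¹ = j e5 ∨ x * j e5 * x⁻¹ = (j e5)⁻¹) →
      x ∈ 𝒩(zpowers b ⊔ zpowers (j e5)) := fun x h1 h2 =>
    norm_sup (A := zpowers x) (zpowers_le.2 ((H76.mem_norm_three h.b3).2 h1))
      (zpowers_le.2 ((H76.mem_norm_three h.e3).2 h2)) (mem_zpowers x)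
  have gb := h.ev (swap 0 1 * swap 2 3) (by decide)
  have ge : j (swap 0 1 * swap 2 3) * j e5 * (j (swap 0 1 * swap 2 3))⁻¹ = (j e5)⁻¹ := by
    rw [← map_inv, ← map_inv, ← map_mul, ← map_mul]; congr 1; decide
  have gn := nm _ (.inl gb) (.inr ge)
  have gn' := nm _ (.inr h.g'b) (.inl h.g'e)
  have key : ∀ m ∈ 𝒩(zpowers b ⊔ zpowers (j e5)), m * b * m⁻¹ ≠ b * j e5 := fun m hm e => by
    have h1 : m * j (swap 1 2) * m⁻¹ ∈ 𝒩(zpowers (b * j e5)) := by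
      rw [← e, ← cj_zpowers, ← cj_normalizer, conj_mem_cj]; exact h.jn _
    have h2 := (mul_mem_cancel_left hm).1 ((mul_mem_cancel_right (inv_mem hm)).1 (h.nY h1))
    obtain ⟨u, hu, v, hv, e⟩ := (H76.mem_sup_three hc).1
      (conj_mem_of_norm le_rfl h2 (mem_sup_right (mem_zpowers _)))
    rw [← map_inv, ← map_mul, ← map_mul, ← one_mul (j _)] at e
    rcases (H76.mem_zpowers_three h.e3).1 hv with rfl | rfl | rfl
    · exact absurd (h.uniq (one_mem _) hu (e.trans (congrArg _ (map_one j).symm))).2 (by decide)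
    · exact absurd (h.uniq (one_mem _) hu e).2 (by decide)
    · rw [← map_inv] at e
      exact absurd (h.uniq (one_mem _) hu e).2 (by decide)
  have cj2 : ∀ x u v : X, n * b * n⁻¹ = u * v → x * n * b * (x * n)⁻¹ = x * u * x⁻¹ * (x * v * x⁻¹) :=
    fun x u v e => by
      calc _ = x * (n * b * n⁻¹) * x⁻¹ := by group
        _ = _ := by rw [e]; group
  have ci : ∀ x u v : X, x * u * x⁻¹ = v → x * u⁻¹ * x⁻¹ = v⁻¹ := fun x u v e => by rw [← e]; group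
  obtain ⟨u, hu, v, hv, e⟩ := (H76.mem_sup_three hc).1 (conj_mem_of_norm le_rfl hn (mem_sup_left (mem_zpowers _)))
  rcases (H76.mem_zpowers_three h.b3).1 hu with rfl | rfl | rfl
  · exact .inr (by rwa [e, one_mul])
  · rcases (H76.mem_zpowers_three h.e3).1 hv with rfl | rfl | rfl
    · exact .inl (by rwa [e, mul_one])
    · exact absurd e (key n hn)
    · exact absurd (by rw [cj2 _ _ _ e, gb, ci _ _ _ ge, inv_inv]) (key _ (mul_mem gn hn))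
  · rcases (H76.mem_zpowers_three h.e3).1 hv with rfl | rfl | rfl
    · exact .inl (by rwa [e, mul_one])
    · exact absurd (by rw [cj2 _ _ _ e, h.g'e, ci _ _ _ h.g'b, inv_inv]) (key _ (mul_mem gn' hn))
    · refine absurd ?_ (key _ (mul_mem (mul_mem gn gn') hn))
      rw [cj2 _ _ _ e]
      have e1 : ∀ x y u : X, x * y * u * (x * y)⁻¹ = x * (y * u * y⁻¹) * x⁻¹ := fun x y u => by group
      rw [e1, e1 _ _ (j e5)⁻¹, ci _ _ _ h.g'b, ci _ _ _ h.g'e, inv_inv, gb, ci _ _ _ ge, inv_inv]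

theorem alt : Nonempty (X ≃* alternatingGroup (Fin 8)) := by
  obtain ⟨α, β, H⟩ := h.exists_ab
  have H' : ∀ n : 𝒩(zpowers b), ∃ i : ℤ, ∃ ρ, (n : X) = b ^ i * j ρ := fun n => by
    obtain ⟨ρ, _, ⟨i, rfl⟩, e⟩ := h.nrm n n.2
    exact ⟨i, ρ, e⟩
  obtain ⟨k, hk, ek⟩ := h.g'
  refine Dw.caseA (z := b) (s := s) (g := j (swap 0 1 * swap 2 3)) (α := α) (β := β)
    ⟨h.b3, h.ss, h.sb ▸ h.be, fun e => ?_, ?_, h.ev _ (by decide), ?_, ?_, h.sb ▸ h.nD, h.sb ▸ h.nY,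
      fun n e1 e2 => ?_, fun σ e => ?_, fun n e => ?_, fun n e => ?_, fun n e => ?_⟩ fun n => ?_
  · rw [h.sb] at e
    exact absurd (h.disj _ e) (by decide)
  · rw [← map_mul, ← map_one j]; congr 1; decide
  · rw [h.sb, ← map_inv, ← map_inv, ← map_mul, ← map_mul]; congr 1; decide
  · rw [ek]
    refine (h.kcomm hk (by decide)).symm.mul_right ?_
    rw [Commute, SemiconjBy, ← map_mul, ← map_mul]; congr 1; decide
  · obtain ⟨i, ρ, e⟩ := H' n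
    obtain ⟨a1, a2⟩ := H n i ρ e
    rw [e2] at a2
    subst a2
    rw [e1, show w3 1 = 1 by decide, mul_one, eq_comm, ← orderOf_dvd_iff_zpow_eq_one, oc3, ← h.b3,
      orderOf_dvd_iff_zpow_eq_one] at a1
    exact Subtype.ext (by rw [e, a1, map_one, mul_one]; rfl)
  · obtain ⟨a1, a2⟩ := H ⟨_, h.jn σ⟩ 0 σ (by simp)
    exact ⟨_, by rw [a1]; simp [w3, e], a2⟩
  · exact (H n 1 1 (by simp [e])).2
  · rw [(H n 0 _ (by rw [e, zpow_zero, one_mul])).2]; decide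
  · obtain ⟨i, rfl⟩ := hk
    rw [(H n i _ (e.trans ek)).2]; decide
  · obtain ⟨i, ρ, e⟩ := H' n
    obtain ⟨a1, a2⟩ := H n i ρ e
    rw [a1, a2, map_mul, map_zpow, sign_w3, show Perm.sign c3 = 1 by decide, one_zpow, one_mul]

end Q5

end Cfsg.Agent.H3L.DB
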