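import Cfsg.Agent.H3L.DB
import Cfsg.Agent.H3L.DCa

/-! Project H3L: the configuration `Am` in `C(c)/⟨c⟩`. -/

set_option autoImplicit false
set_option linter.unusedSectionVars false

namespace Cfsg.Agent.H3L

open Subgroup Equiv Function H49 OR.A9 S3702 MC3

variable {G : Type*} [Group G] [Finite G]

namespace DC

namespace Dt

variable {X : Type*} [Group X] {c z r : G} {Φ : G → S8} {π : G → X} (h : Dt c z r Φ π) {β : S8 →* X}
  (hβ : ∀ σ, ∃ x ∈ EE c z, π x = β σ ∧ Φ x = σ ∧ (σ = swap 0 1 → π r = β σ))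
include h hβ

theorem dec {x : G} (hx : x ∈ EE c z) : π x = β (Φ x) ∨ π x = π z * β (Φ x) := by
  obtain ⟨y, hy, e1, e2, -⟩ := hβ (Φ x)
  rw [← e1]
  exact h.πΦ hx hy e2.symm

theorem βr : π r = β (swap 0 1) := by
  obtain ⟨y, -, -, -, e⟩ := hβ (swap 0 1)
  exact e rfl

theorem βcomm (σ : S8) : π z * β σ = β σ * π z := by
  obtain ⟨y, hy, e1, -⟩ := hβ σ
  rw [← e1, h.zcomm hy]

theorem πzz : π z * π z = 1 := by rw [← h.πE.mul _ h.zm _ h.zm, h.v.zz, h.πE.one]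

theorem β3 {x : G} (hx : x ∈ EE c z) (x3 : x ^ 3 = 1) : π x = β (Φ x) := by
  refine (h.dec hβ hx).elim id fun e => absurd ?_ h.πz
  have := h.πE.pow hx 3
  rw [x3, h.πE.one, e, Commute.mul_pow (h.βcomm hβ _), ← map_pow, ← h.Φh.pow hx, x3, h.Φh.one, map_one,
    mul_one, pow_succ, pow_two, h.πzz hβ, one_mul] at this
  exact this.symm

theorem βconj {y : G} (hy : y ∈ EE c z) : π (y * r * y⁻¹) = β (Φ y * swap 0 1 * (Φ y)⁻¹) := by
  rw [h.πE.conj hy h.rm, h.βr hβ, map_mul, map_mul, map_inv]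
  rcases h.dec hβ hy with e | e <;> rw [e]
  have := h.βcomm hβ (Φ y * swap 0 1 * (Φ y)⁻¹)
  rw [map_mul, map_mul, map_inv] at this
  calc _ = π z * (β (Φ y) * β (swap 0 1) * (β (Φ y))⁻¹) * (π z)⁻¹ := by group
    _ = _ := by rw [this, mul_inv_cancel_right]

theorem βinj : Injective β := (injective_iff_map_eq_one β).2 fun σ e => by
  obtain ⟨y, hy, e1, e2, -⟩ := hβ σ
  rw [← e2, h.ker y hy]
  rcases (h.πk y (EE_le hy)).1 (e1.trans e) with e | e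
  exacts [.inl e, .inr (.inl e)]

theorem βne (σ : S8) : β σ ≠ π z := fun e => by
  obtain ⟨y, hy, e1, e2, -⟩ := hβ σ
  have : Φ y = 1 := by
    rw [h.ker y hy]
    exact .inr (.inr (h.πeq (EE_le hy) (EE_le h.zm) (e1.trans e)))
  rw [← e2, this, map_one] at e
  exact h.πz e.symm

omit hβ in
theorem mem_of {x : G} (hx : x ∈ 𝒞[c]) (e : π x * π z = π z * π x) : x ∈ EE c z := by
  refine h.v.mem_EE.2 ⟨mem_cent1.1 hx, h.πeq (mul_mem (mul_mem hx (EE_le h.zm)) (inv_mem hx)) (EE_le h.zm) ?_⟩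
  rw [h.πh.conj hx (EE_le h.zm), e, mul_inv_cancel_right]

omit hβ in
theorem conj_up (hs : ∀ y, ∃ x ∈ 𝒞[c], π x = y) {u w : G} (hu : u ∈ 𝒞[c]) (hw : w ∈ 𝒞[c])
    (e : IsConj (π u) (π w)) : ∃ x : G, x * c * x⁻¹ = c ∧ (x * u * x⁻¹ = w ∨ x * u * x⁻¹ = w * c) := by
  obtain ⟨y, e⟩ := isConj_iff.1 e
  obtain ⟨x, hx, rfl⟩ := hs y
  refine ⟨x, by rw [mem_cent1.1 hx, mul_inv_cancel_right],
    h.πeq (mul_mem (mul_mem hx hu) (inv_mem hx)) hw ?_⟩
  rw [h.πh.conj hx hu, e]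

end Dt

theorem cent_c9 (σ : S9) (e : σ * c9 = c9 * σ) : σ * z9 * σ⁻¹ = z9 ∨ σ * z9 * σ⁻¹ = z9 * c9 := by
  have e1 : σ 1 = c9 (σ 0) := by
    have := congrArg (· 0) e
    simpa [c9, swap_apply_def] using this
  have e4 : σ 4 = c9 (σ 3) := by
    have := congrArg (· 3) e
    simpa [c9, swap_apply_def] using this
  have d : ∀ i j : Fin 9, i ≠ c9 i → j ≠ c9 j → i ≠ j → c9 i ≠ j →
      swap i j * swap (c9 i) (c9 j) = z9 ∨ swap i j * swap (c9 i) (c9 j) = z9 * c9 := by decide +kernel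
  have : σ * z9 * σ⁻¹ = swap (σ 0) (σ 3) * swap (σ 1) (σ 4) := by
    rw [swap_apply_apply, swap_apply_apply, z9]; group
  rw [this, e1, e4]
  refine d _ _ ?_ ?_ ?_ ?_
  · rw [← e1]; exact σ.injective.ne (by decide)
  · rw [← e4]; exact σ.injective.ne (by decide)
  · exact σ.injective.ne (by decide)
  · rw [← e1]; exact σ.injective.ne (by decide)

theorem two_swaps (p q : Fin 8) (pq : p ≠ q) (h1 : swap 0 1 * swap p q = swap p q * swap 0 1)
    (h2 : swap 0 1 * swap p q ≠ 1) :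
    ∃ ρ : S8, ρ * (swap 0 1 * swap 2 3) * ρ⁻¹ = swap 0 1 * swap p q := by
  have : ∀ p q : Fin 8, p ≠ q → swap 0 1 * swap p q = swap p q * swap 0 1 → swap 0 1 * swap p q ≠ 1 →
      ∃ i j : Fin 8, swap 2 i * swap 3 j * (swap 0 1 * swap 2 3) * (swap 2 i * swap 3 j)⁻¹ =
        swap 0 1 * swap p q := by decide +kernel
  obtain ⟨i, j, e⟩ := this p q pq h1 h2
  exact ⟨_, e⟩

end DC

open DC in
theorem Ch.am {χ : S9 →* G} {a s g : G} (h : Ch χ a s g) {X : Type*} [Group X] [Finite X] (f : 𝒞[χ c9] →* X)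
    (hf : Surjective f) (hk : ∀ x, f x = 1 ↔ (x : G) = 1 ∨ (x : G) = χ c9) :
    ∃ z β g', Am z β g' ∧ ∃ x : 𝒞[χ c9], (x : G) * x = χ c9 ∧ f x = z * β (swap 0 1) := by
  obtain ⟨Φ, Φh, ker, surj, sgn, Φa, Φe, Φr⟩ := h.exists_Phi
  obtain ⟨π, πh, hπ⟩ := exists_PH f
  have hs : ∀ y, ∃ x ∈ 𝒞[χ c9], π x = y := fun y => by
    obtain ⟨x, rfl⟩ := hf y
    exact ⟨x, x.2, hπ x⟩
  have mm : ∀ {σ τ ρ : S9}, σ * τ = ρ → χ σ * χ τ = χ ρ := fun e => by rw [← map_mul, e]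
  have cm : ∀ {σ τ : S9}, σ * τ = τ * σ → χ σ * χ τ = χ τ * χ σ := fun e => by rw [← map_mul, e, map_mul]
  have cj : ∀ {σ τ ρ : S9}, σ * τ * σ⁻¹ = ρ → χ σ * χ τ * (χ σ)⁻¹ = χ ρ := fun e => by
    rw [← e, map_mul, map_mul, map_inv]
  have ne : ∀ {σ τ : S9}, σ ≠ τ → χ σ ≠ χ τ := fun e => h.inj.ne e
  have v : V4 (χ c9) (χ z9) := ⟨by rw [← map_one χ]; exact mm (by decide), by rw [← map_one χ]; exact mm (by decide),
    cm (by decide), by rw [← map_one χ]; exact ne (by decide), by rw [← map_one χ]; exact ne (by decide),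
    ne (by decide)⟩
  have mE : ∀ σ : S9, σ * c9 = c9 * σ → χ σ ∈ EE (χ c9) (χ z9) := fun σ e => by
    refine v.mem_EE.2 ⟨cm e, ?_⟩
    rw [← map_mul χ z9]
    exact (cent_c9 σ e).imp cj cj
  have D : Dt (χ c9) (χ z9) (χ r9) Φ π := ⟨v, Φh, ker, surj, sgn, mE _ (by decide),
    by rw [← map_one χ]; exact mm (by decide), Φr, πh, fun x hx => by rw [← hk ⟨x, hx⟩, ← hπ ⟨x, hx⟩]⟩
  obtain ⟨β, hβ⟩ := D.exists_β
  have ac : ∀ σ, Perm.sign σ = 1 → a * χ σ = χ σ * a := fun σ e => (mul_inv_eq_iff_eq_mul.1 (h.ev σ e)).symm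
  have a3 : a ^ 3 = 1 := by rw [← h.a3, pow_orderOf_eq_one]
  have am : a ∈ EE (χ c9) (χ z9) := v.mem_of_comm (ac _ (by decide)) (ac _ (by decide))
  have πa : π a = β a8 := by rw [D.β3 hβ am a3, Φa]
  have em := mE (p0 (0, 0, 1)) (by decide)
  have πe : π (χ (p0 (0, 0, 1))) = β e8 := by
    rw [D.β3 hβ em (by rw [← map_pow, ← map_one χ]; congr 1; decide), Φe]
  have gm : g ∈ 𝒞[χ c9] := mem_cent1.2 h.gc
  have zm := EE_le D.zm
  have rm := EE_le D.rm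
  -- the element `(2 5)(6 7)`
  have σm := mE (swap 2 5 * swap 6 7) (by decide)
  obtain ⟨ρ, hρ⟩ : ∃ ρ : S8, β ρ * β (swap 0 1 * swap 2 3) * (β ρ)⁻¹ = π (χ (swap 2 5 * swap 6 7)) := by
    have ym := mE (swap 2 6 * swap 5 7) (by decide)
    have e1 := cj (show swap 2 6 * swap 5 7 * r9 * (swap 2 6 * swap 5 7)⁻¹ = swap 0 1 * swap 6 7 by decide)
    have e2 := D.βconj hβ ym
    have e3 := Φh.conj ym D.rm
    have r'm := mE (swap 0 1 * swap 6 7) (by decide)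
    have e4 := mm (show r9 * (swap 0 1 * swap 6 7) = swap 2 5 * swap 6 7 by decide)
    have e5 := mm (show (swap 0 1 * swap 6 7) * r9 = swap 2 5 * swap 6 7 by decide)
    rw [e1] at e2 e3
    rw [Φr] at e3
    rw [← swap_apply_apply] at e2 e3
    obtain ⟨ρ, hρ⟩ := two_swaps _ _ ((Φ (χ (swap 2 6 * swap 5 7))).injective.ne (show (0 : Fin 8) ≠ 1 by decide))
      (by rw [← e3, ← Φr, ← Φh.mul _ D.rm _ r'm, ← Φh.mul _ r'm _ D.rm, e4, e5]) (by
        rw [← e3, ← Φr, ← Φh.mul _ D.rm _ r'm, e4, Ne, ker _ σm, InF, ← map_one χ, ← map_mul χ z9]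
        rintro (e | e | e | e) <;> exact absurd (h.inj e) (by decide))
    exact ⟨ρ, by rw [← map_inv, ← map_mul, ← map_mul, hρ, map_mul, ← e2, ← D.βr hβ,
      ← D.πE.mul _ D.rm _ r'm, e4]⟩
  have czc : IsConj (χ c9) (χ z9) := isConj_iff.2 ⟨_, cj (σ := swap 1 3) (by decide)⟩
  have czc' : IsConj (χ c9) (χ z9 * χ c9) := by
    rw [← map_mul]; exact isConj_iff.2 ⟨_, cj (σ := swap 1 4) (by decide)⟩
  have t1 : IsConj (χ (swap 2 5 * swap 6 7) * χ c9) (χ (z9 * swap 2 5 * swap 6 7)) := by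
    rw [← map_mul]; exact isConj_iff.2 ⟨_, cj (σ := swap 1 3) (by decide)⟩
  have t2 : χ z9 * χ (swap 2 5 * swap 6 7) = χ (z9 * swap 2 5 * swap 6 7) := mm (by decide)
  have t3 : IsConj (χ z9 * χ (swap 2 5 * swap 6 7) * χ c9) (χ (z9 * swap 2 5 * swap 6 7)) := by
    rw [← map_mul, ← map_mul]; exact isConj_iff.2 ⟨_, cj (σ := swap 0 1) (by decide)⟩
  have zr : χ z9 * χ r9 * (χ z9 * χ r9) = χ c9 := D.sq D.rm D.rr (by rw [Φr]; decide)
  have πzr : π (χ z9 * χ r9) = π (χ z9) * β (swap 0 1) := by rw [πh.mul _ zm _ rm, D.βr hβ]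
  refine ⟨π (χ z9), β, π g, ⟨D.πzz hβ, D.βcomm hβ, D.βinj hβ, D.βne hβ, fun y e => ?_, fun y e => ?_, ?_, ?_,
    ⟨e8 * a8, ?_, fun e => absurd e.card_support (by decide)⟩, fun e => ?_, fun e => ?_, fun e => ?_⟩,
    ⟨_, mul_mem zm rm⟩, zr, (hπ _).symm.trans πzr⟩
  · obtain ⟨x, hx, rfl⟩ := hs y
    exact ⟨_, D.dec hβ (D.mem_of hx e)⟩
  · obtain ⟨x, hx, rfl⟩ := hs y
    have e1 : π (x * a * x⁻¹) = π a := by rw [πh.conj hx (EE_le am), πa, e, mul_inv_cancel_right]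
    rcases D.πeq (mul_mem (mul_mem hx (EE_le am)) (inv_mem hx)) (EE_le am) e1 with e | e
    · obtain ⟨σ, sσ, k, hk, rfl⟩ := h.cent (mul_inv_eq_iff_eq_mul.1 e)
      have km : k ∈ EE (χ c9) (χ z9) := zpowers_le.2 am hk
      have : χ σ ∈ 𝒞[χ c9] := (mul_mem_cancel_left (EE_le km)).1 hx
      have hσ := mE σ (h.inj (by rw [map_mul, map_mul]; exact mem_cent1.1 this))
      exact (D.zcomm (mul_mem km hσ)).symm
    · refine absurd ?_ v.c1
      have := congrArg (· ^ 3) e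
      simp only [conj_pow, a3, Commute.mul_pow (ac c9 (by decide))] at this
      rw [pow_succ (χ c9), pow_two, v.cc] at this
      simpa using this.symm
  · rw [← πh.conj gm zm, ← D.βr hβ]
    rcases h.gz with e | e <;> rw [e]
    exact D.πmc rm
  · rw [← D.βr hβ, ← πh.conj gm rm]
    rcases h.gr with e | e <;> rw [e]
    exact D.πmc zm
  · rw [← πa, ← πh.conj gm (EE_le am), h.ga, D.πE.mul _ em _ am, πe, πa, map_mul]
  · obtain ⟨x, xc, e⟩ := D.conj_up hs zm (EE_le σm) (e.trans (isConj_iff.2 ⟨_, hρ⟩))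
    refine h.nAB (IsConj.trans ?_ t1)
    rcases e with e | e
    · exact czc'.trans (isConj_iff.2 ⟨x, by rw [← e]; nth_rw 2 [← xc]; group⟩)
    · exact czc.trans (isConj_iff.2 ⟨x, e⟩)
  · rw [← πzr] at e
    obtain ⟨x, xc, e⟩ := D.conj_up hs zm (mul_mem zm rm) e
    have q : x * χ z9 * x⁻¹ * (x * χ z9 * x⁻¹) = 1 := by
      calc _ = x * (χ z9 * χ z9) * x⁻¹ := by group
        _ = 1 := by rw [v.zz]; group
    rcases e with e | e <;> rw [e] at q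
    · exact v.c1 (zr.symm.trans q)
    · have cy := (mem_cent1.1 (mul_mem zm rm)).symm
      refine v.c1 ?_
      calc χ c9 = χ z9 * χ r9 * (χ z9 * χ r9) * (χ c9 * χ c9) := by rw [zr, v.cc, mul_one]
        _ = χ z9 * χ r9 * (χ z9 * χ r9 * χ c9) * χ c9 := by group
        _ = χ z9 * χ r9 * (χ c9 * (χ z9 * χ r9)) * χ c9 := by rw [cy]
        _ = χ z9 * χ r9 * χ c9 * (χ z9 * χ r9 * χ c9) := by group
        _ = 1 := q
  · have e' : IsConj (π (χ z9)) (π (χ z9 * χ (swap 2 5 * swap 6 7))) := by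
      refine e.trans (isConj_iff.2 ⟨β ρ, ?_⟩)
      rw [πh.mul _ zm _ (EE_le σm), ← hρ, ← mul_assoc, ← D.βcomm hβ]
      group
    obtain ⟨x, xc, e⟩ := D.conj_up hs zm (mul_mem zm (EE_le σm)) e'
    rcases e with e | e
    · exact h.nAB (czc.trans (isConj_iff.2 ⟨x, e.trans t2⟩))
    · exact h.nAB ((czc.trans (isConj_iff.2 ⟨x, e⟩)).trans t3)

end Cfsg.Agent.H3L
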