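import Cfsg.Agent.OR.A9h
import Cfsg.Agent.MC3.PH
import Cfsg.Agent.HN.Base

/-! Project H3L (3-local recognition of the Harada–Norton group): the configurations. See `notes/H3L.md`. -/

set_option autoImplicit false

namespace Cfsg.Agent.H3L

open Subgroup Equiv Function H49 OR.A9 S3702

/-- `S₉` -/
abbrev S9 := Perm (Fin 9)
/-- `S₈` -/
abbrev S8 := Perm (Fin 8)

variable {G : Type*} [Group G]

/-- The structure of `N(J)`, `J = 3⁴ = ψ(3³) × ⟨a⟩`, seen from a non-singular vector `a`. -/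
structure Loc (ψ : M →* G) (J : Subgroup G) (a u c s g : G) : Prop where
  inj : Injective ψ
  a3 : orderOf a = 3
  comm : ∀ m, a * ψ m = ψ m * a
  disj : ∀ m, ψ m ∈ zpowers a → m = 1
  memJ : ∀ x, x ∈ J ↔ ∃ v, ∃ k ∈ zpowers a, x = ψ (tv v) * k
  nrm : ∀ n ∈ 𝒩(J), n * a = a * n → ∃ m, ∃ k ∈ zpowers a, n = ψ m * k
  core : ∀ R : Subgroup G, J ≤ 𝒩(R) → (Nat.card R).Coprime 3 → R = ⊥
  nle : ¬ 𝒞[a] ≤ 𝒩(J)
  fus : ¬ IsConj a (ψ (tv (1, 1, 0)) * a)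
  uu : u * u = 1
  ua : u * a * u⁻¹ = a⁻¹
  uv : ∀ v, u * ψ (tv v) * u⁻¹ = (ψ (tv v))⁻¹
  cc : c * c = 1
  ca : c * a = a * c
  cv : ∀ v, c * ψ (tv v) * c⁻¹ = ψ (tv (-v.1, -v.2.1, v.2.2))
  ss : s * s = 1
  sc : s * c = c * s
  sa : s * a * s⁻¹ = ψ (tv (0, 0, 1))
  s1 : s * ψ (tv (1, 0, 0)) * s⁻¹ = ψ (tv (1, 0, 0))
  gc : g * c = c * g
  ga : g * a * g⁻¹ = ψ (tv (0, 0, 1)) * a
  g3 : g * ψ (tv (0, 0, 1)) * g⁻¹ = ψ (tv (0, 0, 1)) * a⁻¹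
  g1 : g * ψ (tv (1, 0, 0)) * g⁻¹ = ψ (tv (1, 1, 0))

/-- the involution whose centraliser is `2.HS.2` -/
def c9 : S9 := swap 0 1 * swap 3 4
/-- `⟨c9, z9⟩` is the four-group on `{0, 1, 3, 4}` -/
def z9 : S9 := swap 0 3 * swap 1 4
/-- `⟨c9, r9⟩` is the other four-group of `C_{A₆}(c9)` -/
def r9 : S9 := swap 0 1 * swap 2 5

/-- `N(⟨a⟩) = ⟨a⟩ ⋊ χ(S₉)` (in `A₁₂`: `a = (9 10 11)`, `χ σ = σ (9 10)^{sgn σ}`) with two further elements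
normalising `D = ⟨χ (6 7 8), a⟩` and centralising `c = χ c9`. -/
structure Ch (χ : S9 →* G) (a s g : G) : Prop where
  inj : Injective χ
  a3 : orderOf a = 3
  ev : ∀ σ, Perm.sign σ = 1 → χ σ * a * (χ σ)⁻¹ = a
  od : ∀ σ, Perm.sign σ = -1 → χ σ * a * (χ σ)⁻¹ = a⁻¹
  disj : ∀ σ, χ σ ∈ zpowers a → σ = 1
  nrm : ∀ n ∈ 𝒩(zpowers a), ∃ σ, ∃ k ∈ zpowers a, n = k * χ σ
  fus : ¬ IsConj a (χ (p0 (1, 1, 0)) * a)
  ss : s * s = 1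
  sc : s * χ c9 = χ c9 * s
  sa : s * a * s⁻¹ = χ (p0 (0, 0, 1))
  s1 : s * χ (p0 (1, 0, 0)) * s⁻¹ = χ (p0 (1, 0, 0))
  gc : g * χ c9 = χ c9 * g
  ga : g * a * g⁻¹ = χ (p0 (0, 0, 1)) * a
  g3 : g * χ (p0 (0, 0, 1)) * g⁻¹ = χ (p0 (0, 0, 1)) * a⁻¹
  g1 : g * χ (p0 (1, 0, 0)) * g⁻¹ = χ (p0 (1, 1, 0))

/-- `x ∈ ⟨c, z⟩` -/
def InF (c z x : G) : Prop := x = 1 ∨ x = c ∨ x = z ∨ x = z * c

/-- the elements centralising `c` and normalising `⟨c, z⟩` -/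
def EE (c z : G) : Subgroup G := 𝒞[c] ⊓ 𝒩(closure {c, z})

/-- the three-cycle `(5 6 7)` -/
def a8 : S8 := swap 5 6 * swap 6 7
/-- the three-cycle `(2 3 4)` -/
def e8 : S8 := swap 2 3 * swap 3 4

/-- The configuration in `X = C(c)/⟨c⟩`: `C(z) = ⟨z⟩ × β(S₈)`, and `g` interchanges `z` and `β (0 1)`. -/
structure Am (z : G) (β : S8 →* G) (g : G) : Prop where
  zz : z * z = 1
  comm : ∀ σ, z * β σ = β σ * z
  inj : Injective β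
  nmem : ∀ σ, β σ ≠ z
  cz : ∀ x, x * z = z * x → ∃ σ, x = β σ ∨ x = z * β σ
  ca : ∀ x, x * β a8 = β a8 * x → x * z = z * x
  gz : g * z * g⁻¹ = β (swap 0 1)
  gr : g * β (swap 0 1) * g⁻¹ = z
  ga : ∃ σ, g * β a8 * g⁻¹ = β σ ∧ ¬ σ.IsThreeCycle
  n1 : ¬ IsConj z (β (swap 0 1 * swap 2 3))
  n2 : ¬ IsConj z (z * β (swap 0 1))
  n3 : ¬ IsConj z (z * β (swap 0 1 * swap 2 3))

/-- The relations between the normalised element `g` and `⟨z⟩ × β(S₈)`. -/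
structure Rel (z : G) (β : S8 →* G) (g : G) : Prop where
  gg : g * g = 1
  gz : g * z * g = β (swap 0 1)
  g2 : g * β (swap 2 3) * g = z * β (swap 0 1 * swap 2 3 * swap 4 5 * swap 6 7)
  g3 : g * β (swap 3 4) * g = z * β (swap 0 1 * swap 2 6 * swap 3 5 * swap 4 7)
  g4 : g * β (swap 4 5) * g = z * β (swap 0 1 * swap 2 3 * swap 4 6 * swap 5 7)
  g5 : g * β (swap 5 6) * g = z * β (swap 0 1 * swap 2 4 * swap 3 5 * swap 6 7)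
  g6 : g * β (swap 6 7) * g = z * β (swap 0 1 * swap 2 3 * swap 4 7 * swap 5 6)
  four : (β (swap 0 2 * swap 1 3) * z * g) ^ 4 = 1

/-- The image of the model `D0 = 2.HS.2` in `X`. -/
structure Em (φ : H17.HnU.D0 →* G) (z : G) (β : S8 →* G) (g : G) : Prop where
  ker : ∀ d, φ d = 1 ↔ d = 1 ∨ d = HN.c0
  rz : ∃ d, d ∉ HN.K0 ∧ φ d = z
  rβ : ∀ σ, ∃ d, φ d = β σ
  rg : ∃ d, φ d = g
  zr : ∃ d ∈ HN.K0, φ d = z * β (swap 0 1)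
  cls : ∀ d, φ d * φ d = 1 → φ d = 1 ∨ ∃ k, ∃ r ∈ [z, β (swap 0 1 * swap 2 3), z * β (swap 0 1),
    z * β (swap 0 1 * swap 2 3)], φ d = φ k * r * (φ k)⁻¹

end Cfsg.Agent.H3L
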