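import Cfsg.Agent.H3L.E1b

set_option autoImplicit false
set_option maxRecDepth 100000
set_option synthInstance.maxSize 2048

namespace Cfsg.Agent.H3L

open Subgroup Equiv Function H58 H17

/-- the letters in `2 × S₈` -/
def m1 (x : ℕ) : ℤˣ × S8 := if x = 8 then (-1, 1) else (1, sw x)

/-- their conjugates by `g` -/
def m2 (ε δ : ℤˣ) (x : ℕ) : ℤˣ × S8 :=
  if x = 8 then (1, swap 0 1) else if x = 1 then (-1, 1) else (ε, mu (δ, U6 x))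

/-- the letters of `C(z) ∩ C(β (0 1))` -/
def LB : List ℕ := [1, 3, 4, 5, 6, 7, 8]

section
variable {G : Type*} [Group G] {z g : G} {β : S8 →* G} {ε δ : ℤˣ}

/-- `g` induces the standard outer automorphism -/
def Am.Nm (h : Am z β g) (ε δ : ℤˣ) : Prop :=
  ∀ x ∈ [3, 4, 5, 6, 7], g * β (sw x) * g⁻¹ = h.ps (ε, mu (δ, U6 x))

theorem Am.word {h : Am z β g} (n : h.Nm ε δ) (w : List ℕ) (hw : ∀ x ∈ w, x ∈ LB := by decide) :
    g * h.ps (wv m1 w) * g⁻¹ = h.ps (wv (m2 ε δ) w) := by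
  have k : ∀ x ∈ LB, g * h.ps (m1 x) * g⁻¹ = h.ps (m2 ε δ x) := fun x hx => by
    rcases (by decide : ∀ x ∈ LB, x = 8 ∨ x = 1 ∨ (x ≠ 8 ∧ x ≠ 1 ∧ x ∈ [3, 4, 5, 6, 7])) x hx with
      rfl | rfl | ⟨a, b, c⟩
    · exact (congrArg (g * · * g⁻¹) h.ps_z).trans (h.gz.trans (h.ps_one _).symm)
    · exact (congrArg (g * · * g⁻¹) (h.ps_one _)).trans (h.gr.trans h.ps_z.symm)
    · rw [m1, m2, if_neg a, if_neg a, if_neg b, h.ps_one, n x c]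
  refine (wv_map ((MulAut.conj g).toMonoidHom.comp h.ps) m1 w).trans ?_
  rw [wv_map, wv, wv]
  exact congrArg List.prod (List.map_congr_left fun x hx => k x (hw x hx))

theorem Am.cw {h : Am z β g} (n : h.Nm ε δ) (w : List ℕ) (hw : ∀ x ∈ w, x ∈ LB := by decide) :
    IsConj (h.ps (wv m1 w)) (h.ps (wv (m2 ε δ) w)) := isConj_iff.2 ⟨g, Am.word n w hw⟩

theorem Am.cm (h : Am z β g) (π : S8) (x y : ℤˣ × S8) (e : (1, π) * x * (1, π)⁻¹ = y := by decide +kernel) :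
    IsConj (h.ps x) (h.ps y) := h.ps.map_isConj (isConj_iff.2 ⟨_, e⟩)

theorem Am.sq {h : Am z β g} (n : h.Nm ε δ) (w w' : List ℕ) (e : wv (m2 ε δ) w = wv m1 w')
    (hw : ∀ x ∈ w, x ∈ LB := by decide) (hw' : ∀ x ∈ w', x ∈ LB := by decide) :
    g * g * h.ps (wv m1 w) * (g * g)⁻¹ = h.ps (wv (m2 ε δ) w') := by
  rw [← Am.word n w' hw', ← e, ← Am.word n w hw]; group

theorem Am.cent32 (h : Am z β g) {x : G} (c : ∀ i ∈ [8, 1, 3, 5, 7], x * h.ps (m1 i) = h.ps (m1 i) * x) :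
    ∃ w ∈ [8, 1, 3, 5, 7].sublists, x = h.ps (wv m1 w) := by
  obtain ⟨⟨ε, τ⟩, rfl⟩ := h.ps_mem (x := x) (h.ps_z ▸ c 8 (by decide))
  have c1 : ∀ i ∈ [8, 1, 3, 5, 7], τ * (m1 i).2 = (m1 i).2 * τ := fun i hi =>
    congrArg Prod.snd (h.ps_inj (((map_mul h.ps _ _).trans (c i hi)).trans (map_mul h.ps _ _).symm))
  obtain ⟨⟨δ, ρ⟩, rfl⟩ := exists_mu (c1 1 (by decide))
  have c2 : ∀ i ∈ [3, 5, 7], ρ * s6 i = s6 i * ρ := fun i hi => by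
    obtain ⟨a, b⟩ := (by decide +kernel : ∀ i ∈ [3, 5, 7], i ∈ [8, 1, 3, 5, 7] ∧ (m1 i).2 = mu (1, s6 i)) i hi
    have := c1 i a
    rw [b, ← map_mul, ← map_mul] at this
    exact congrArg Prod.snd (mu_inj this)
  obtain ⟨w, hw, rfl⟩ := (by decide +kernel : ∀ ρ : S6, (∀ i ∈ [3, 5, 7], ρ * s6 i = s6 i * ρ) →
    ∃ w ∈ [3, 5, 7].sublists, ρ = wv s6 w) ρ c2
  obtain ⟨a, b⟩ := (by decide +kernel : ∀ ε δ : ℤˣ, ∀ w ∈ [3, 5, 7].sublists,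
    (if ε = 1 then [] else [8]) ++ ((if δ = 1 then [] else [1]) ++ w) ∈ [8, 1, 3, 5, 7].sublists ∧
    (ε, mu (δ, wv s6 w)) = wv m1 ((if ε = 1 then [] else [8]) ++ ((if δ = 1 then [] else [1]) ++ w))) ε δ w hw
  exact ⟨_, a, congrArg h.ps b⟩

theorem Am.signs {h : Am z β g} (n : h.Nm ε δ) : ε = -1 ∧ δ = -1 := by
  have k : ∀ w, (wv (m2 ε δ) [3] = wv m1 w ∧ (∀ x ∈ w, x ∈ LB) ∧ (wv (m2 ε δ) w).1 ≠ 1) → False := by
    rintro w ⟨a, b, c⟩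
    obtain ⟨y, e⟩ := h.ps_mem (x := g * g) (mul_inv_eq_iff_eq_mul.1 (by
      calc _ = g * (g * z * g⁻¹) * g⁻¹ := by group
        _ = z := by rw [h.gz, h.gr]))
    have := Am.sq n [3] w a (by decide) b
    rw [← e, ← map_inv, ← map_mul, ← map_mul] at this
    refine c ((congrArg Prod.fst (h.ps_inj this)).symm.trans ?_)
    simp [wv, m1]
  rcases Int.units_eq_one_or ε with rfl | rfl <;> rcases Int.units_eq_one_or δ with rfl | rfl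
  · refine absurd ?_ h.n3
    rw [← h.ps_neg]
    nth_rewrite 1 [← h.ps_z]
    exact (h.cm 1 _ _).trans <| (Am.cw n [8]).trans <| (h.cm (swap 0 2 * swap 1 3) _ _).trans <|
      (Am.cw n [3]).trans <| (h.cm (swap 0 2 * swap 1 3 * swap 4 6) _ _).trans <|
      (Am.cw n [8, 3, 5]).symm.trans (h.cm (swap 0 4 * swap 1 5) _ _)
  · exact (k [1, 3, 5, 7] (by decide +kernel)).elim
  · exact (k [8, 3, 5, 7] (by decide +kernel)).elim
  · exact ⟨rfl, rfl⟩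

theorem Am.invol (h : Am z β g) : ∃ g', ∃ h' : Am z β g', g' * g' = 1 ∧ h'.Nm (-1) (-1) := by
  obtain ⟨g, ε, δ, h', n⟩ := h.norm
  replace n : h'.Nm ε δ := n
  obtain ⟨rfl, rfl⟩ := Am.signs n
  have k : ∀ i ∈ LB, g * g * h'.ps (m1 i) = h'.ps (m1 i) * (g * g) := fun i hi => by
    obtain ⟨w, -, a, b, c⟩ := (by decide +kernel : ∀ i ∈ LB, ∃ w ∈ [[8], [1], 8 :: 1 :: WU i],
      wv (m2 (-1) (-1)) [i] = wv m1 w ∧ (∀ x ∈ w, x ∈ LB) ∧ wv (m2 (-1) (-1)) w = m1 i) i hi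
    have := Am.sq n [i] w a (by simpa using hi) b
    rw [c, show wv m1 [i] = m1 i from mul_one _] at this
    exact mul_inv_eq_iff_eq_mul.1 this
  obtain ⟨w, hw, e⟩ := h'.cent32 fun i hi => k i ((by decide : ∀ i ∈ [8, 1, 3, 5, 7], i ∈ LB) i hi)
  have k1 : ∀ i ∈ LB, wv m1 w * m1 i = m1 i * wv m1 w := fun i hi =>
    h'.ps_inj (by rw [map_mul, map_mul, ← e, k i hi])
  obtain ⟨a, b⟩ := (by decide +kernel : ∀ w ∈ [8, 1, 3, 5, 7].sublists, (∀ x ∈ w, x ∈ LB) ∧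
    (wv (m2 (-1) (-1)) w = wv m1 w → wv m1 w * m1 4 = m1 4 * wv m1 w → wv m1 w * m1 6 = m1 6 * wv m1 w →
      wv m1 w = 1 ∨ wv m1 w = (-1, swap 0 1))) w hw
  rcases b (h'.ps_inj (by rw [← Am.word n w a, ← e]; group)) (k1 4 (by decide)) (k1 6 (by decide)) with c | c
  · exact ⟨g, h', by rw [e, c, map_one], n⟩
  · refine ⟨g * z, h'.right, ?_, fun x hx => ?_⟩
    · calc _ = g * z * g⁻¹ * (g * g) * z := by group
        _ = 1 := by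
          rw [h'.gz, e, c, h'.ps_neg, h'.comm, ← mul_assoc, ← map_mul, swap_mul_self, map_one, one_mul, h'.zz]
    · rw [← h'.ps_one, h'.conj_right, h'.ps_one]
      exact n x hx

theorem Am.four {h : Am z β g} (n : h.Nm (-1) (-1)) (gg : g * g = 1) :
    (β (swap 0 2 * swap 1 3) * z * g) ^ 4 = 1 := by
  let κ : ℤˣ × S8 := (-1, swap 0 2 * swap 1 3)
  rw [← h.comm, ← h.ps_neg]
  change (h.ps κ * g) ^ 4 = 1
  have vv : h.ps κ * h.ps κ = 1 := by rw [← map_mul, (by decide +kernel : κ * κ = 1), map_one]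
  have st : ∀ w w', (κ * wv (m2 (-1) (-1)) w * κ⁻¹ = wv m1 w' ∧ ∀ x ∈ w, x ∈ LB) →
      h.ps κ * g * h.ps (wv m1 w) = h.ps (wv m1 w') * (h.ps κ * g) := by
    rintro w w' ⟨a, b⟩
    rw [← a, map_mul, map_mul, map_inv, ← Am.word n w b]; group
  have fo : ∀ w1 w2 w3 w4, ((κ * wv (m2 (-1) (-1)) w1 * κ⁻¹ = wv m1 w2 ∧ ∀ x ∈ w1, x ∈ LB) ∧
      (κ * wv (m2 (-1) (-1)) w2 * κ⁻¹ = wv m1 w3 ∧ ∀ x ∈ w2, x ∈ LB) ∧
      (κ * wv (m2 (-1) (-1)) w3 * κ⁻¹ = wv m1 w4 ∧ ∀ x ∈ w3, x ∈ LB) ∧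
      (κ * wv (m2 (-1) (-1)) w4 * κ⁻¹ = wv m1 w1 ∧ ∀ x ∈ w4, x ∈ LB)) →
      (h.ps κ * g) ^ 4 * h.ps (wv m1 w1) = h.ps (wv m1 w1) * (h.ps κ * g) ^ 4 := by
    rintro w1 w2 w3 w4 ⟨a, b, c, d⟩
    have a := st _ _ a
    have b := st _ _ b
    have c := st _ _ c
    have d := st _ _ d
    generalize h.ps κ * g = u at *
    calc _ = u * (u * (u * (u * h.ps (wv m1 w1)))) := by simp only [pow_succ, pow_zero, one_mul, mul_assoc]
      _ = _ := by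
        rw [a, ← mul_assoc u _ u, b, mul_assoc, ← mul_assoc u _ (u * u), c, mul_assoc, ← mul_assoc u, d]
        simp only [pow_succ, pow_zero, one_mul, mul_assoc]
  have o : ∀ i, m1 i = wv m1 [i] := fun i => (mul_one _).symm
  obtain ⟨w, hw, e⟩ := h.cent32 (x := (h.ps κ * g) ^ 4)
    (forall_cons (o 8 ▸ fo [8] [3] [1, 3, 5, 7, 8] [1] (by decide +kernel))
    (forall_cons (o 1 ▸ fo [1] [8] [3] [1, 3, 5, 7, 8] (by decide +kernel))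
    (forall_cons (o 3 ▸ fo [3] [1, 3, 5, 7, 8] [1] [8] (by decide +kernel))
    (forall_cons (o 5 ▸ fo [5] [1, 3, 6, 5, 7, 6, 8] [5] [1, 3, 6, 5, 7, 6, 8] (by decide +kernel))
    (forall_cons (o 7 ▸ fo [7] [1, 3, 5, 6, 5, 7, 6, 5, 8] [7] [1, 3, 5, 6, 5, 7, 6, 5, 8] (by decide +kernel))
      (forall_nil _))))))
  have c6 := fo [6, 5, 7, 6] [1, 7] [1, 3, 5, 6, 5, 7, 6, 5] [3, 7] (by decide +kernel)
  obtain ⟨a, b, c⟩ := (by decide +kernel : ∀ w ∈ [8, 1, 3, 5, 7].sublists, (∀ x ∈ w, x ∈ LB) ∧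
    wv m1 w * wv m1 w = 1 ∧ (wv (m2 (-1) (-1)) w = wv m1 w → κ * wv m1 w = wv m1 w * κ →
      wv m1 w * wv m1 [6, 5, 7, 6] = wv m1 [6, 5, 7, 6] * wv m1 w → wv m1 w = 1 ∨ wv m1 w = wv m1 [5, 7])) w hw
  have gi : g⁻¹ = g := inv_eq_of_mul_eq_one_right gg
  have vi : (h.ps κ)⁻¹ = h.ps κ := inv_eq_of_mul_eq_one_right vv
  have e1 : g * (h.ps κ * g) ^ 4 * g⁻¹ = (h.ps κ * g) ^ 4 := by
    have e2 : ((h.ps κ * g) ^ 4)⁻¹ = (h.ps κ * g) ^ 4 :=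
      inv_eq_of_mul_eq_one_right (by rw [e, ← map_mul, b, map_one])
    rw [← conj_pow, ← e2, ← inv_pow, mul_inv_rev, vi, mul_assoc, mul_inv_cancel_right, gi]
  have e3 : Commute (h.ps κ) ((h.ps κ * g) ^ 4) := by
    have c1 : Commute (h.ps κ * g) ((h.ps κ * g) ^ 4) := (Commute.refl _).pow_right 4
    have c2 : Commute g ((h.ps κ * g) ^ 4) := mul_inv_eq_iff_eq_mul.1 e1
    simpa using c1.mul_left c2.inv_left
  rcases c (h.ps_inj (by rw [← Am.word n w a, ← e, e1])) (h.ps_inj (by rw [map_mul, map_mul, ← e, e3.eq]))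
    (h.ps_inj (by rw [map_mul, map_mul, ← e, c6])) with d | d
  · rw [e, d, map_one]
  refine absurd ?_ h.n3
  have e5 : IsConj (h.ps κ) (h.ps (wv m1 [5, 7] * κ)) := by
    refine isConj_iff.2 ⟨h.ps κ * g * h.ps κ * g, ?_⟩
    rw [map_mul, ← d, ← e]
    simp only [mul_inv_rev, gi, vi, pow_succ, pow_zero, one_mul, mul_assoc]
  rw [← h.ps_neg]
  nth_rewrite 1 [← h.ps_z]
  exact (h.cm 1 _ _).trans <| (Am.cw n [8]).trans <| (h.cm (swap 0 2 * swap 1 3) _ _).trans <|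
    (Am.cw n [3]).trans <| (h.cm (swap 0 3) _ _).trans <| e5.symm.trans (h.cm (swap 0 3) _ _)

end

variable {G : Type*} [Group G] [Finite G]

theorem Am.rel {z g : G} {β : S8 →* G} (h : Am z β g) : ∃ g', Am z β g' ∧ Rel z β g' := by
  obtain ⟨g, h', gg, n⟩ := h.invol
  have gi : g⁻¹ = g := inv_eq_of_mul_eq_one_right gg
  have k : ∀ x t, (x ∈ [3, 4, 5, 6, 7] ∧ mu (-1, U6 x) = t) → g * β (sw x) * g = z * β t := by
    rintro x _ ⟨a, rfl⟩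
    have := n x a
    rwa [gi] at this
  exact ⟨g, h', gg, by simpa only [gi] using h'.gz, k 3 _ (by decide +kernel), k 4 _ (by decide +kernel), k 5 _ (by decide +kernel),
    k 6 _ (by decide +kernel), k 7 _ (by decide +kernel), Am.four n gg⟩

end Cfsg.Agent.H3L
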