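import Cfsg.Agent.H3L.E2a
import Cfsg.Agent.H99.SymAut

/-! The outer automorphism of `S₆` through Coxeter generators. -/

set_option autoImplicit false
set_option maxRecDepth 100000

namespace Cfsg.Agent.H3L

open Subgroup Equiv Function H58 H17 MulAction

/-- `S₆` -/
abbrev S6 := Perm (Fin 6)

/-- the adjacent transpositions -/
def s6 (x : ℕ) : S6 := [1, 1, 1, swap 0 1, swap 1 2, swap 2 3, swap 3 4, swap 4 5].getD x 1

/-- the images of the adjacent transpositions under an outer automorphism -/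
def U6 (x : ℕ) : S6 := [1, 1, 1, swap 0 1 * swap 2 3 * swap 4 5, swap 0 4 * swap 1 3 * swap 2 5,
  swap 0 1 * swap 2 4 * swap 3 5, swap 0 2 * swap 1 3 * swap 4 5, swap 0 1 * swap 2 5 * swap 3 4].getD x 1

/-- the words of these images -/
def WU (x : ℕ) : List ℕ := [[], [], [], [3, 5, 7], [3, 5, 4, 3, 6, 5, 4, 3, 7, 6, 5], [3, 6, 5, 7, 6],
  [4, 3, 5, 4, 7], [3, 5, 6, 5, 7, 6, 5]].getD x []

theorem inner_of_swap (ψ : S6 ≃* S6) (hψ : ∀ t : S6, t.IsSwap → (ψ t).IsSwap) :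
    ∃ π : S6, ∀ σ, ψ σ = π * σ * π⁻¹ := by
  choose f hf using H99.map_stabilizer_of_isSwap ψ hψ (by simp) rfl
  have h1 : ∀ p σ, ψ σ (f p) = f p ↔ σ p = p := fun p σ => by
    have := mem_map_iff_mem (f := ψ.toMonoidHom) ψ.injective (K := stabilizer S6 p) (x := σ)
    rwa [hf p] at this
  have st : ∀ x y : Fin 6, (∀ σ : S6, σ x = x ↔ σ y = y) → x = y := fun x y h => by
    by_contra c
    obtain ⟨w, a, b⟩ := (by decide : ∀ x y : Fin 6, x ≠ y → ∃ w, swap y w x = x ∧ swap y w y ≠ y) x y c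
    exact b ((h _).1 a)
  have hi : Injective f := fun p q e => st p q fun σ => by rw [← h1 p, ← h1 q, e]
  have he : ∀ σ p, ψ σ (f p) = f (σ p) := fun g p => st _ _ fun τ => by
    obtain ⟨σ, rfl⟩ := ψ.surjective τ
    have := h1 p (g⁻¹ * σ * g)
    simp only [map_mul, map_inv, Perm.mul_apply, Perm.inv_eq_iff_eq] at this
    rw [h1, this]
  let π : S6 := Equiv.ofBijective f (Finite.injective_iff_bijective.1 hi)
  refine ⟨π, fun σ => eq_mul_inv_iff_mul_eq.2 (Equiv.ext fun p => he σ p)⟩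

theorem hom_ext6 {K : Type*} [Group K] {f f' : S6 →* K} (h : ∀ x ∈ [3, 4, 5, 6, 7], f (s6 x) = f' (s6 x)) :
    f = f' := by
  refine MonoidHom.eq_of_eqOn_denseM (Perm.mclosure_swap_castSucc_succ 5) ?_
  rintro _ ⟨i, rfl⟩
  obtain ⟨a, b⟩ := (by decide : ∀ i : Fin 5, i.1 + 3 ∈ [3, 4, 5, 6, 7] ∧ s6 (i + 3) = swap i.castSucc i.succ) i
  have := h _ a
  rwa [b] at this

theorem exists_th0 : ∃ θ : S6 →* S6, (∀ x ∈ [3, 4, 5, 6, 7], θ (s6 x) = U6 x) ∧ ∀ σ, θ (θ σ) = σ := by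
  obtain ⟨θ, h⟩ := H95.exists_hom_perm_of_coxeter 5 (fun i => U6 (i + 3)) (by decide +kernel)
    (fun i h => (by decide +kernel : ∀ i < 4, U6 (i + 3) * U6 (i + 1 + 3) * U6 (i + 3) =
      U6 (i + 1 + 3) * U6 (i + 3) * U6 (i + 1 + 3)) i (by omega))
    (fun i j h hj => (by decide +kernel : ∀ j < 5, ∀ i < j, i + 1 < j → U6 (i + 3) * U6 (j + 3) =
      U6 (j + 3) * U6 (i + 3)) j hj i (by omega) h)
  have h1 : ∀ x ∈ [3, 4, 5, 6, 7], θ (s6 x) = U6 x :=
    forall_cons (h 0 (by decide)) (forall_cons (h 1 (by decide)) (forall_cons (h 2 (by decide))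
      (forall_cons (h 3 (by decide)) (forall_cons (h 4 (by decide)) (forall_nil _)))))
  refine ⟨θ, h1, DFunLike.congr_fun (hom_ext6 (f := θ.comp θ) (f' := MonoidHom.id _) fun x hx => ?_)⟩
  obtain ⟨a, b, c⟩ := (by decide +kernel : ∀ x ∈ [3, 4, 5, 6, 7], U6 x = wv s6 (WU x) ∧ wv U6 (WU x) = s6 x ∧
    ∀ y ∈ WU x, y ∈ [3, 4, 5, 6, 7]) x hx
  rw [MonoidHom.comp_apply, h1 x hx, a, wv_map, MonoidHom.id_apply, ← b, wv, wv,
    List.map_congr_left fun y hy => h1 y (c y hy)]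

theorem six_norm (θ : S6 →* S6) (h1 : θ (swap 3 4 * swap 4 5) ≠ 1)
    (h3 : (θ (swap 3 4 * swap 4 5)).support.card ≠ 3) :
    ∃ π : S6, ∀ x ∈ [3, 4, 5, 6, 7], θ (s6 x) = π * U6 x * π⁻¹ := by
  have hi : Injective θ := by
    rw [← MonoidHom.ker_eq_bot_iff]
    by_contra c
    exact h1 (Perm.alternatingGroup_le_of_normal (by simp) ((nontrivial_iff_ne_bot _).2 c)
      (Perm.mem_alternatingGroup.2 (by decide +kernel)))
  let e : S6 ≃* S6 := MulEquiv.ofBijective θ (Finite.injective_iff_bijective.1 hi)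
  have s1 : (swap 3 4 : S6).IsSwap := ⟨_, _, by decide, rfl⟩
  have h4 : ∀ t : S6, t.IsSwap → ¬ (θ t).IsSwap := fun t ht c => by
    obtain ⟨a, b, -, e1⟩ := H99.isSwap_of_isConj c (θ.map_isConj (H99.isConj_of_isSwap ht s1))
    obtain ⟨a', b', -, e2⟩ := H99.isSwap_of_isConj c (θ.map_isConj (H99.isConj_of_isSwap (t := swap 4 5) ht
      ⟨_, _, by decide, rfl⟩))
    have e3 : θ (swap 3 4 * swap 4 5) ^ 3 = 1 := by
      rw [← map_pow, (by decide +kernel : (swap 3 4 * swap 4 5 : S6) ^ 3 = 1), map_one]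
    rw [map_mul, e1, e2] at h1 h3 e3
    exact h3 ((by decide +kernel : ∀ a b c d : Fin 6, (swap a b * swap c d) ^ 3 = 1 → swap a b * swap c d ≠ 1 →
      (swap a b * swap c d).support.card = 3) _ _ _ _ e3 h1)
  obtain ⟨θ0, k1, k2⟩ := exists_th0
  let e0 : S6 ≃* S6 := MonoidHom.toMulEquiv θ0 θ0 (MonoidHom.ext k2) (MonoidHom.ext k2)
  obtain ⟨π, hπ⟩ := inner_of_swap (e.trans e0) fun t ht => by
    have a := ((H99.equiv_swap_cases e ht).resolve_left (h4 t ht)).1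
    have b := θ0.map_isConj (H99.isConj_of_fpf_invol (s := U6 3) (t := θ t) (by decide +kernel)
      (by obtain ⟨x, y, -, rfl⟩ := ht; rw [← map_mul, swap_mul_self, map_one]) (by decide +kernel) a)
    rw [← k1 3 (by decide), k2] at b
    exact H99.isSwap_of_isConj ⟨0, 1, by decide, rfl⟩ b
  refine ⟨θ0 π, fun x hx => ?_⟩
  rw [← k1 x hx, ← map_inv, ← map_mul, ← map_mul, ← hπ]
  exact (k2 _).symm

end Cfsg.Agent.H3L
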