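import Cfsg.Agent.H3L.E1a

/-! Normalisation of `g` by the outer automorphism of `S₆`. -/

set_option autoImplicit false
set_option maxRecDepth 100000

namespace Cfsg.Agent.H3L

open Subgroup Equiv Function H58 H17

section Pr
variable {H K : Type*} [Group H] [Group K]

/-- `1 ↦ 1`, `-1 ↦ t` -/
def sgE (t : H) (ε : ℤˣ) : H := if ε = 1 then 1 else t

/-- the homomorphism on `2 × K` -/
def pr (t : H) (f : K →* H) (ht : t * t = 1) (hc : ∀ k, t * f k = f k * t) : ℤˣ × K →* H :=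
  MonoidHom.mk' (fun x => sgE t x.1 * f x.2) (by
    rintro ⟨a, k⟩ ⟨b, l⟩
    rcases Int.units_eq_one_or a with rfl | rfl <;> rcases Int.units_eq_one_or b with rfl | rfl
    · simp [sgE]
    · simp only [sgE, Prod.mk_mul_mk, one_mul, if_true, map_mul, if_neg (by decide : (-1 : ℤˣ) ≠ 1)]
      rw [← mul_assoc, hc k, mul_assoc]
    · simp [sgE, mul_assoc]
    · simp only [sgE, Prod.mk_mul_mk, neg_mul_neg, mul_one, if_true, one_mul, map_mul,
        if_neg (by decide : (-1 : ℤˣ) ≠ 1)]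
      rw [hc k, mul_assoc, ← mul_assoc t, ht, one_mul])

variable {t : H} {f : K →* H} {ht : t * t = 1} {hc : ∀ k, t * f k = f k * t}

theorem pr_one (k : K) : pr t f ht hc (1, k) = f k := one_mul _

theorem pr_neg (k : K) : pr t f ht hc (-1, k) = t * f k := rfl

theorem pr_inj (hf : Injective f) (hn : ∀ k, f k ≠ t) : Injective (pr t f ht hc) := by
  refine (injective_iff_map_eq_one _).2 ?_
  rintro ⟨a, k⟩ e
  rcases Int.units_eq_one_or a with rfl | rfl
  · rw [pr_one] at e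
    rw [hf (e.trans f.map_one.symm)]; rfl
  · exact absurd (mul_left_cancel (e.trans ht.symm)) (hn k)

theorem pr_mem {x : H} (h : ∃ k, x = f k ∨ x = t * f k) : ∃ y, pr t f ht hc y = x := by
  obtain ⟨k, rfl | rfl⟩ := h
  exacts [⟨(1, k), pr_one k⟩, ⟨(-1, k), rfl⟩]

end Pr

/-- the last six points -/
def fE : Fin 6 ≃ {x : Fin 8 // 2 ≤ x} :=
  ⟨fun i => ⟨⟨i + 2, by omega⟩, Nat.le_add_left 2 i⟩, fun x => ⟨x.1.1 - 2, by omega⟩, by decide, by decide⟩

/-- `S₆` on the last six points -/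
def io8 : S6 →* S8 := Perm.extendDomainHom fE

theorem io8_inj : Injective io8 := Perm.extendDomainHom_injective fE

theorem io8_fix (ρ : S6) {x : Fin 8} (h : ¬ 2 ≤ x) : io8 ρ x = x := Perm.extendDomain_apply_not_subtype ρ fE h

theorem io8_comm (ρ : S6) : swap 0 1 * io8 ρ = io8 ρ * swap 0 1 := by
  rw [mul_swap_eq_swap_mul, io8_fix ρ (by decide), io8_fix ρ (by decide)]

/-- the centraliser of `(0 1)` -/
def mu : ℤˣ × S6 →* S8 := pr (swap 0 1) io8 (swap_mul_self _ _) io8_comm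

theorem mu_one (ρ : S6) : mu (1, ρ) = io8 ρ := one_mul _

theorem mu_inj : Injective mu := pr_inj io8_inj fun k e => by
  have := io8_fix k (x := 0) (by decide)
  rw [e] at this
  exact absurd this (by decide)

theorem exists_io8 {τ : S8} (h0 : τ 0 = 0) (h1 : τ 1 = 1) : ∃ ρ, τ = io8 ρ := by
  have a : ∀ x : Fin 8, ¬ 2 ≤ x ↔ x = 0 ∨ x = 1 := by decide
  have h : ∀ x, 2 ≤ τ x ↔ 2 ≤ x := fun x => not_iff_not.1 (by
    rw [a, a, ← τ.injective.eq_iff (a := x) (b := 0), ← τ.injective.eq_iff (a := x) (b := 1), h0, h1])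
  refine ⟨fE.symm.permCongr (τ.subtypePerm h), Equiv.ext fun x => ?_⟩
  by_cases c : 2 ≤ x
  · refine Eq.trans ?_ (Perm.extendDomain_apply_subtype _ fE c).symm
    simp
  · rw [io8_fix _ c]
    rcases (a x).1 c with rfl | rfl
    exacts [h0, h1]

theorem exists_mu {τ : S8} (h : τ * swap 0 1 = swap 0 1 * τ) : ∃ y, mu y = τ := by
  have h0 : τ 1 = swap 0 1 (τ 0) := by simpa using congrArg (fun σ : S8 => σ 0) h
  refine pr_mem ?_
  by_cases a : τ 0 = 0
  · obtain ⟨ρ, e⟩ := exists_io8 a (by rw [h0, a]; rfl)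
    exact ⟨ρ, Or.inl e⟩
  by_cases b : τ 0 = 1
  · obtain ⟨ρ, e⟩ := exists_io8 (τ := swap 0 1 * τ) (by rw [Perm.mul_apply, b]; rfl)
      (by rw [Perm.mul_apply, h0, b]; rfl)
    exact ⟨ρ, Or.inr (by rw [← e, swap_mul_self_mul])⟩
  · rw [swap_apply_of_ne_of_ne a b] at h0
    exact absurd (τ.injective h0) (by decide)

variable {G : Type*} [Group G] {z g : G} {β : S8 →* G}

/-- the parametrisation of `C(z)` -/
def Am.ps (h : Am z β g) : ℤˣ × S8 →* G := pr z β h.zz h.comm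

theorem Am.ps_one (h : Am z β g) (σ : S8) : h.ps (1, σ) = β σ := one_mul _

theorem Am.ps_neg (h : Am z β g) (σ : S8) : h.ps (-1, σ) = z * β σ := rfl

theorem Am.ps_z (h : Am z β g) : h.ps (-1, 1) = z := by rw [h.ps_neg, map_one, mul_one]

theorem Am.ps_inj (h : Am z β g) : Injective h.ps := pr_inj h.inj h.nmem

theorem Am.ps_mem (h : Am z β g) {x : G} (e : x * z = z * x) : ∃ y, h.ps y = x := pr_mem (h.cz x e)

theorem Am.left (h : Am z β g) {σ : S8} (hσ : swap 0 1 * σ = σ * swap 0 1) : Am z β (β σ * g) :=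
  { h with
    gz := by
      calc _ = β σ * (g * z * g⁻¹) * (β σ)⁻¹ := by group
        _ = _ := by rw [h.gz, ← map_mul, ← hσ, map_mul, mul_inv_cancel_right]
    gr := by
      calc _ = β σ * (g * β (swap 0 1) * g⁻¹) * (β σ)⁻¹ := by group
        _ = _ := by rw [h.gr, ← h.comm, mul_inv_cancel_right]
    ga := by
      obtain ⟨τ, a, b⟩ := h.ga
      refine ⟨σ * τ * σ⁻¹, ?_, fun c => b ?_⟩
      · rw [map_mul, map_mul, map_inv, ← a]; group
      · exact (Perm.cycleType_conj (σ := τ) (τ := σ)).symm.trans c }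

theorem Am.conj_right (h : Am z β g) (y : ℤˣ × S8) : g * z * h.ps y * (g * z)⁻¹ = g * h.ps y * g⁻¹ := by
  have := congrArg h.ps (show (-1, 1) * y = y * (-1, 1) from Prod.ext (mul_comm _ _) (by simp))
  rw [map_mul, map_mul, h.ps_z] at this
  rw [mul_assoc g, this]; group

theorem Am.right (h : Am z β g) : Am z β (g * z) :=
  { h with
    gz := by rw [← h.gz]; group
    gr := by rw [mul_assoc g, h.comm]; simpa [mul_assoc] using h.gr
    ga := by
      obtain ⟨τ, a, b⟩ := h.ga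
      exact ⟨τ, by rw [mul_assoc g, h.comm]; simpa [mul_assoc] using a, b⟩ }

theorem Am.norm (h : Am z β g) : ∃ g' ε δ, Am z β g' ∧ ∀ x ∈ [3, 4, 5, 6, 7],
    g' * β (sw x) * g'⁻¹ = h.ps (ε, mu (δ, U6 x)) := by
  let Φ := h.ps.comp ((MonoidHom.id ℤˣ).prodMap mu)
  have hΦ : Injective Φ := h.ps_inj.comp (injective_id.prodMap mu_inj)
  have hm : ∀ σ, (MulAut.conj g).toMonoidHom.comp (β.comp io8) σ ∈ Φ.range := fun σ => by
    have c1 : Commute (β (io8 σ)) (β (swap 0 1)) := Commute.map (io8_comm σ).symm β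
    have c2 : Commute (β (io8 σ)) z := (h.comm _).symm
    obtain ⟨⟨ε, τ⟩, e⟩ := h.ps_mem (h.gr ▸ (c1.conj g).eq)
    have c3 := (c2.conj g).eq
    rw [h.gz, ← e, ← h.ps_one] at c3
    obtain ⟨y, rfl⟩ := exists_mu (congrArg Prod.snd (h.ps_inj
      (((map_mul h.ps _ _).trans c3).trans (map_mul h.ps _ _).symm)))
    exact ⟨(ε, y), e⟩
  let Λ : S6 →* ℤˣ × ℤˣ × S6 := (MonoidHom.ofInjective hΦ).symm.toMonoidHom.comp (MonoidHom.codRestrict _ _ hm)
  have hΛ : ∀ σ, Φ (Λ σ) = g * β (io8 σ) * g⁻¹ := fun σ => MonoidHom.apply_ofInjective_symm hΦ _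
  have hs : ∀ (χ : S6 →* ℤˣ), ∀ x ∈ [3, 4, 5, 6, 7], χ (s6 x) = χ (s6 3) := fun χ x hx => by
    obtain ⟨π, e⟩ := isConj_iff.1 (H99.isConj_of_isSwap (s := s6 3) (t := s6 x) ⟨0, 1, by decide, rfl⟩
      ((by decide +kernel : ∀ x ∈ [3, 4, 5, 6, 7], ∃ a b, a ≠ b ∧ s6 x = Equiv.swap a b) x hx))
    rw [← e, map_mul, map_mul, map_inv, mul_inv_cancel_comm]
  let i := (MonoidHom.fst _ _).comp Λ
  let j := (MonoidHom.fst _ _).comp ((MonoidHom.snd _ _).comp Λ)
  let θ := (MonoidHom.snd _ _).comp ((MonoidHom.snd _ _).comp Λ)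
  have e8 : a8 = io8 (swap 3 4 * swap 4 5) := by decide +kernel
  have ha : g * β a8 * g⁻¹ = β (io8 (θ (swap 3 4 * swap 4 5))) := by
    have k : ∀ χ : S6 →* ℤˣ, χ (swap 3 4 * swap 4 5) = 1 := fun χ => by
      rw [map_mul, show χ (swap 3 4) = _ from hs χ 6 (by decide), show χ (swap 4 5) = _ from hs χ 7 (by decide),
        Int.units_mul_self]
    rw [e8, ← hΛ, show Λ (swap 3 4 * swap 4 5) = (1, 1, θ (swap 3 4 * swap 4 5)) from
      Prod.ext (k i) (Prod.ext (k j) rfl)]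
    exact (h.ps_one _).trans (congrArg β (mu_one _))
  obtain ⟨π, hπ⟩ := six_norm θ (fun e => by
      rw [e, map_one, map_one, mul_inv_eq_one, mul_eq_left] at ha
      exact absurd (h.inj (ha.trans β.map_one.symm)) (by decide))
    (fun e => by
      obtain ⟨τ, a, b⟩ := h.ga
      refine b (card_support_eq_three_iff.1 ?_)
      rw [← h.inj (ha.symm.trans a), ← e]
      exact Perm.card_support_extend_domain fE)
  refine ⟨β (io8 π⁻¹) * g, i (s6 3), j (s6 3), h.left (io8_comm _), fun x hx => ?_⟩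
  have e1 : Φ (1, 1, π⁻¹) = β (io8 π⁻¹) := (h.ps_one _).trans (congrArg β (mu_one _))
  have e2 : Λ (s6 x) = (i (s6 3), j (s6 3), π * U6 x * π⁻¹) := Prod.ext (hs i x hx) (Prod.ext (hs j x hx) (hπ x hx))
  calc _ = β (io8 π⁻¹) * (g * β (io8 (s6 x)) * g⁻¹) * (β (io8 π⁻¹))⁻¹ := by
        rw [(by decide +kernel : ∀ x ∈ [3, 4, 5, 6, 7], io8 (s6 x) = sw x) x hx]; group
    _ = Φ (i (s6 3), j (s6 3), U6 x) := by
        rw [← hΛ, ← e1, ← map_inv, ← map_mul, ← map_mul, e2]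
        congr 1
        ext <;> simp [mul_assoc]
    _ = _ := rfl

end Cfsg.Agent.H3L
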