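import Cfsg.Agent.H3L.E2a
import Cfsg.Agent.HN.Fr1
import Cfsg.Agent.HN.Phi

set_option autoImplicit false
set_option maxRecDepth 100000
set_option exponentiation.threshold 400000
set_option Elab.async false

namespace Cfsg.Agent.H3L

open Subgroup Equiv Function

section Model

open H58 H17 H14 HnU HN

instance normal_c0 : (zpowers c0).Normal := ⟨fun n hn g => by
  obtain ⟨k, rfl⟩ := hn
  rw [((show Commute g c0 from c0_comm g).zpow_right k).eq, mul_inv_cancel_right]
  exact ⟨k, rfl⟩⟩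

/-- the quotient of the model by its centre -/
abbrev QD : Type := HnU.D0 ⧸ zpowers c0

/-- the projection -/
noncomputable def pQ : HnU.D0 →* QD := QuotientGroup.mk' _

theorem pQ_c0 : pQ c0 = 1 := (QuotientGroup.eq_one_iff _).2 (mem_zpowers c0)

theorem card_QD : Nat.card QD = 88704000 := by
  have := card_eq_card_quotient_mul_card_subgroup (zpowers c0)
  rw [card_D0, Nat.card_zpowers, orderOf_eq_prime ((pow_two _).trans c0_sq) c0_ne] at this
  change 177408000 = Nat.card QD * 2 at this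
  omega

/-- the words of the nine letters -/
def WL (x : ℕ) : List ℕ := [[], [4, 13, 5, 12, 3], [5, 8, 8, 1, 9, 9], [5, 8, 1, 9], [1, 5], [5, 9, 1, 8],
  [5, 9, 9, 1, 8, 8], [5, 9, 9, 9, 1, 8, 8, 8], [5], [12, 3, 9, 9, 1, 8, 1, 8, 1]].getD x []

/-- substitution of the words -/
def fl (r : List ℕ) : List ℕ := (r.map WL).flatten

/-- equality of words modulo the centre -/
noncomputable def eqQ (u v : List ℕ) : Bool := eqW u v || eqW u (v ++ [10])

theorem pQ_eq (u v : List ℕ) (h : eqQ u v = true) : pQ (E u) = pQ (E v) := by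
  rcases Bool.or_eq_true_iff.1 h with h | h
  · rw [E_eq _ _ h]
  · rw [E_eq _ _ h, E_append, map_mul, ← c0, pQ_c0, mul_one]

theorem pQ_fl (r : List ℕ) : pQ (E (fl r)) = wv (fun x => pQ (E (WL x))) r := by
  rw [← wv_map pQ fun x => E (WL x), E, fl, wv_flatten, List.map_map]
  rfl

theorem ruleQ : RuleOK (fun x => pQ (E (WL x))) H3L1.rels H3L1.iv := by
  refine ⟨map_one pQ, fun x hx => ?_, fun r hr => ?_, by decide +kernel⟩
  · have h : allN 10 (fun x => eqQ (WL x ++ WL x) []) = true := by decide +kernel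
    rcases (by decide +kernel : ∀ x < 64, (x < 10 ∧ ivf H3L1.iv x = x) ∨
      (WL x = [] ∧ WL (ivf H3L1.iv x) = [])) x hx with ⟨a, b⟩ | ⟨a, b⟩
    · rw [b, ← mul_eq_one_iff_eq_inv, ← map_mul, ← E_append, pQ_eq _ _ (allN_iff.1 h x a), E_nil, map_one]
    · simp only [a, b, E_nil, map_one, inv_one]
  · have h : allA H3L1.rels (fun r => eqQ (fl r) []) = true := by decide +kernel
    exact (pQ_fl r).symm.trans ((pQ_eq _ _ (allA_spec h r hr)).trans (map_one pQ))

theorem genQ : clL (fun x => pQ (E (WL x))) L9 = ⊤ := by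
  have k : ∀ u r : List ℕ, eqQ u (fl r) = true → (∀ x ∈ r, x ∈ L9) →
      E u ∈ (clL (fun x => pQ (E (WL x))) L9).comap pQ := fun u r h hr => by
    rw [mem_comap, pQ_eq _ _ h, pQ_fl]
    exact wv_mem fun x hx => el_mem_closure _ _ x (hr x hx)
  have := gen_top (k [1] [4, 8] (by decide +kernel) (by decide))
    (k [3] [4, 9, 6, 4, 9, 2, 9, 2, 9, 1, 3, 4, 5, 6, 5, 4, 3, 7, 6, 5, 4, 3, 2, 8] (by decide +kernel) (by decide))
    (k [5] [8] (by decide +kernel) (by decide))
  refine eq_top_iff.2 fun q _ => ?_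
  obtain ⟨d, rfl⟩ := QuotientGroup.mk'_surjective (zpowers c0) q
  exact (this ▸ mem_top d : d ∈ (clL (fun x => pQ (E (WL x))) L9).comap pQ)

/-- a normal subgroup of `D0` contains `K0` modulo the centre or meets it in the centre -/
theorem normal_K0 (N : Subgroup HnU.D0) [N.Normal] (hc : c0 ∈ N) : K0 ≤ N ∨ ∀ d ∈ K0, d ∈ N → d = 1 ∨ d = c0 := by
  obtain ⟨u⟩ := H63.Le.equiv_CH
  have := H17.simple_CH
  have : IsSimpleGroup Spor.HS := u.symm.isSimpleGroup
  obtain ⟨-, ⟨e⟩, -⟩ := HnK.cover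
  let σ : K0 →* Spor.HS := e.toMonoidHom.comp ((QuotientGroup.mk' _).comp eK.toMonoidHom)
  have hs : Surjective σ := e.surjective.comp ((QuotientGroup.mk'_surjective _).comp eK.surjective)
  have hk : ∀ k : K0, σ k = 1 → k.1 = 1 ∨ k.1 = c0 := fun k hk => by
    have h1 : k ∈ center K0 := (MulEquivClass.apply_mem_center_iff eK).1
      ((QuotientGroup.eq_one_iff _).1 ((MulEquiv.map_eq_one_iff e).1 hk))
    refine or_iff_not_imp_left.2 fun h2 => ?_
    exact congrArg Subtype.val (PhiAux.eq_of_card_two (PhiAux.cover_congr eK HnK.cover) h1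
      (b := ⟨c0, c0_mem⟩) (mem_center_iff.2 fun g => Subtype.ext (c0_comm g)) (fun h => h2 (congrArg Subtype.val h))
      fun h => c0_ne (congrArg Subtype.val h))
  rcases IsSimpleGroup.eq_bot_or_eq_top_of_normal ((N.subgroupOf K0).map σ)
    (Normal.map inferInstance σ hs) with h | h
  · exact Or.inr fun d hd hN => hk ⟨d, hd⟩ (mem_bot.1 (h ▸ mem_map_of_mem σ (mem_subgroupOf.2 hN)))
  · refine Or.inl fun d hd => ?_
    obtain ⟨n, hn, e1⟩ : σ ⟨d, hd⟩ ∈ (N.subgroupOf K0).map σ := h ▸ mem_top _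
    have h1 : (n⁻¹ * ⟨d, hd⟩ : K0).1 ∈ N := by
      rcases hk (n⁻¹ * ⟨d, hd⟩) (by rw [map_mul, map_inv, e1, inv_mul_cancel]) with h | h <;> rw [h]
      exacts [N.one_mem, hc]
    simpa using N.mul_mem (mem_subgroupOf.1 hn) h1

theorem ev_cj : ∀ j ∈ [128, 12800, 2, 16], ∃ w, ∃ r ∈ [[8], [1, 3], [8, 1], [8, 1, 3]],
    pQ (ev j) = pQ (E w) * pQ (E (fl r)) * (pQ (E w))⁻¹ := by
  have k : ∀ j w r, eqQ (evW j ++ w) (w ++ fl r) = true → pQ (ev j) = pQ (E w) * pQ (E (fl r)) * (pQ (E w))⁻¹ :=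
    fun j w r h => by
      rw [eq_mul_inv_iff_mul_eq, ← map_mul, ← map_mul, ev, ← E_append, ← E_append, pQ_eq _ _ h]
  exact forall_cons ⟨_, _, by decide, k 128 [3, 5, 14, 12, 3] [1, 3] (by decide +kernel)⟩
    (forall_cons ⟨_, _, by decide, k 12800 [9] [8, 1] (by decide +kernel)⟩
    (forall_cons ⟨_, _, by decide, k 2 [3, 12, 5, 14] [8] (by decide +kernel)⟩
    (forall_cons ⟨_, _, by decide, k 16 [4, 5, 4, 8, 14, 12] [8, 1, 3] (by decide +kernel)⟩ (forall_nil _))))

end Model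

variable {G : Type*} [Group G] [Finite G]

open H58 H17 HnU HN in
theorem Am.em {z g : G} {β : S8 →* G} (h : Am z β g) (r : Rel z β g) : ∃ φ, Em φ z β g := by
  obtain ⟨f, hf⟩ := h.hom r ruleQ genQ card_QD
  let φ := f.comp pQ
  have hc : φ c0 = 1 := by rw [MonoidHom.comp_apply, pQ_c0, map_one]
  have hw : ∀ w : List ℕ, (∀ x ∈ w, x ∈ L9) → φ (E (fl w)) = wv (elG z β g) w := fun w hw => by
    rw [MonoidHom.comp_apply, pQ_fl, wv_map, wv, wv, List.map_congr_left fun x hx => hf x (hw x hx)]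
  have h8 : φ (E (fl [8])) = z := (hw _ (by decide)).trans (mul_one z)
  have h81 : φ (E (fl [8, 1])) = z * β (swap 0 1) := (hw _ (by decide)).trans (by simp [wv, elG, sw])
  have hz : ∀ σ, z * β σ ≠ 1 := fun σ e => h.nmem σ (mul_left_cancel (e.trans h.zz.symm))
  have hj : ∀ j ∈ [128, 12800, 2, 16], ∃ k, ∃ r ∈ [z, β (swap 0 1 * swap 2 3), z * β (swap 0 1),
      z * β (swap 0 1 * swap 2 3)], φ (ev j) = φ k * r * (φ k)⁻¹ := fun j hj => by
    obtain ⟨w, s, hs, e⟩ := ev_cj j hj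
    refine ⟨E w, φ (E (fl s)), ?_, by simp only [φ, MonoidHom.comp_apply, e, map_mul, map_inv]⟩
    simp only [List.mem_cons, List.not_mem_nil, or_false] at hs ⊢
    rcases hs with rfl | rfl | rfl | rfl
    · exact Or.inl h8
    · exact Or.inr (Or.inl ((hw _ (by decide)).trans (by simp [wv, elG, sw])))
    · exact Or.inr (Or.inr (Or.inl h81))
    · exact Or.inr (Or.inr (Or.inr ((hw _ (by decide)).trans (by simp [wv, elG, sw]))))
  have hm : E (fl [8, 1]) ∈ K0 := (E_mem_K0 _ (by decide)).2 (by decide)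
  have hK := (normal_K0 φ.ker hc).resolve_left fun e => hz _ (h81.symm.trans (e hm))
  have hn : ∀ d, d * d = 1 ∨ d * d = c0 → (d = 1 ∨ d = c0) ∨ ∃ k, ∃ r ∈ [z, β (swap 0 1 * swap 2 3),
      z * β (swap 0 1), z * β (swap 0 1 * swap 2 3)], φ d = φ k * r * (φ k)⁻¹ := fun d hd => by
    refine (nfD hd).imp_right ?_
    rintro ⟨x, -, j, a, e⟩
    obtain ⟨k, s, hs, b⟩ := hj j a
    refine ⟨x * k, s, hs, ?_⟩
    rcases e with rfl | rfl <;> simp only [map_mul, map_inv, hc, b] <;> group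
  have hker : ∀ d, φ d = 1 ↔ d = 1 ∨ d = c0 := fun d => by
    refine ⟨fun e => (hn d (hK _ (mul_self_mem_of_index_two index_K0 d) ?_)).resolve_right ?_, ?_⟩
    · rw [MonoidHom.mem_ker, map_mul, e, one_mul]
    · rintro ⟨k, s, hs, b⟩
      obtain rfl : s = 1 := by simpa using b.symm.trans e
      simp only [List.mem_cons, List.not_mem_nil, or_false] at hs
      rcases hs with a | a | a | a
      · exact h.nmem 1 (β.map_one.trans a)
      · exact absurd (h.inj (β.map_one.trans a)) (by decide)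
      · exact hz _ a.symm
      · exact hz _ a.symm
    · rintro (rfl | rfl)
      exacts [map_one φ, hc]
  refine ⟨φ, hker, ⟨_, z_not_mem, h8⟩, mem_of_sw (K := φ.range) fun x hx => ?_,
    ⟨_, (hw [9] (by decide)).trans (mul_one g)⟩, ⟨_, hm, h81⟩, fun d hd => ?_⟩
  · rcases Nat.eq_zero_or_pos x with rfl | h0
    · simp [sw]
    · refine ⟨_, (hw [x] (by simpa using (by decide : ∀ x < 8, 0 < x → x ∈ L9) x hx h0)).trans ?_⟩
      rw [wv, List.map_singleton, List.prod_singleton, elG, if_neg (by omega), if_neg (by omega)]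
  · exact (hn d ((hker _).1 (by rwa [map_mul]))).imp_left (hker d).2

end Cfsg.Agent.H3L
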