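import Cfsg.Agent.H3L.Defs
import Cfsg.Agent.H58.Cert.H3L1
import Cfsg.Agent.H58.Cert.H3L2
import Cfsg.Agent.H95.CoxeterA
import Cfsg.Agent.H17.Delta

/-! The relators of `Rel` define a group of order at most `4 |HS.2|`; the homomorphism from a model. -/

set_option autoImplicit false

namespace Cfsg.Agent.H3L

open Subgroup Equiv Function H58 H17 H49

variable {G : Type*} [Group G]

/-- the nine letters -/
def L9 : List ℕ := [1, 2, 3, 4, 5, 6, 7, 8, 9]

theorem card_A7 {e : ℕ → G} (R : RuleOK e H3L1.rels H3L1.iv) :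
    Finite (clL e [1, 2, 3, 4, 5, 6, 7]) ∧ Nat.card (clL e [1, 2, 3, 4, 5, 6, 7]) ≤ 40320 := by
  have hi : ∀ x < 10, e x * e x = 1 := fun x hx => by
    have := R.hinv x (by omega)
    rw [(by decide +kernel : ∀ x < 10, ivf H3L1.iv x = x) x hx] at this
    exact mul_eq_one_iff_eq_inv.2 this
  obtain ⟨F, hF, h⟩ := H95.coxeterA_card_le 7 (fun i => e (i + 1)) (fun i h => hi _ (by omega))
    (fun i h => by
      have h1 := R.hrel _ ((by decide +kernel : ∀ i < 6,
        [i + 1, i + 1 + 1, i + 1, i + 1 + 1, i + 1, i + 1 + 1] ∈ H3L1.rels) i (by omega))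
      have h2 := hi (i + 1) (by omega)
      have h3 := hi (i + 1 + 1) (by omega)
      simp only [List.map_cons, List.map_nil, List.prod_cons, List.prod_nil] at h1
      generalize e (i + 1) = a at *
      generalize e (i + 1 + 1) = b at *
      calc a * b * a = a * (b * (a * (b * (a * (b * 1))))) * (b * b)⁻¹ * b * (a * a)⁻¹ * a * (b * b)⁻¹ * b := by
            group
        _ = _ := by rw [h1, h2, h3]; group)
    (fun i j h hj => by
      have h1 := R.hrel _ ((by decide +kernel : ∀ j < 7, ∀ i < j, i + 1 < j →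
        [i + 1, j + 1, i + 1, j + 1] ∈ H3L1.rels) j hj i (by omega) h)
      have h2 := hi (i + 1) (by omega)
      have h3 := hi (j + 1) (by omega)
      simp only [List.map_cons, List.map_nil, List.prod_cons, List.prod_nil] at h1
      generalize e (i + 1) = a at *
      generalize e (j + 1) = b at *
      calc a * b = a * (b * (a * (b * (b * b)⁻¹))) * b * (a * a)⁻¹ * a := by group
        _ = _ := by rw [h2, h3, inv_one, h1, one_mul, mul_one])
  have h' : (clL e [1, 2, 3, 4, 5, 6, 7] : Set G) ⊆ F := fun x hx => h x (closure_mono (by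
    rintro _ ⟨y, hy, rfl⟩
    obtain ⟨i, hi, rfl⟩ := (by decide : ∀ y ∈ [1, 2, 3, 4, 5, 6, 7], ∃ i < 7, y = i + 1) y hy
    exact ⟨i, hi, rfl⟩) hx)
  exact ⟨(F.finite_toSet.subset h').to_subtype,
    (Nat.card_mono F.finite_toSet h').trans (by rw [Nat.card_coe_set_eq, Set.ncard_coe_finset]; exact hF)⟩

theorem card_L9 {e : ℕ → G} (R : RuleOK e H3L1.rels H3L1.iv) :
    Finite (clL e L9) ∧ Nat.card (clL e L9) ≤ 4400 * (2 * 40320) :=
  card_step (card_step (card_A7 R) (H3L2.relIndex_le (RuleOK_sub R (by decide +kernel)) _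
    (mem_clL e _ _ (by decide)))) (H3L1.relIndex_le R _ (mem_clL e _ _ (by decide)))

/-- the adjacent transpositions -/
def sw (x : ℕ) : S8 := [1, swap 0 1, swap 1 2, swap 2 3, swap 3 4, swap 4 5, swap 5 6, swap 6 7].getD x 1

/-- the values of the letters -/
def elG (z : G) (β : S8 →* G) (g : G) (x : ℕ) : G := if x = 9 then g else if x = 8 then z else β (sw x)

variable {z g : G} {β : S8 →* G}

theorem Am.wvB (h : Am z β g) (g' : G) : ∀ w : List ℕ, 9 ∉ w →
    wv (elG z β g') w = z ^ (w.count 8) * β (wv sw w)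
  | [], _ => by simp [wv]
  | x :: w, hw => by
    have ih := h.wvB g' w fun e => hw (List.mem_cons_of_mem _ e)
    have h9 : x ≠ 9 := fun e => hw (e ▸ List.mem_cons_self)
    simp only [wv, List.map_cons, List.prod_cons] at ih ⊢
    rw [ih, map_mul, List.count_cons]
    by_cases h8 : x = 8
    · subst h8
      simp [elG, sw, pow_succ', mul_assoc]
    · rw [elG, if_neg h9, if_neg h8, ← mul_assoc, ← mul_assoc,
        ((Commute.symm (h.comm (sw x))).pow_right _).eq]
      simp [h8]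

theorem Am.ruleOK (h : Am z β g) (r : Rel z β g) : RuleOK (elG z β g) H3L1.rels H3L1.iv := by
  have k : ∀ (x : ℕ) (t : S8) (w : List ℕ), g * β (sw x) * g = z * β t →
      (x ≠ 9 ∧ x ≠ 8 ∧ 9 ∉ w ∧ w.count 8 = 1 ∧ t * wv sw w = 1) → wv (elG z β g) (9 :: x :: 9 :: w) = 1 := by
    rintro x t w e ⟨a, b, c, d, f⟩
    have := h.wvB g w c
    simp only [wv, List.map_cons, List.prod_cons] at this f ⊢
    rw [this, d, pow_one, elG, elG, if_pos rfl, if_neg a, if_neg b, ← mul_assoc, ← mul_assoc, e, mul_assoc,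
      ← mul_assoc (β t), ← h.comm, ← mul_assoc, ← mul_assoc, h.zz, one_mul, ← map_mul, f, map_one]
  refine ⟨by simp [elG, sw], fun x hx => ?_, fun w hw => ?_, by decide +kernel⟩
  · rcases (by decide +kernel : ∀ x < 64, x = 9 ∨ x = 8 ∨ (x ≠ 9 ∧ x ≠ 8 ∧ ivf H3L1.iv x ≠ 9 ∧
      ivf H3L1.iv x ≠ 8 ∧ sw (ivf H3L1.iv x) = (sw x)⁻¹)) x hx with rfl | rfl | ⟨a, b, c, d, e⟩
    · exact mul_eq_one_iff_eq_inv.1 r.gg
    · exact mul_eq_one_iff_eq_inv.1 h.zz
    · rw [elG, elG, if_neg a, if_neg b, if_neg c, if_neg d, e, map_inv]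
  · rcases (by decide +kernel : ∀ w ∈ H3L1.rels, (9 ∉ w ∧ (w.count 8 = 0 ∨ w.count 8 = 2) ∧ wv sw w = 1) ∨
      w ∈ H3L1.rels.drop 28) w hw with ⟨a, b, c⟩ | a
    · refine (h.wvB g w a).trans ?_
      rcases b with b | b <;> rw [b, c] <;> simp [pow_two, h.zz]
    · revert w
      refine fun w _ => forall_cons (P := fun w => wv (elG z β g) w = 1) ?_ (forall_cons ?_ (forall_cons ?_
        (forall_cons ?_ (forall_cons ?_ (forall_cons ?_ (forall_cons ?_ (forall_nil' _))))))) w
      · change g * (z * (g * (β (swap 0 1) * 1))) = 1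
        rw [← mul_assoc, ← mul_assoc, r.gz, mul_one, ← map_mul, swap_mul_self, map_one]
      · exact k 3 _ _ r.g2 (by decide +kernel)
      · exact k 4 _ _ r.g3 (by decide +kernel)
      · exact k 5 _ _ r.g4 (by decide +kernel)
      · exact k 6 _ _ r.g5 (by decide +kernel)
      · exact k 7 _ _ r.g6 (by decide +kernel)
      · refine (wv_replicate _ [2, 1, 3, 2, 8, 9] 4).trans ?_
        rw [← r.four, (by decide +kernel : (swap 0 2 * swap 1 3 : S8) = sw 2 * (sw 1 * (sw 3 * sw 2)))]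
        simp [wv, elG, mul_assoc]

theorem cent_of_seven {N : Subgroup G} [Finite N] (hN : Nat.card N ≤ 4) {x : G} (hx : x ∈ 𝒩(N))
    (h7 : x ^ 7 = 1) {n : G} (hn : n ∈ N) : x * n = n * x := by
  classical
  have := Fintype.ofFinite N
  let θ : 𝒩(N) →* Perm N := (MulAut.toPerm N).comp N.normalizerMonoidHom
  have h1 : orderOf (θ ⟨x, hx⟩) ∣ 7 := orderOf_dvd_of_pow_eq_one (by
    rw [← map_pow, show (⟨x, hx⟩ : 𝒩(N)) ^ 7 = 1 from Subtype.ext h7, map_one])
  have h2 : orderOf (θ ⟨x, hx⟩) ∣ Nat.factorial 4 := by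
    refine orderOf_dvd_card.trans ?_
    rw [Fintype.card_perm, ← Nat.card_eq_fintype_card]
    exact Nat.factorial_dvd_factorial hN
  have h3 : θ ⟨x, hx⟩ = 1 := orderOf_eq_one_iff.1 (Nat.eq_one_of_dvd_coprimes (by decide) h1 h2)
  have h4 : x * n * x⁻¹ = n := congrArg Subtype.val (congrArg (fun π : Perm N => π ⟨n, hn⟩) h3)
  exact mul_inv_eq_iff_eq_mul.1 h4

theorem mem_of_sw {K : Subgroup G} (hK : ∀ x < 8, β (sw x) ∈ K) (σ : S8) : β σ ∈ K := by
  have : σ ∈ Submonoid.closure (Set.range fun i : Fin 7 => swap i.castSucc i.succ) := by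
    rw [Perm.mclosure_swap_castSucc_succ]; trivial
  refine (Submonoid.closure_le (S := (K.comap β).toSubmonoid)).2 ?_ this
  rintro _ ⟨i, rfl⟩
  have := hK (i + 1) (by omega)
  rwa [(by decide +kernel : ∀ i : Fin 7, sw (i + 1) = swap i.castSucc i.succ) i] at this

theorem Am.small (h : Am z β g) {N : Subgroup G} [Finite N] (hN : Nat.card N ≤ 4) (hβ : ∀ σ, β σ ∈ 𝒩(N))
    (hg : g ∈ 𝒩(N)) : N = ⊥ := by
  have h7 : ∀ τ : S8, τ ^ 7 = 1 → ∀ n ∈ N, β τ * n = n * β τ := fun τ e n hn =>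
    cent_of_seven hN (hβ τ) (by rw [← map_pow, e, map_one]) hn
  let t : S8 := swap 1 2 * swap 2 3 * swap 3 4 * swap 4 5 * swap 5 6 * swap 6 7
  have h1 : ∀ n ∈ N, n = 1 ∨ n = z := fun n hn => by
    have c1 : Commute (β t) n := h7 t (by decide +kernel) n hn
    have c2 : Commute (β (t * a8)) n := h7 _ (by decide +kernel) n hn
    have c3 : Commute (β a8) n := by simpa using c1.inv_left.mul_left c2
    obtain ⟨σ, e⟩ := h.cz n (h.ca n c3.eq.symm)
    have c4 : ∀ τ : S8, τ ^ 7 = 1 → τ * σ = σ * τ := fun τ e7 => h.inj (by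
      have := h7 τ e7 n hn
      rw [map_mul, map_mul]
      rcases e with rfl | rfl
      · exact this
      · rw [← mul_assoc, ← h.comm, mul_assoc, mul_assoc] at this
        exact mul_left_cancel this)
    obtain rfl : σ = 1 := Equiv.ext fun x => by
      obtain ⟨a, b, c⟩ := (by decide +kernel : ∀ x : Fin 8, (swap 0 x * t * swap 0 x) ^ 7 = 1 ∧
        (swap 0 x * t * swap 0 x) x = x ∧ ∀ y, (swap 0 x * t * swap 0 x) y = y → y = x) x
      refine c _ ?_
      have := congrArg (fun π : S8 => π x) (c4 _ a)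
      simp only [Perm.mul_apply] at this b ⊢
      rw [this, b]
    simpa using e
  refine (eq_bot_iff_forall N).2 fun n hn => (h1 n hn).resolve_right ?_
  rintro rfl
  rcases h1 _ (h.gz ▸ (mem_normalizer_iff.1 hg n).1 hn) with e | e
  · exact absurd (h.inj (e.trans β.map_one.symm)) (by decide)
  · exact h.nmem _ e

theorem Am.hom (h : Am z β g) (r : Rel z β g) {Q : Type*} [Group Q] [Finite Q] {m : ℕ → Q}
    (R : RuleOK m H3L1.rels H3L1.iv) (hm : clL m L9 = ⊤) (hQ : Nat.card Q = 88704000) :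
    ∃ f : Q →* G, ∀ x ∈ L9, f (m x) = elG z β g x := by
  obtain ⟨hf, hc⟩ := card_L9 (ruleOK_prod R (h.ruleOK r))
  set Γ := clL (fun x => (m x, elG z β g x)) L9 with hΓ
  let p : Γ →* Q := (MonoidHom.fst Q G).comp Γ.subtype
  have hp : Surjective p := by
    rw [← MonoidHom.range_eq_top, MonoidHom.range_comp, range_subtype, map_clL]
    exact hm
  have hk : Nat.card p.ker ≤ 4 := by
    have := card_eq_card_quotient_mul_card_subgroup p.ker
    rw [Nat.card_congr (QuotientGroup.quotientKerEquivOfSurjective p hp).toEquiv, hQ] at this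
    omega
  let N := Γ.comap (MonoidHom.inr Q G)
  let ι : N → p.ker := fun n => ⟨⟨(1, n), n.2⟩, rfl⟩
  have hι : Injective ι := fun a b e => Subtype.ext (congrArg (fun x : p.ker => x.1.1.2) e)
  have := Finite.of_injective ι hι
  have hN : clL (elG z β g) L9 ≤ 𝒩(N) := by
    have e : Γ.map (MonoidHom.snd Q G) = clL (elG z β g) L9 := map_clL _ _ _
    rw [← e]
    rintro _ ⟨x, hx, rfl⟩
    refine mem_normalizer_fintype fun n hn => ?_
    have := Γ.mul_mem (Γ.mul_mem hx hn) (Γ.inv_mem hx)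
    change ((1 : Q), x.2 * n * x.2⁻¹) ∈ Γ
    convert this using 1
    ext <;> simp
  have hb : N = ⊥ := h.small ((Nat.card_le_card_of_injective ι hι).trans hk)
    (mem_of_sw fun x hx => by
      rcases Nat.eq_zero_or_pos x with rfl | h0
      · simp [sw]
      · have := hN (el_mem_closure _ L9 x ((by decide : ∀ x < 8, 0 < x → x ∈ L9) x hx h0))
        rwa [elG, if_neg (by omega), if_neg (by omega)] at this)
    (hN (el_mem_closure _ L9 9 (by decide)))
  have hi : Injective p := (injective_iff_map_eq_one p).2 fun x hx => by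
    have h1 : x.1.1 = 1 := hx
    have h2 : x.1.2 ∈ N := by
      change ((1 : Q), x.1.2) ∈ Γ
      rw [← h1]; exact x.2
    rw [hb, mem_bot] at h2
    exact Subtype.ext (Prod.ext h1 h2)
  let e := MulEquiv.ofBijective p ⟨hi, hp⟩
  refine ⟨((MonoidHom.snd Q G).comp Γ.subtype).comp e.symm.toMonoidHom, fun x hx => ?_⟩
  have : e ⟨(m x, elG z β g x), el_mem_closure (fun x => (m x, elG z β g x)) L9 x hx⟩ = m x := rfl
  rw [← this]
  simp

end Cfsg.Agent.H3L
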