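import Cfsg.Agent.H3L.Defs
import Cfsg.Agent.MC3.Fact

/-! Project H3L: coordinates for `3^(1+4) : SL₂(5)` and for `3⁴ : 2.(A₄ × A₄).4`. -/

set_option autoImplicit false
set_option maxRecDepth 100000
set_option synthInstance.maxSize 4096
set_option Elab.async false

namespace Cfsg.Agent.H3L

open H24 H24.SL5 H76 S3702

/-- the field -/
abbrev F3 := ZMod 3
/-- vectors -/
abbrev V4 := F3 × F3 × F3 × F3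
/-- matrices, by their columns -/
abbrev Mx := V4 × V4 × V4 × V4

def b0 : V4 := (1, 0, 0, 0)
def b1 : V4 := (0, 1, 0, 0)
def b2 : V4 := (0, 0, 1, 0)
def b3 : V4 := (0, 0, 0, 1)
def v2 : V4 := (0, 0, 1, 1)
def IM : Mx := (b0, b1, b2, b3)

/-- matrix times vector -/
def ap (m : Mx) (w : V4) : V4 :=
  (w.1 * m.1.1 + w.2.1 * m.2.1.1 + w.2.2.1 * m.2.2.1.1 + w.2.2.2 * m.2.2.2.1,
   w.1 * m.1.2.1 + w.2.1 * m.2.1.2.1 + w.2.2.1 * m.2.2.1.2.1 + w.2.2.2 * m.2.2.2.2.1,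
   w.1 * m.1.2.2.1 + w.2.1 * m.2.1.2.2.1 + w.2.2.1 * m.2.2.1.2.2.1 + w.2.2.2 * m.2.2.2.2.2.1,
   w.1 * m.1.2.2.2 + w.2.1 * m.2.1.2.2.2 + w.2.2.1 * m.2.2.1.2.2.2 + w.2.2.2 * m.2.2.2.2.2.2)

theorem ap_add (m : Mx) (u w : V4) : ap m (u + w) = ap m u + ap m w := by
  simp only [ap, Prod.fst_add, Prod.snd_add, Prod.mk_add_mk, Prod.mk.injEq]
  refine ⟨?_, ?_, ?_, ?_⟩ <;> ring

theorem f3_cases (k : F3) : k = 0 ∨ k = 1 ∨ k = 2 := by revert k; decide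

theorem eq_ap {f : V4 → V4} (h : ∀ u w, f (u + w) = f u + f w) (w : V4) :
    f w = ap (f b0, f b1, f b2, f b3) w := by
  have h0 : f 0 = 0 := by simpa using h 0 0
  have h1 : ∀ (k : F3) u, f (k • u) = k • f u := fun k u => by
    rcases f3_cases k with rfl | rfl | rfl
    · simpa using h0
    · simp
    · rw [two_smul, two_smul, h]
  have e : w = w.1 • b0 + w.2.1 • b1 + w.2.2.1 • b2 + w.2.2.2 • b3 := by simp [b0, b1, b2, b3]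
  rw [e, h, h, h, h1, h1, h1, h1, ← e]
  rfl

theorem ext4 {f g : V4 → V4} (hf : ∀ u w, f (u + w) = f u + f w) (hg : ∀ u w, g (u + w) = g u + g w)
    (h : f b0 = g b0 ∧ f b1 = g b1 ∧ f b2 = g b2 ∧ f b3 = g b3) (w : V4) : f w = g w := by
  rw [eq_ap hf, eq_ap hg, h.1, h.2.1, h.2.2.1, h.2.2.2]

/-- the action of a word -/
def apw (L : List Mx) : List ℕ → V4 → V4
  | [], u => u
  | i :: w, u => ap (L.getD i IM) (apw L w u)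

theorem apw_add (L : List Mx) : ∀ w u v, apw L w (u + v) = apw L w u + apw L w v
  | [], _, _ => rfl
  | i :: w, u, v => by rw [apw, apw_add L w, ap_add]; rfl

theorem apw_append (L : List Mx) (w' : List ℕ) (u : V4) : ∀ w, apw L (w ++ w') u = apw L w (apw L w' u)
  | [] => rfl
  | i :: w => by rw [List.cons_append, apw, apw_append L w' u w]; rfl

def XM : Mx := ((1, 0, 0, 0), (1, 1, 1, 1), (1, 0, 0, 2), (2, 0, 1, 2))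
def X2 : Mx := ((1, 0, 0, 0), (2, 1, 2, 2), (2, 0, 2, 1), (1, 0, 2, 0))
def YM : Mx := (b1, b2, b3, (2, 2, 2, 2))
def GM : Mx := ((1, 0, 2, 2), (2, 1, 2, 0), (1, 2, 0, 1), (1, 1, 2, 1))
/-- powers of `X` -/
def XP (i : F3) : Mx := if i = 0 then IM else if i = 1 then XM else X2

/-- the invariant alternating forms -/
def fm (p : F3 × F3) (w u : V4) : F3 :=
  p.1 * (w.1 * u.2.1 - w.2.1 * u.1 + w.2.1 * u.2.2.1 - w.2.2.1 * u.2.1 + w.2.2.1 * u.2.2.2 - w.2.2.2 * u.2.2.1) +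
  p.2 * (w.1 * u.2.2.1 - w.2.2.1 * u.1 + w.2.1 * u.2.2.2 - w.2.2.2 * u.2.1 - w.1 * u.2.2.2 + w.2.2.2 * u.1)

/-- words for the elements of `SL₂(5)` -/
def LW : List (List ℕ) :=
  [[], [0], [1], [0, 0], [1, 0], [0, 1], [1, 1], [1, 0, 0], [0, 1, 0], [1, 1, 0], [0, 0, 1], [1, 0, 1], [0, 1, 1], [1, 1, 1], [0, 1, 0, 0], [1, 1, 0, 
  0], [0, 0, 1, 0], [1, 0, 1, 0], [0, 1, 1, 0], [1, 1, 1, 0], [1, 0, 0, 1], [1, 1, 0, 1], [0, 0, 1, 1], [1, 0, 1, 1], [0, 1, 1, 1], [1, 1, 1, 1], [0, 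
  0, 1, 0, 0], [1, 0, 1, 0, 0], [0, 1, 1, 0, 0], [1, 1, 1, 0, 0], [1, 0, 0, 1, 0], [1, 1, 0, 1, 0], [0, 0, 1, 1, 0], [1, 0, 1, 1, 0], [0, 1, 1, 1, 0], 
  [1, 1, 1, 1, 0], [1, 1, 0, 0, 1], [1, 1, 1, 0, 1], [1, 0, 0, 1, 1], [1, 1, 0, 1, 1], [1, 0, 1, 1, 1], [1, 0, 0, 1, 0, 0], [1, 1, 0, 1, 0, 0], [0, 0, 
  1, 1, 0, 0], [1, 0, 1, 1, 0, 0], [0, 1, 1, 1, 0, 0], [1, 1, 1, 1, 0, 0], [1, 1, 0, 0, 1, 0], [1, 1, 1, 0, 1, 0], [1, 0, 0, 1, 1, 0], [1, 1, 0, 1, 1, 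
  0], [1, 0, 1, 1, 1, 0], [0, 1, 1, 0, 0, 1], [1, 1, 1, 0, 0, 1], [0, 1, 1, 1, 0, 1], [1, 1, 1, 1, 0, 1], [1, 1, 0, 0, 1, 1], [1, 1, 1, 0, 1, 1], [1, 
  1, 0, 1, 1, 1], [1, 1, 0, 0, 1, 0, 0], [1, 1, 1, 0, 1, 0, 0], [1, 0, 0, 1, 1, 0, 0], [1, 1, 0, 1, 1, 0, 0], [1, 0, 1, 1, 1, 0, 0], [0, 1, 1, 0, 0, 1, 
  0], [1, 1, 1, 0, 0, 1, 0], [0, 1, 1, 1, 0, 1, 0], [1, 1, 1, 1, 0, 1, 0], [1, 1, 0, 0, 1, 1, 0], [1, 1, 1, 0, 1, 1, 0], [1, 1, 0, 1, 1, 1, 0], [0, 0, 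
  1, 1, 0, 0, 1], [1, 0, 1, 1, 0, 0, 1], [0, 1, 1, 1, 0, 0, 1], [0, 1, 1, 0, 0, 1, 1], [0, 1, 1, 1, 0, 1, 1], [1, 1, 1, 1, 0, 1, 1], [1, 1, 1, 0, 1, 1, 
  1], [0, 1, 1, 0, 0, 1, 0, 0], [1, 1, 1, 0, 0, 1, 0, 0], [0, 1, 1, 1, 0, 1, 0, 0], [1, 1, 1, 1, 0, 1, 0, 0], [1, 1, 0, 0, 1, 1, 0, 0], [1, 1, 1, 0, 1, 
  1, 0, 0], [1, 1, 0, 1, 1, 1, 0, 0], [0, 0, 1, 1, 0, 0, 1, 0], [1, 0, 1, 1, 0, 0, 1, 0], [0, 1, 1, 1, 0, 0, 1, 0], [0, 1, 1, 0, 0, 1, 1, 0], [0, 1, 1, 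
  1, 0, 1, 1, 0], [1, 1, 1, 1, 0, 1, 1, 0], [1, 1, 1, 0, 1, 1, 1, 0], [1, 0, 0, 1, 1, 0, 0, 1], [1, 0, 1, 1, 1, 0, 0, 1], [0, 0, 1, 1, 0, 0, 1, 1], [1, 
  0, 1, 1, 0, 0, 1, 1], [0, 1, 1, 1, 0, 1, 1, 1], [0, 0, 1, 1, 0, 0, 1, 0, 0], [1, 0, 1, 1, 0, 0, 1, 0, 0], [0, 1, 1, 1, 0, 0, 1, 0, 0], [0, 1, 1, 0, 
  0, 1, 1, 0, 0], [0, 1, 1, 1, 0, 1, 1, 0, 0], [1, 1, 1, 1, 0, 1, 1, 0, 0], [1, 1, 1, 0, 1, 1, 1, 0, 0], [1, 0, 0, 1, 1, 0, 0, 1, 0], [1, 0, 1, 1, 1, 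
  0, 0, 1, 0], [0, 0, 1, 1, 0, 0, 1, 1, 0], [1, 0, 1, 1, 0, 0, 1, 1, 0], [0, 1, 1, 1, 0, 1, 1, 1, 0], [1, 1, 0, 0, 1, 1, 0, 0, 1], [1, 1, 0, 1, 1, 1, 
  0, 0, 1], [1, 0, 0, 1, 1, 0, 0, 1, 1], [1, 0, 0, 1, 1, 0, 0, 1, 0, 0], [1, 0, 1, 1, 1, 0, 0, 1, 0, 0], [1, 0, 1, 1, 0, 0, 1, 1, 0, 0], [0, 1, 1, 1, 
  0, 1, 1, 1, 0, 0], [1, 1, 0, 0, 1, 1, 0, 0, 1, 0], [1, 0, 0, 1, 1, 0, 0, 1, 1, 0], [0, 1, 1, 0, 0, 1, 1, 0, 0, 1], [1, 1, 1, 0, 1, 1, 1, 0, 0, 1]]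

/-- the value of a word -/
def w5 : List ℕ → SL5
  | [] => 1
  | i :: w => (if i = 0 then A else Y) * w5 w

/-- its code -/
def c5 : List ℕ → N4
  | [] => one4
  | i :: w => mu (if i = 0 then (0, 1, 4, 4) else (1, 0, 1, 1)) (c5 w)

theorem enc_w5 : ∀ w, enc (w5 w) = c5 w
  | [] => enc_one
  | i :: w => by
    rw [w5, c5, enc_mul, enc_w5 w]
    split_ifs
    · rw [enc_A]
    · rw [show enc Y = (1, 0, 1, 1) by decide +kernel]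

/-- the action of `SL₂(5)` -/
def lam (w : List ℕ) : V4 → V4 := apw [XM, YM] w

/-- the Sylow subgroup: `(w, k, i)` stands for `q w * z ^ k * x ^ i` -/
abbrev SM := V4 × F3 × F3

/-- the product -/
def sm (p : F3 × F3) (s t : SM) : SM :=
  (s.1 + ap (XP s.2.2) t.1, s.2.1 + t.2.1 + 2 * fm p s.1 (ap (XP s.2.2) t.1), s.2.2 + t.2.2)

/-- coordinates of `J`: `z, q b0, q v2, x` -/
def j0 (u : V4) : SM := ((u.2.1, 0, u.2.2.1, u.2.2.1), u.1, u.2.2.2)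

theorem XP_add : ∀ i j w, ap (XP (i + j)) w = ap (XP i) (ap (XP j) w) := by decide +kernel

theorem j0_add : ∀ p u v, j0 (u + v) = sm p (j0 u) (j0 v) := by
  intro p u v
  have h : ∀ i (v : V4), ap (XP i) (j0 v).1 = (j0 v).1 := by decide +kernel
  rw [sm, h]
  simp only [j0, fm, Prod.fst_add, Prod.snd_add, Prod.mk_add_mk, Prod.mk.injEq]
  refine ⟨by simp, by ring, trivial⟩

theorem j0_inj : Function.Injective j0 := fun u v h => by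
  simp only [j0, Prod.mk.injEq] at h
  exact Prod.ext h.2.1 (Prod.ext h.1.1 (Prod.ext h.1.2.2.1 h.2.2))

theorem exists_j0 : ∀ s : SM, ap XM s.1 = s.1 → ∃ u, s = j0 u := fun s h => by
  have h1 : ∀ w : V4, ap XM w = w → w.2.1 = 0 ∧ w.2.2.2 = w.2.2.1 := by decide +kernel
  obtain ⟨⟨a, b, c, d⟩, k, i⟩ := s
  obtain ⟨e1, e2⟩ := h1 _ h
  dsimp only at e1 e2
  subst e1 e2
  exact ⟨(k, a, d, i), rfl⟩

theorem X_j0 : ∀ u, ap XM (j0 u).1 = (j0 u).1 := by decide +kernel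

/-- the form of type `HN` -/
def p0' : F3 × F3 := (1, 2)

def D1 : Mx := ((1, 0, 0, 0), (2, 1, 0, 0), (0, 0, 1, 0), (2, 2, 2, 1))
def D2 : Mx := ((1, 0, 0, 0), (1, 1, 0, 0), (1, 0, 1, 0), (0, 2, 1, 1))
def GJ : Mx := ((1, 0, 0, 0), (0, 1, 2, 0), (0, 2, 2, 0), (0, 0, 0, 2))
def R0 : Mx := ((1, 1, 0, 0), (0, 1, 0, 0), (0, 0, 1, 1), (0, 0, 0, 1))
def NI : Mx := (-b0, -b1, -b2, -b3)
def TM : Mx := ((1, 0, 0, 2), (1, 1, 1, 1), (1, 2, 2, 1), (0, 0, 1, 0))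
def TI : Mx := ((2, 1, 1, 0), (0, 2, 1, 2), (0, 0, 0, 1), (1, 1, 1, 0))

def W9 : List (List ℕ) := [[], [0], [1], [0, 0], [1, 0], [1, 1], [1, 0, 0], [1, 1, 0], [1, 1, 0, 0]]
def W72 : List (List ℕ) :=
  [[], [2], [1], [0], [3], [3, 1], [0, 2], [1, 0], [3, 0], [1, 2], [2, 1], [3, 2], [0, 0], [1, 1], [2, 0], [3, 2, 1], [3, 1, 2], [0, 2, 1], [1, 1, 0], 
  [3, 0, 0], [2, 1, 2], [3, 1, 1], [3, 2, 0], [1, 2, 1], [1, 0, 0], [3, 0, 2], [2, 0, 0], [2, 1, 1], [3, 1, 0], [3, 1, 1, 0], [3, 1, 2, 1], [3, 2, 1, 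
  2], [3, 1, 0, 0], [3, 0, 2, 1], [3, 2, 0, 0], [3, 2, 1, 1]]
def W32 : List (List ℕ) :=
  [[], [3], [0, 3], [1, 3], [2, 3], [3, 3], [2, 0, 3], [2, 1, 3], [3, 1, 3], [3, 2, 3], [0, 3, 3], [1, 3, 3], [2, 3, 3], [3, 2, 0, 3], [3, 2, 1, 3], 
  [0, 3, 2, 3], [1, 3, 2, 3], [2, 3, 2, 3], [2, 0, 3, 3], [2, 1, 3, 3], [3, 2, 3, 3], [0, 3, 2, 0, 3], [1, 3, 2, 0, 3], [2, 3, 2, 0, 3], [3, 3, 2, 0, 
  3], [0, 3, 2, 1, 3], [1, 3, 2, 1, 3], [2, 3, 2, 1, 3], [3, 3, 2, 1, 3], [2, 0, 3, 2, 3], [0, 2, 3, 2, 3], [2, 1, 3, 2, 0, 3]]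
def W24 : List (List ℕ) :=
  [[], [2, 2, 3, 2, 3, 2], [2, 2, 3, 2, 3, 2, 0], [2, 3, 1, 3, 0, 2], [3, 2, 3, 2, 2, 2], [0, 0], [2, 1, 3, 2, 3, 1], [3, 2, 3, 2, 2, 2, 0], [2, 1, 3, 
  1, 2, 3], [2, 1, 3, 1, 2, 3, 0], [2, 2, 0, 3, 2, 3, 2], [2, 0, 3, 1, 2, 3], [2, 2, 3, 2, 3, 2, 0, 0], [2, 2, 3, 1, 3, 1], [3, 2, 0, 3, 3, 2, 0], [0], 
  [0, 3, 2, 3, 2, 2, 2], [2, 0, 3, 1, 2, 3, 0], [2, 3, 2, 1, 3, 1], [3, 2, 0, 3, 3, 2], [2, 3, 1, 3, 2, 1], [0, 3, 2, 3, 2, 2, 2, 0], [3, 2, 3, 2, 0, 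
  2, 2], [2, 0, 3, 2, 3, 1]]

/-- the quadratic form on `J` -/
def Qf (u : V4) : F3 := 2 * u.1 * u.2.2.2 + u.2.1 * u.2.2.1 + u.2.2.1 * u.2.2.1

/-- orbits of `N(Z) ∩ N(J)` -/
def cl (u : V4) : ℕ := if u.2.2.2 = 0 then (if u.2 = 0 then (if u.1 = 0 then 0 else 1) else if Qf u = 0 then 2 else 3)
  else if Qf u = 0 then 4 else 5

/-- representatives -/
def rp (i : ℕ) : V4 := [0, b0, b1, b2, b3, b0 + b3].getD i 0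

/-- the candidates for the set of conjugates of `z` -/
def ins (b c : Bool) (u : V4) : Bool := [false, true, true, false, b, c].getD (cl u) false

/-- generators of `N(J)/J` -/
def gs : List Mx := [D1, D2, GJ, R0]

/-- orthonormal coordinates -/
def tj (v : V3) (k : F3) : V4 := ap TM (v.1, v.2.1, v.2.2, k)

/-- the stabiliser of a non-singular vector -/
def mi (i : Fin 24) (u : V4) : V4 :=
  tj (act i ((ap TI u).1, (ap TI u).2.1, (ap TI u).2.2.1)) (ap TI u).2.2.2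

end Cfsg.Agent.H3L
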